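import Cfsg.Agent.Hall.Existence
import Cfsg.Prelude.Def_Local
import Mathlib.Data.Nat.Factorization.Basic

/-!
Hall's theorems in terms of orders; complements systems (Hall `p`-complements); Frattini argument
for Hall subgroups; Hall subgroups of p-soluble groups.
-/

set_option autoImplicit false

open scoped Pointwise

namespace Cfsg.Agent.Hall

variable {G : Type*} [Group G]

theorem isPiNumber_compl_primeFactors {m n : ℕ} (hmn : m.Coprime n) :
    IsPiNumber (↑m.primeFactors : Set ℕ)ᶜ n :=
  fun _ hp hpn hpm => Nat.not_coprime_of_dvd_of_dvd hp.one_lt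
    (Nat.dvd_of_mem_primeFactors hpm) hpn hmn

theorem isPiHall_of_card [Finite G] {m n : ℕ} (hG : Nat.card G = m * n) (hmn : m.Coprime n)
    {H : Subgroup G} (hH : Nat.card H = m) : Cfsg.IsPiHall (↑m.primeFactors : Set ℕ) H := by
  have hm : m ≠ 0 := fun h => Nat.card_pos.ne' (hG.trans (by rw [h, zero_mul]))
  have hidx : H.index = n := by
    have := H.card_mul_index
    rw [hG, hH] at this
    exact Nat.eq_of_mul_eq_mul_left (Nat.pos_of_ne_zero hm) this
  exact IsPiHall.mk (hH ▸ isPiNumber_primeFactors m hm) (hidx ▸ isPiNumber_compl_primeFactors hmn)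

theorem IsPiHall.card_eq_of_factor [Finite G] {π : Set ℕ} {m n : ℕ} (hG : Nat.card G = m * n)
    (hm : IsPiNumber π m) (hn : IsPiNumber πᶜ n) {H : Subgroup G} (hH : Cfsg.IsPiHall π H) :
    Nat.card H = m :=
  piPart_unique (IsPiHall.isPiNumber_card hH) (IsPiHall.isPiNumber_index hH) hm hn
    (H.card_mul_index.trans hG)

theorem exists_subgroup_card [Finite G] [Group.IsSolvable G] {m n : ℕ}
    (hG : Nat.card G = m * n) (hmn : m.Coprime n) : ∃ H : Subgroup G, Nat.card H = m := by
  have hm : m ≠ 0 := fun h => Nat.card_pos.ne' (hG.trans (by rw [h, zero_mul]))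
  obtain ⟨H, hH⟩ := (hallDom_of_isSolvable (↑m.primeFactors : Set ℕ) G).1
  exact ⟨H, IsPiHall.card_eq_of_factor hG (isPiNumber_primeFactors m hm)
    (isPiNumber_compl_primeFactors hmn) hH⟩

theorem subgroup_card_conj [Finite G] [Group.IsSolvable G] {m n : ℕ}
    (hG : Nat.card G = m * n) (hmn : m.Coprime n) {H K : Subgroup G}
    (hH : Nat.card H = m) (hK : Nat.card K = m) : ∃ g : G, MulAut.conj g • H = K :=
  (hallDom_of_isSolvable _ G).conj (isPiHall_of_card hG hmn hH) (isPiHall_of_card hG hmn hK)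

theorem subgroup_card_dominance [Finite G] [Group.IsSolvable G] {m n : ℕ}
    (hG : Nat.card G = m * n) (hmn : m.Coprime n) {K : Subgroup G}
    (hK : (Nat.card K).Coprime n) : ∃ H : Subgroup G, Nat.card H = m ∧ K ≤ H := by
  have hm : m ≠ 0 := fun h => Nat.card_pos.ne' (hG.trans (by rw [h, zero_mul]))
  have hKm : Nat.card K ∣ m :=
    hK.dvd_of_dvd_mul_right (hG ▸ K.card_subgroup_dvd_card)
  obtain ⟨H, hH, hKH⟩ := (hallDom_of_isSolvable (↑m.primeFactors : Set ℕ) G).exists_le
    ((isPiNumber_primeFactors m hm).of_dvd hKm)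
  exact ⟨H, IsPiHall.card_eq_of_factor hG (isPiNumber_primeFactors m hm)
    (isPiNumber_compl_primeFactors hmn) hH, hKH⟩

/-- A subgroup of order coprime to its index is a Hall subgroup for the primes of its order. -/
theorem isPiHall_primeFactors [Finite G] {H : Subgroup G}
    (h : (Nat.card H).Coprime H.index) :
    Cfsg.IsPiHall (↑(Nat.card H).primeFactors : Set ℕ) H :=
  isPiHall_of_card H.card_mul_index.symm h rfl

/-- Generalised Frattini argument: conjugacy inside a normal subgroup gives `L N_G(H) = G`. -/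
theorem sup_normalizer_eq_top (L : Subgroup G) [L.Normal] {H : Subgroup G}
    (h : ∀ g : G, ∃ l ∈ L, MulAut.conj l • H = MulAut.conj g • H) :
    L ⊔ Subgroup.normalizer (H : Set G) = ⊤ := by
  refine eq_top_iff.mpr fun g _ => ?_
  obtain ⟨l, hl, hg⟩ := h g
  have hn : l⁻¹ * g ∈ Subgroup.normalizer (H : Set G) := by
    rw [Subgroup.mem_normalizer_iff'']
    intro x
    have : MulAut.conj (l⁻¹ * g) • H = H := by rw [conj_mul_smul, ← hg, conj_inv_smul_conj_smul]
    conv_lhs => rw [← this, mem_conj_smul]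
  simpa using Subgroup.mul_mem_sup hl hn

/-- Frattini argument for a Hall subgroup of a solvable normal subgroup. -/
theorem sup_normalizer_hall_eq_top [Finite G] (L : Subgroup G) [L.Normal]
    (hL : Group.IsSolvable L) {H : Subgroup G} (hHL : H ≤ L)
    (hHall : (Nat.card H).Coprime (H.relIndex L)) :
    L ⊔ Subgroup.normalizer (H : Set G) = ⊤ := by
  refine sup_normalizer_eq_top L fun g => ?_
  have hHg : MulAut.conj g • H ≤ L := by
    rw [← conj_smul_of_normal g L]; exact conj_smul_mono g hHL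
  have hG : Nat.card L = Nat.card H * H.relIndex L := by
    rw [← card_subgroupOf_of_le hHL]; exact (H.subgroupOf L).card_mul_index.symm
  obtain ⟨l, hl⟩ := subgroup_card_conj hG hHall (H := H.subgroupOf L)
    (K := (MulAut.conj g • H).subgroupOf L) (card_subgroupOf_of_le hHL)
    (by rw [card_subgroupOf_of_le hHg, card_conj_smul])
  have h' := congrArg (Subgroup.map L.subtype) hl
  rw [map_conj_smul, Subgroup.map_subgroupOf_eq_of_le hHL,
    Subgroup.map_subgroupOf_eq_of_le hHg] at h'
  exact ⟨l, l.2, h'⟩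

theorem isSolvable_of_card_prime_pow [Finite G] {p k : ℕ} (hp : p.Prime)
    (h : Nat.card G = p ^ k) : Group.IsSolvable G := by
  have : Fact p.Prime := ⟨hp⟩
  have := (IsPGroup.of_card h).isNilpotent
  infer_instance

theorem isPiNumber_pow_of_prime_mem {π : Set ℕ} {p : ℕ} (hp : p.Prime) (h : p ∈ π) (k : ℕ) :
    IsPiNumber π (p ^ k) :=
  (IsPiNumber.prime hp h).pow k

theorem eq_pow_of_isPiNumber_singleton {p n : ℕ} (hn : n ≠ 0) (h : IsPiNumber {p} n) :
    ∃ k : ℕ, n = p ^ k :=
  ⟨_, Nat.eq_prime_pow_of_unique_prime_dvd hn fun hd hdn => h _ hd hdn⟩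

/-- In a p-soluble group, Hall `p'`-subgroups exist and dominate all `p'`-subgroups. -/
theorem hallDom_pComplement_of_isPSolvable {G : Type*} [Group G] [Finite G] {p : ℕ}
    (hp : p.Prime) (h : Cfsg.IsPSolvable p G) : HallDom {q | q ≠ p} G := by
  obtain ⟨n, H, h0, hl, hm, hn, hidx⟩ := h
  refine hallDom_of_series (Or.inr fun q _ _ hq _ => ?_) H h0 hl hm hn fun i => ?_
  · have hq' : IsPiNumber {p} (Nat.card q) := fun r hr hrq => by
      by_contra hne
      exact hq r hr hrq hne
    obtain ⟨k, hk⟩ := eq_pow_of_isPiNumber_singleton Nat.card_pos.ne' hq'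
    exact isSolvable_of_card_prime_pow hp hk
  · rcases hidx i with ⟨m, hm'⟩ | hc
    · right
      rw [hm']
      exact isPiNumber_pow_of_prime_mem hp (fun h => h rfl) m
    · left
      exact fun r hr hrd hrp => hp.coprime_iff_not_dvd.mp hc.symm (hrp ▸ hrd)

end Cfsg.Agent.Hall
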