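import Cfsg.Agent.Hall.MinimalNormal

/-!
Hall's theorems: existence, conjugacy and containment of Hall π-subgroups in finite solvable
groups and, more generally, along normal series with π / π' factors.
-/

set_option autoImplicit false

open scoped Pointwise

namespace Cfsg.Agent.Hall

variable {G : Type*} [Group G] {π : Set ℕ}

/-- Hall π-subgroups exist and dominate every π-subgroup (up to conjugation). -/
def HallDom (π : Set ℕ) (G : Type*) [Group G] : Prop :=
  (∃ H : Subgroup G, Cfsg.IsPiHall π H) ∧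
    ∀ H U : Subgroup G, Cfsg.IsPiHall π H → IsPiNumber π (Nat.card U) →
      ∃ g : G, U ≤ MulAut.conj g • H

theorem IsPiHall.map {G' : Type*} [Group G'] {f : G →* G'} (hf : Function.Surjective f)
    {H : Subgroup G} (h : Cfsg.IsPiHall π H) : Cfsg.IsPiHall π (H.map f) :=
  IsPiHall.mk (isPiNumber_card_map f (IsPiHall.isPiNumber_card h))
    ((IsPiHall.isPiNumber_index h).of_dvd (Subgroup.index_map_dvd H hf))

theorem IsPiHall.eq_of_le [Finite G] {H K : Subgroup G} (hH : Cfsg.IsPiHall π H) (hHK : H ≤ K)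
    (hK : IsPiNumber π (Nat.card K)) : H = K :=
  Subgroup.eq_of_le_of_card_ge hHK (Nat.le_of_dvd Nat.card_pos (IsPiHall.card_dvd hH hK))

theorem IsPiHall.normal_le [Finite G] {H M : Subgroup G} [M.Normal] (hH : Cfsg.IsPiHall π H)
    (hM : IsPiNumber π (Nat.card M)) : M ≤ H := by
  have h := IsPiHall.eq_of_le hH (le_sup_right : H ≤ M ⊔ H)
    ((hM.mul (IsPiHall.isPiNumber_card hH)).of_dvd (card_sup_dvd_mul M H))
  exact h ▸ le_sup_left

theorem card_map_mk'_eq [Finite G] (M L : Subgroup G) [M.Normal] (h : M ⊓ L = ⊥) :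
    Nat.card (L.map (QuotientGroup.mk' M)) = Nat.card L := by
  rw [← Subgroup.relIndex_ker, QuotientGroup.ker_mk', ← Subgroup.inf_relIndex_right, h,
    Subgroup.relIndex_bot_left]

/-- Lift of the existence of a Hall subgroup through a π or π' normal subgroup. -/
theorem exists_hall_of_quotient [Finite G] (M : Subgroup G) [M.Normal]
    (hM : IsPiNumber π (Nat.card M) ∨ IsPiNumber πᶜ (Nat.card M))
    (h : ∃ H : Subgroup (G ⧸ M), Cfsg.IsPiHall π H) : ∃ H : Subgroup G, Cfsg.IsPiHall π H := by
  obtain ⟨Hb, hHb⟩ := h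
  set f := QuotientGroup.mk' M
  have hsurj : Function.Surjective f := QuotientGroup.mk'_surjective M
  set L := Hb.comap f
  have hLidx : L.index = Hb.index := Subgroup.index_comap_of_surjective _ hsurj
  have hMfix : ∀ x ∈ M, f x = 1 := fun x hx => (QuotientGroup.eq_one_iff x).mpr hx
  have hML : M ≤ L := fun x hx => by
    rw [Subgroup.mem_comap, hMfix x hx]; exact one_mem _
  have hLc : Nat.card Hb * Nat.card M = Nat.card L := by
    rw [← card_map_mk'_mul M L hML, Subgroup.map_comap_eq_self_of_surjective hsurj]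
  rcases hM with hM | hM
  · exact ⟨L, IsPiHall.mk (hLc ▸ (IsPiHall.isPiNumber_card hHb).mul hM)
      (hLidx ▸ IsPiHall.isPiNumber_index hHb)⟩
  · have hcop : (Nat.card (M.subgroupOf L)).Coprime (M.subgroupOf L).index := by
      rw [card_subgroupOf_of_le hML]
      change (Nat.card M).Coprime (M.relIndex L)
      rw [show M.relIndex L = f.ker.relIndex L from by rw [QuotientGroup.ker_mk'],
        Subgroup.relIndex_ker, Subgroup.map_comap_eq_self_of_surjective hsurj]
      exact ((IsPiHall.isPiNumber_card hHb).coprime hM).symm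
    obtain ⟨K, hK⟩ := Subgroup.exists_right_complement'_of_coprime hcop
    have hKc := hK.card_mul_card
    rw [card_subgroupOf_of_le hML, ← hLc, mul_comm (Nat.card Hb)] at hKc
    have hKc' : Nat.card K = Nat.card Hb := Nat.eq_of_mul_eq_mul_left Nat.card_pos hKc
    refine ⟨K.map L.subtype, IsPiHall.mk ?_ ?_⟩
    · rw [Subgroup.card_map_of_injective L.subtype_injective, hKc']
      exact IsPiHall.isPiNumber_card hHb
    · rw [Subgroup.index_map_subtype, hK.index_eq_card, card_subgroupOf_of_le hML, hLidx]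
      exact hM.mul (IsPiHall.isPiNumber_index hHb)

/-- Lift of dominance through a π normal subgroup, or a π' one with a solvability condition. -/
theorem dom_of_quotient [Finite G] (M : Subgroup G) [M.Normal]
    (hM : IsPiNumber π (Nat.card M) ∨ (IsPiNumber πᶜ (Nat.card M) ∧
      (Group.IsSolvable M ∨
        ∀ U : Subgroup G, IsPiNumber π (Nat.card U) → Group.IsSolvable U)))
    (hdom : ∀ H U : Subgroup (G ⧸ M), Cfsg.IsPiHall π H → IsPiNumber π (Nat.card U) →
      ∃ g : G ⧸ M, U ≤ MulAut.conj g • H)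
    {H U : Subgroup G} (hH : Cfsg.IsPiHall π H) (hU : IsPiNumber π (Nat.card U)) :
    ∃ g : G, U ≤ MulAut.conj g • H := by
  set f := QuotientGroup.mk' M
  have hsurj : Function.Surjective f := QuotientGroup.mk'_surjective M
  obtain ⟨gb, hg⟩ := hdom _ _ (IsPiHall.map hsurj hH) (isPiNumber_card_map f hU)
  obtain ⟨g, rfl⟩ := hsurj gb
  rw [← map_conj_smul] at hg
  have hle : U ≤ M ⊔ MulAut.conj g • H := by
    rw [← comap_map_mk']
    exact fun x hx => hg (Subgroup.mem_map_of_mem f hx)
  rcases hM with hM | ⟨hM, hs⟩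
  · exact ⟨g, by rwa [sup_eq_right.mpr (IsPiHall.normal_le (IsPiHall.conj g hH) hM)] at hle⟩
  · set H' := MulAut.conj g • H
    set U' := (M ⊔ U) ⊓ H' with hU'def
    have hU'le : U' ≤ M ⊔ U := inf_le_left
    have hU'π : IsPiNumber π (Nat.card U') :=
      isPiNumber_card_mono inf_le_right (IsPiHall.isPiNumber_card (IsPiHall.conj g hH))
    have hsup : M ⊔ U = M ⊔ U' := dedekind_normal le_sup_left (sup_le le_sup_left hle)
    have hi : ∀ V : Subgroup G, IsPiNumber π (Nat.card V) → M ⊓ V = ⊥ := fun V hV =>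
      inf_bot_of_coprime (hV.coprime hM).symm
    have hcard : Nat.card U = Nat.card U' := by
      have h1 := card_sup_eq_of_inf_eq_bot M U (hi U hU)
      have h2 := card_sup_eq_of_inf_eq_bot M U' (hi U' hU'π)
      rw [← hsup, h1] at h2
      exact Nat.eq_of_mul_eq_mul_left Nat.card_pos h2
    obtain ⟨a, -, ha⟩ := conj_complement_internal (A := M) (H := U') (K := U)
      (Subgroup.normalizer_eq_top (H := M) ▸ le_top) hsup.symm hcard (hU'π.coprime hM).symm
      (hs.imp_right fun h => h U' hU'π)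
    refine ⟨a * g, ?_⟩
    rw [conj_mul_smul, ← ha]
    exact conj_smul_mono a inf_le_right

theorem hallDom_of_quotient [Finite G] (M : Subgroup G) [M.Normal]
    (hM : IsPiNumber π (Nat.card M) ∨ (IsPiNumber πᶜ (Nat.card M) ∧
      (Group.IsSolvable M ∨
        ∀ U : Subgroup G, IsPiNumber π (Nat.card U) → Group.IsSolvable U)))
    (h : HallDom π (G ⧸ M)) : HallDom π G :=
  ⟨exists_hall_of_quotient M (hM.imp_right And.left) h.1,
    fun _ _ hH hU => dom_of_quotient M hM h.2 hH hU⟩

theorem hallDom_of_subsingleton [Subsingleton G] : HallDom π G :=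
  ⟨⟨⊥, IsPiHall.mk (by rw [Subgroup.card_bot]; exact IsPiNumber.one)
      (by rw [Subgroup.index_bot, Nat.card_unique]; exact IsPiNumber.one)⟩,
    fun H U _ _ => ⟨1, fun x _ => Subsingleton.elim 1 x ▸ one_mem _⟩⟩

theorem isPiNumber_or_of_isPGroup [Finite G] {p : ℕ} (hp : p.Prime) {M : Subgroup G}
    (h : IsPGroup p M) : IsPiNumber π (Nat.card M) ∨ IsPiNumber πᶜ (Nat.card M) := by
  have : Fact p.Prime := ⟨hp⟩
  obtain ⟨k, hk⟩ := IsPGroup.iff_card.mp h
  rw [hk]
  by_cases hpπ : p ∈ π
  · exact Or.inl ((IsPiNumber.prime hp hpπ).pow k)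
  · exact Or.inr ((IsPiNumber.prime hp (π := πᶜ) hpπ).pow k)

universe u

theorem hallDom_solvable_aux (π : Set ℕ) (n : ℕ) :
    ∀ (G : Type u) [Group G] [Finite G] [Group.IsSolvable G], Nat.card G ≤ n → HallDom π G := by
  induction n with
  | zero => intro G _ _ _ h; exact absurd h (not_le.mpr Nat.card_pos)
  | succ n ih =>
    intro G _ _ _ hG
    rcases subsingleton_or_nontrivial G with h | h
    · exact hallDom_of_subsingleton
    obtain ⟨M, p, hMn, hM, hp, hMp, -, -⟩ := exists_minimal_normal_pgroup (G := G)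
    have hlt := card_quotient_lt M hM
    refine hallDom_of_quotient M ?_ (ih (G ⧸ M) (by omega))
    exact (isPiNumber_or_of_isPGroup hp hMp).imp_right
      fun h' => ⟨h', Or.inl inferInstance⟩

/-- **Hall's theorem** for finite solvable groups. -/
theorem hallDom_of_isSolvable (π : Set ℕ) (G : Type*) [Group G] [Finite G] [Group.IsSolvable G] :
    HallDom π G :=
  hallDom_solvable_aux π _ G le_rfl

section consequences

variable [Finite G] (hD : HallDom π G)
include hD

theorem HallDom.conj {H K : Subgroup G} (hH : Cfsg.IsPiHall π H) (hK : Cfsg.IsPiHall π K) :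
    ∃ g : G, MulAut.conj g • H = K := by
  obtain ⟨g, hg⟩ := hD.2 H K hH (IsPiHall.isPiNumber_card hK)
  exact ⟨g, (IsPiHall.eq_of_le hK hg (IsPiHall.isPiNumber_card (IsPiHall.conj g hH))).symm⟩

omit [Finite G] in
theorem HallDom.exists_le {U : Subgroup G} (hU : IsPiNumber π (Nat.card U)) :
    ∃ H : Subgroup G, Cfsg.IsPiHall π H ∧ U ≤ H := by
  obtain ⟨H, hH⟩ := hD.1
  obtain ⟨g, hg⟩ := hD.2 H U hH hU
  exact ⟨_, IsPiHall.conj g hH, hg⟩

theorem HallDom.isCPiGroup : Cfsg.IsCPiGroup π G :=
  ⟨hD.1, fun _ _ hH hK => (hD.conj hH hK).imp fun g hg => by rw [map_conj_eq_smul, hg]⟩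

theorem HallDom.maximal_iff {U : Subgroup G} :
    Maximal (Cfsg.IsPiSubgroup π) U ↔ Cfsg.IsPiHall π U := by
  refine ⟨fun hU => ?_, fun hU => ⟨hU.1, fun K hK hUK => (IsPiHall.eq_of_le hU hUK hK).ge⟩⟩
  obtain ⟨H, hH, hUH⟩ := hD.exists_le hU.1
  rwa [le_antisymm hUH (hU.2 hH.1 hUH)]

theorem HallDom.isDPiGroup : Cfsg.IsDPiGroup π G := fun H K hH hK =>
  (hD.conj (hD.maximal_iff.mp hH) (hD.maximal_iff.mp hK)).imp fun g hg => by
    rw [map_conj_eq_smul, hg]

end consequences

theorem relIndex_map_map_of_ker_le {G' : Type*} [Group G'] (f : G →* G') {A B : Subgroup G}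
    (hA : f.ker ≤ A) (hAB : A ≤ B) : (A.map f).relIndex (B.map f) = A.relIndex B := by
  rw [Subgroup.relIndex_map_map, sup_of_le_left hA, sup_of_le_left (hA.trans hAB)]

theorem hallDom_series_aux (π : Set ℕ) (n : ℕ) :
    ∀ (G : Type u) [Group G] [Finite G],
    (∀ (q : Type u) [Group q] [Finite q], IsPiNumber π (Nat.card q) → Group.IsSolvable q) ∨
    (∀ (q : Type u) [Group q] [Finite q], IsPiNumber πᶜ (Nat.card q) → Nat.card q ∣ Nat.card G →
      Group.IsSolvable q) →
    ∀ (H : Fin (n + 1) → Subgroup G), H 0 = ⊥ → H (Fin.last n) = ⊤ → Monotone H →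
      (∀ i, (H i).Normal) →
      (∀ i : Fin n, IsPiNumber π ((H i.castSucc).relIndex (H i.succ)) ∨
        IsPiNumber πᶜ ((H i.castSucc).relIndex (H i.succ))) → HallDom π G := by
  induction n with
  | zero =>
    intro G _ _ _ H h0 hl _ _ _
    have : Subsingleton G :=
      Subgroup.subsingleton_iff.mp (subsingleton_of_bot_eq_top (h0.symm.trans hl))
    exact hallDom_of_subsingleton
  | succ n ih =>
    intro G _ _ hsol H h0 hl hmono hn hidx
    have := hn 1
    set M := H 1 with hMdef
    set f := QuotientGroup.mk' M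
    have hsurj : Function.Surjective f := QuotientGroup.mk'_surjective M
    have hq : HallDom π (G ⧸ M) := by
      refine ih (G ⧸ M) ?_ (fun i => (H i.succ).map f) ?_ ?_ ?_ ?_ ?_
      · exact hsol.imp id fun h q _ _ h1 h2 =>
          h q h1 (h2.trans (Subgroup.card_quotient_dvd_card M))
      · simp only [Fin.succ_zero_eq_one]
        exact QuotientGroup.map_mk'_self M
      · simp only [Fin.succ_last, hl]
        exact Subgroup.map_top_of_surjective f hsurj
      · exact fun i j h => Subgroup.map_mono (hmono (Fin.succ_le_succ_iff.mpr h))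
      · exact fun i => Subgroup.Normal.map (hn _) f hsurj
      · intro i
        rw [relIndex_map_map_of_ker_le, ← Fin.castSucc_succ]
        · exact hidx i.succ
        · rw [QuotientGroup.ker_mk', hMdef]
          exact hmono (by simp [Fin.le_def])
        · exact hmono (Fin.succ_le_succ_iff.mpr (Fin.castSucc_le_succ i))
    have hM : IsPiNumber π (Nat.card M) ∨ IsPiNumber πᶜ (Nat.card M) := by
      have h := hidx 0
      rwa [Fin.castSucc_zero, h0, Fin.succ_zero_eq_one, ← hMdef,
        Subgroup.relIndex_bot_left] at h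
    refine hallDom_of_quotient M (hM.imp_right fun h => ⟨h, ?_⟩) hq
    exact hsol.symm.imp (fun h' => h' M h (Subgroup.card_subgroup_dvd_card M))
      (fun h' U hU => h' U hU)

/-- Hall's theorems along a normal series with π / π' factors, when π-groups are solvable or
the π'-groups are. -/
theorem hallDom_of_series {π : Set ℕ} {G : Type u} [Group G] [Finite G]
    (hsol : (∀ (q : Type u) [Group q] [Finite q], IsPiNumber π (Nat.card q) → Group.IsSolvable q) ∨
      (∀ (q : Type u) [Group q] [Finite q], IsPiNumber πᶜ (Nat.card q) →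
        Nat.card q ∣ Nat.card G → Group.IsSolvable q))
    {n : ℕ} (H : Fin (n + 1) → Subgroup G) (h0 : H 0 = ⊥) (hl : H (Fin.last n) = ⊤)
    (hm : Monotone H) (hn : ∀ i, (H i).Normal)
    (hidx : ∀ i : Fin n, IsPiNumber π ((H i.castSucc).relIndex (H i.succ)) ∨
        IsPiNumber πᶜ ((H i.castSucc).relIndex (H i.succ))) : HallDom π G :=
  hallDom_series_aux π n G hsol H h0 hl hm hn hidx

end Cfsg.Agent.Hall
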