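import Cfsg.Agent.Hall.CardForms
import Mathlib.GroupTheory.Focal
import Mathlib.GroupTheory.Nilpotent

/-!
Normal complements of Hall subgroups from the iterated focal subgroup.
-/

set_option autoImplicit false

open scoped Pointwise commutatorElement IsMulCommutative

namespace Cfsg.Agent.Hall

variable {G : Type*} [Group G]

theorem focalSubgroup_mono {A B : Subgroup G} (h : A ≤ B) :
    A.focalSubgroup ≤ B.focalSubgroup := by
  rw [Subgroup.focalSubgroup_def, Subgroup.focalSubgroup_def]
  refine Subgroup.closure_mono ?_
  rintro g ⟨hg, x, hx, u, rfl⟩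
  exact ⟨h hg, x, h hx, u, rfl⟩

theorem map_focalSubgroup_le {G' : Type*} [Group G'] (f : G' →* G) (H : Subgroup G') :
    H.focalSubgroup.map f ≤ (H.map f).focalSubgroup := by
  rw [Subgroup.focalSubgroup_def, MonoidHom.map_closure, Subgroup.focalSubgroup_def]
  refine Subgroup.closure_mono ?_
  rintro _ ⟨g, ⟨hg, x, hx, u, rfl⟩, rfl⟩
  exact ⟨Subgroup.mem_map_of_mem f hg, f x, Subgroup.mem_map_of_mem f hx, f u,
    map_commutatorElement f x u⟩

theorem map_iterate_focal_le {G' : Type*} [Group G'] (f : G' →* G) (n : ℕ) (H : Subgroup G') :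
    ((fun K : Subgroup G' => K.focalSubgroup)^[n] H).map f ≤
      (fun K : Subgroup G => K.focalSubgroup)^[n] (H.map f) := by
  induction n generalizing H with
  | zero => exact le_rfl
  | succ n ih =>
    simp only [Function.iterate_succ_apply]
    refine (ih _).trans ?_
    have hmono : ∀ m (A B : Subgroup G), A ≤ B →
        (fun K : Subgroup G => K.focalSubgroup)^[m] A ≤ (fun K : Subgroup G => K.focalSubgroup)^[m] B := by
      intro m
      induction m with
      | zero => exact fun _ _ h => h
      | succ m ihm =>
        intro A B h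
        simp only [Function.iterate_succ_apply]
        exact ihm _ _ (focalSubgroup_mono h)
    exact hmono n _ _ (map_focalSubgroup_le f H)

/-- In a normal subgroup, the elements of order coprime to a coprime index lie in it. -/
theorem mem_of_coprime_index [Finite G] (N : Subgroup G) [N.Normal] {x : G}
    (h : (orderOf x).Coprime N.index) : x ∈ N := by
  rw [← QuotientGroup.eq_one_iff, ← orderOf_eq_one_iff]
  exact Nat.eq_one_of_dvd_coprimes h (orderOf_map_dvd (QuotientGroup.mk' N) x) (orderOf_dvd_natCard _)

universe u

theorem exists_normal_complement_of_focal_aux (n : ℕ) :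
    ∀ (G : Type u) [Group G] [Finite G] (H : Subgroup G), (Nat.card H).Coprime H.index →
      (fun K : Subgroup G => K.focalSubgroup)^[n] H = ⊥ →
      ∃ N : Subgroup G, N.Normal ∧ Subgroup.IsComplement' N H := by
  induction n with
  | zero =>
    intro G _ _ H _ h
    exact ⟨⊤, inferInstance, by rw [Function.iterate_zero_apply] at h; rw [h]; exact Subgroup.isComplement'_top_bot⟩
  | succ n ih =>
    intro G _ _ H hcop h
    rw [Function.iterate_succ_apply] at h
    set F := H.focalSubgroup with hF
    set V := H.transferFocal with hV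
    set K := V.ker with hK
    have hQ : (Nat.card (H ⧸ H.focalSubgroupOf)).Coprime H.index :=
      hcop.coprime_dvd_left (Subgroup.card_quotient_dvd_card _)
    -- `K ∩ H = F`
    have hKH : ∀ x : H, (x : G) ∈ K ↔ x ∈ H.focalSubgroupOf := by
      intro x
      rw [hK, MonoidHom.mem_ker, hV, Subgroup.transferFocal_eq_pow]
      rw [← QuotientGroup.eq_one_iff]
      constructor
      · intro h1
        exact (powCoprime hQ).injective (by simpa using h1)
      · intro h1
        rw [h1, one_pow]
    have hFK : F ≤ K := by
      intro x hx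
      exact (hKH ⟨x, H.focalSubgroup_le hx⟩).mpr hx
    have hsurj : Function.Surjective V := by
      intro q
      obtain ⟨r, hr⟩ := (powCoprime hQ).surjective q
      obtain ⟨x, rfl⟩ := QuotientGroup.mk'_surjective _ r
      exact ⟨x, by rw [hV, Subgroup.transferFocal_eq_pow]; exact hr⟩
    have hKidx : K.index = Nat.card (H ⧸ H.focalSubgroupOf) := by
      rw [hK, Subgroup.index_ker, MonoidHom.range_eq_top_of_surjective V hsurj, Subgroup.card_top]
    have hcF : Nat.card (H ⧸ H.focalSubgroupOf) * Nat.card F = Nat.card H := by
      rw [← card_subgroupOf_of_le H.focalSubgroup_le]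
      exact (Subgroup.card_eq_card_quotient_mul_card_subgroup H.focalSubgroupOf).symm
    -- `F` is a Hall subgroup of `K`
    have hidxF : (F.subgroupOf K).index = H.index := by
      have h1 := Subgroup.relIndex_mul_index hFK
      have h2 := F.card_mul_index
      have h3 := H.card_mul_index
      rw [← h1, hKidx] at h2
      rw [← hcF, ← h2] at h3
      have hpos : 0 < Nat.card (H ⧸ H.focalSubgroupOf) * Nat.card F :=
        Nat.mul_pos Nat.card_pos Nat.card_pos
      apply Nat.eq_of_mul_eq_mul_left hpos
      rw [h3]
      change _ * (F.relIndex K) = _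
      ring
    have hcop' : (Nat.card (F.subgroupOf K)).Coprime (F.subgroupOf K).index := by
      rw [hidxF, card_subgroupOf_of_le hFK]
      exact hcop.coprime_dvd_left (Subgroup.card_dvd_of_le H.focalSubgroup_le)
    have hfoc : (fun L : Subgroup K => L.focalSubgroup)^[n] (F.subgroupOf K) = ⊥ := by
      rw [← Subgroup.map_eq_bot_iff_of_injective _ K.subtype_injective, eq_bot_iff]
      refine (map_iterate_focal_le K.subtype n _).trans ?_
      rw [Subgroup.map_subgroupOf_eq_of_le hFK, h]
    obtain ⟨N, hN, hc⟩ := ih K (F.subgroupOf K) hcop' hfoc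
    set N' := N.map K.subtype
    have hNidx : N.index = Nat.card F := by
      rw [hc.symm.index_eq_card, card_subgroupOf_of_le hFK]
    have hNc : Nat.card N' = H.index := by
      rw [Subgroup.card_map_of_injective K.subtype_injective, ← hc.index_eq_card, hidxF]
    have hNn : N'.Normal := by
      refine ⟨fun x hx g => ?_⟩
      obtain ⟨y, hy, rfl⟩ := Subgroup.mem_map.mp hx
      have hgy : g * (y : G) * g⁻¹ ∈ K := (inferInstance : V.ker.Normal).conj_mem _ y.2 g
      refine ⟨⟨_, hgy⟩, mem_of_coprime_index N ?_, rfl⟩
      rw [← Subgroup.orderOf_coe, hNidx]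
      change (orderOf (g * (y : G) * g⁻¹)).Coprime _
      rw [show g * (y : G) * g⁻¹ = MulAut.conj g (y : G) from rfl, MulEquiv.orderOf_eq,
        Subgroup.orderOf_coe]
      refine (hcop.symm.coprime_dvd_left ?_).coprime_dvd_right
        (Subgroup.card_dvd_of_le H.focalSubgroup_le)
      rw [← hNc, Subgroup.card_map_of_injective K.subtype_injective]
      exact N.orderOf_dvd_natCard hy
    refine ⟨N', hNn, Subgroup.isComplement'_of_coprime ?_ (hNc.symm ▸ hcop.symm)⟩
    rw [hNc, Subgroup.index_mul_card]

/-- If the iterated focal subgroup of a Hall subgroup reaches `⊥`, it has a normal complement. -/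
theorem exists_normal_complement_of_focal {G : Type*} [Group G] [Finite G] (H : Subgroup G)
    (hcop : (Nat.card H).Coprime H.index) (n : ℕ)
    (h : (fun K : Subgroup G => K.focalSubgroup)^[n] H = ⊥) :
    ∃ N : Subgroup G, N.Normal ∧ Subgroup.IsComplement' N H :=
  exists_normal_complement_of_focal_aux n G H hcop h

end Cfsg.Agent.Hall
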