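import Cfsg.Agent.Hall.PComplement
import Cfsg.Agent.H24.Basic
import Cfsg.Prelude.Def_SolvableStructure
import Mathlib.GroupTheory.Nilpotent
import Mathlib.GroupTheory.Commutator.Basic
import Cfsg.Agent.H24.Nilp

/-!
Complement systems and system normalizers of finite solvable groups.
-/

set_option autoImplicit false

open scoped Pointwise commutatorElement

namespace Cfsg.Agent.Hall

variable {G : Type*} [Group G]

/-- Cosets of two subgroups of coprime index meet. -/
theorem exists_inv_mul_mem_of_coprime [Finite G] {H K : Subgroup G}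
    (h : H.index.Coprime K.index) (x y : G) : ∃ n, x⁻¹ * n ∈ H ∧ y⁻¹ * n ∈ K := by
  obtain ⟨a, ha, b, hb, hab⟩ := H24.exists_mul_of_coprime_index H K h (x⁻¹ * y)
  refine ⟨x * a, by simpa using ha, ?_⟩
  have : y = x * (a * b) := by rw [← hab]; group
  rw [this]
  simpa [mul_assoc] using hb

theorem index_inf_of_coprime [Finite G] {H K : Subgroup G} (h : H.index.Coprime K.index) :
    (H ⊓ K).index = H.index * K.index := by
  rw [← Subgroup.relIndex_mul_index (inf_le_right : H ⊓ K ≤ K), Subgroup.inf_relIndex_right,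
    H24.relIndex_eq_index_of_coprime H K h]

/-- Cosets of finitely many subgroups of pairwise coprime index meet. -/
theorem exists_forall_inv_mul_mem [Finite G] {ι : Type*} (s : Finset ι) (H : ι → Subgroup G)
    (x : ι → G)
    (hcop : ∀ i ∈ s, ∀ j ∈ s, i ≠ j → (H i).index.Coprime (H j).index) :
    ∃ n : G, ∀ i ∈ s, (x i)⁻¹ * n ∈ H i := by
  classical
  suffices h : ∃ n : G, (∀ i ∈ s, (x i)⁻¹ * n ∈ H i) ∧
      ∀ m : ℕ, (∀ i ∈ s, m.Coprime (H i).index) → m.Coprime (s.inf H).index by
    exact h.imp fun n hn => hn.1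
  induction s using Finset.induction_on with
  | empty => exact ⟨1, by simp, fun m _ => by simp⟩
  | insert a s ha ih =>
    obtain ⟨n, hn, hidx⟩ := ih fun i hi j hj =>
      hcop i (Finset.mem_insert_of_mem hi) j (Finset.mem_insert_of_mem hj)
    have hc : (H a).index.Coprime (s.inf H).index := hidx _ fun i hi =>
      hcop a (Finset.mem_insert_self a s) i (Finset.mem_insert_of_mem hi) fun h => ha (h ▸ hi)
    obtain ⟨n', h1, h2⟩ := exists_inv_mul_mem_of_coprime hc (x a) n
    refine ⟨n', fun i hi => ?_, fun m hm => ?_⟩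
    · rcases Finset.mem_insert.mp hi with rfl | hi
      · exact h1
      · have := (H i).mul_mem (hn i hi) ((Finset.inf_le hi : s.inf H ≤ H i) h2)
        simpa [mul_assoc] using this
    · rw [Finset.inf_insert, index_inf_of_coprime hc]
      exact (hm a (Finset.mem_insert_self a s)).mul_right
        (hidx m fun i hi => hm i (Finset.mem_insert_of_mem hi))

/-- For normal `N`, the index of `N ⊓ K` in `N` divides that of `K`. -/
theorem relIndex_dvd_index_normal_right [Finite G] (K N : Subgroup G) [N.Normal] :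
    K.relIndex N ∣ K.index := by
  have h1 := card_sup_mul_card_inf N K
  have h2 := Subgroup.relIndex_mul_relIndex ⊥ (K ⊓ N) N bot_le inf_le_right
  rw [Subgroup.relIndex_bot_left, Subgroup.relIndex_bot_left, Subgroup.inf_relIndex_right,
    inf_comm] at h2
  have h3 : K.relIndex N * Nat.card K ∣ K.index * Nat.card K := by
    rw [Subgroup.index_mul_card]
    refine dvd_trans (Dvd.intro_left 1 ?_) (N ⊔ K).card_subgroup_dvd_card
    apply Nat.eq_of_mul_eq_mul_right (Nat.card_pos (α := (N ⊓ K : Subgroup G)))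
    rw [h1, ← h2]; ring
  exact Nat.dvd_of_mul_dvd_mul_right Nat.card_pos h3

theorem IsPiHall.subgroupOf [Finite G] {π : Set ℕ} {H T : Subgroup G} (hH : Cfsg.IsPiHall π H)
    (hHT : H ≤ T) : Cfsg.IsPiHall π (H.subgroupOf T) :=
  IsPiHall.mk (by rw [card_subgroupOf_of_le hHT]; exact IsPiHall.isPiNumber_card hH)
    ((IsPiHall.isPiNumber_index hH).of_dvd (Subgroup.relIndex_dvd_index_of_le hHT))

theorem eq_top_of_not_dvd [Finite G] {K : Nat.Primes → Subgroup G}
    (hK : Cfsg.IsComplementSystem K) {p : Nat.Primes} (h : ¬ (p : ℕ) ∣ Nat.card G) : K p = ⊤ := by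
  rw [← Subgroup.index_eq_one, hK p, Nat.factorization_eq_zero_of_not_dvd h, pow_zero]

theorem complementSystem_isPiHall [Finite G] {K : Nat.Primes → Subgroup G}
    (hK : Cfsg.IsComplementSystem K) (p : Nat.Primes) :
    Cfsg.IsPiHall {q | q ≠ (p : ℕ)} (K p) :=
  isPiHall_ne_of_index_eq p.2 (hK p)

theorem mem_systemNormalizer {K : Nat.Primes → Subgroup G} {g : G} :
    g ∈ Cfsg.systemNormalizer K ↔ ∀ p, MulAut.conj g • K p = K p := by
  rw [Cfsg.systemNormalizer, Subgroup.mem_iInf]
  refine forall_congr' fun p => ?_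
  constructor
  · intro h
    ext x
    rw [mem_conj_smul]
    exact (Subgroup.mem_normalizer_iff''.mp h x).symm
  · intro h
    rw [Subgroup.mem_normalizer_iff'']
    intro x
    conv_lhs => rw [← h, mem_conj_smul]

/-- Simultaneous adjustment: for `g` with all images of `K p` modulo `N` fixed by `g`,
some `g n`, `n ∈ N`, lies in the system normalizer. -/
theorem exists_mul_mem_systemNormalizer [Finite G] [Group.IsSolvable G]
    {K : Nat.Primes → Subgroup G} (hK : Cfsg.IsComplementSystem K) (N : Subgroup G) [N.Normal]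
    {g : G} (hg : ∀ p, N ⊔ MulAut.conj g • K p = N ⊔ K p) :
    ∃ n ∈ N, g * n ∈ Cfsg.systemNormalizer K := by
  classical
  have key : ∀ p, ∃ n : N, MulAut.conj (g * n) • K p = K p := by
    intro p
    set T := N ⊔ K p with hT
    have h1 : K p ≤ T := le_sup_right
    have h2 : MulAut.conj g⁻¹ • K p ≤ T := by
      have h := conj_smul_mono g⁻¹ (le_sup_right : K p ≤ N ⊔ K p)
      rw [← hg p, Subgroup.smul_sup, conj_smul_of_normal g⁻¹ N, conj_inv_smul_conj_smul] at h
      exact h
    obtain ⟨x, hx⟩ := (hallDom_of_isSolvable {q | q ≠ (p : ℕ)} T).conj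
      (IsPiHall.subgroupOf (complementSystem_isPiHall hK p) h1)
      (IsPiHall.subgroupOf (IsPiHall.conj g⁻¹ (complementSystem_isPiHall hK p)) h2)
    have h' := congrArg (Subgroup.map T.subtype) hx
    rw [map_conj_smul, Subgroup.map_subgroupOf_eq_of_le h1,
      Subgroup.map_subgroupOf_eq_of_le h2] at h'
    obtain ⟨n, hn, k, hk, hnk⟩ := Subgroup.mem_sup_of_normal_left.mp (x.2 : (x : G) ∈ N ⊔ K p)
    refine ⟨⟨n, hn⟩, ?_⟩
    change MulAut.conj (x : G) • K p = MulAut.conj g⁻¹ • K p at h'
    rw [← hnk, conj_mul_smul, conj_smul_eq_self_of_mem hk] at h'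
    change MulAut.conj (g * n) • K p = K p
    rw [conj_mul_smul, h', ← conj_mul_smul, mul_inv_cancel, map_one, one_smul]
  choose n hn using key
  let s : Finset Nat.Primes := (Nat.card G).primeFactors.subtype Nat.Prime
  obtain ⟨m, hm⟩ := exists_forall_inv_mul_mem (G := N) s (fun p => (K p).subgroupOf N) n
    (by
      intro i _ j _ hij
      refine ((Nat.Coprime.coprime_dvd_left (relIndex_dvd_index_normal_right (K i) N))
        (Nat.Coprime.coprime_dvd_right (relIndex_dvd_index_normal_right (K j) N) ?_))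
      rw [hK i, hK j]
      exact Nat.coprime_pow_primes _ _ i.2 j.2 fun h => hij (Subtype.ext h))
  refine ⟨m, m.2, mem_systemNormalizer.mpr fun p => ?_⟩
  by_cases hp : (p : ℕ) ∣ Nat.card G
  · have hps : p ∈ s :=
      Finset.mem_subtype.mpr (Nat.mem_primeFactors.mpr ⟨p.2, hp, Nat.card_pos.ne'⟩)
    have hkp : ((n p : G))⁻¹ * (m : G) ∈ K p := hm p hps
    have e : g * (m : G) = g * (n p : G) * ((n p : G)⁻¹ * m) := by group
    rw [e, conj_mul_smul, conj_smul_eq_self_of_mem hkp, hn p]
  · rw [eq_top_of_not_dvd hK hp]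
    exact conj_smul_of_normal _ _

/-- A central chief factor (indeed any central normal section) is covered. -/
theorem le_sup_systemNormalizer [Finite G] [Group.IsSolvable G] {K : Nat.Primes → Subgroup G}
    (hK : Cfsg.IsComplementSystem K) (A B : Subgroup G) [A.Normal]
    (h : ⁅B, (⊤ : Subgroup G)⁆ ≤ A) : B ≤ A ⊔ Cfsg.systemNormalizer K := by
  intro b hb
  have hfix : ∀ p, A ⊔ MulAut.conj b • K p = A ⊔ K p := by
    intro p
    have hmap : (MulAut.conj b • K p).map (QuotientGroup.mk' A) =
        (K p).map (QuotientGroup.mk' A) := by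
      rw [map_conj_smul]
      refine conj_smul_of_le_normalizer (H := Subgroup.zpowers ((b : G) : G ⧸ A)) ?_
        (Subgroup.mem_zpowers _)
      rw [Subgroup.zpowers_le]
      apply Subgroup.centralizer_le_normalizer
      rw [Subgroup.mem_centralizer_iff]
      rintro _ ⟨k, -, rfl⟩
      have hbk : ⁅b, k⁆ ∈ A := h (Subgroup.commutator_mem_commutator hb (Subgroup.mem_top k))
      have h1 := (QuotientGroup.eq_one_iff _).mpr hbk
      change (((⁅b, k⁆ : G) : G ⧸ A)) = 1 at h1
      change (k : G ⧸ A) * (b : G ⧸ A) = (b : G ⧸ A) * (k : G ⧸ A)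
      rw [commutatorElement_def, QuotientGroup.mk_mul, QuotientGroup.mk_mul, QuotientGroup.mk_mul,
        QuotientGroup.mk_inv, QuotientGroup.mk_inv, mul_inv_eq_one, mul_inv_eq_iff_eq_mul] at h1
      exact h1.symm
    exact sup_eq_of_map_mk'_eq hmap
  obtain ⟨a, ha, had⟩ := exists_mul_mem_systemNormalizer hK A hfix
  have := Subgroup.mul_mem_sup (A.inv_mem (‹A.Normal›.conj_mem a ha b)) had
  simpa [mul_assoc] using this

/-- A non-central minimal normal subgroup of a solvable group meets `N_G(K)` trivially, for a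
`p`-complement `K` with `p` dividing its order. -/
theorem inf_normalizer_eq_bot [Finite G] [Group.IsSolvable G] {B : Subgroup G} [B.Normal]
    (hmin : ∀ N : Subgroup G, N.Normal → N ≤ B → N = ⊥ ∨ N = B) {q : ℕ} (hq : q.Prime)
    (hBq : IsPGroup q B) [IsMulCommutative B] {K : Subgroup G}
    (hK : Cfsg.IsPiHall {r | r ≠ q} K) (hnc : ¬ B ≤ Subgroup.center G) :
    B ⊓ Subgroup.normalizer (K : Set G) = ⊥ := by
  have : Fact q.Prime := ⟨hq⟩
  set M := Subgroup.centralizer (B : Set G) with hM
  have hMn : M.Normal := inferInstance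
  have : Nontrivial (G ⧸ M) := by
    refine QuotientGroup.nontrivial_iff.mpr fun h => hnc ?_
    intro b hb
    rw [Subgroup.mem_center_iff]
    intro g
    exact ((h ▸ Subgroup.mem_top g : g ∈ M) b hb).symm
  obtain ⟨Rb, r, hRn, hR, hr, hRr, -, -⟩ := exists_minimal_normal_pgroup (G := G ⧸ M)
  set f := QuotientGroup.mk' M with hf
  set R := Rb.comap f with hRdef
  have hRn' : R.Normal := hRn.comap f
  set C := B ⊓ Subgroup.centralizer (R : Set G) with hC
  have hCn : C.Normal := inferInstance
  have hRM : ¬ R ≤ M := by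
    intro h
    apply hR
    have hsurj : Function.Surjective f := QuotientGroup.mk'_surjective M
    rw [← Subgroup.map_comap_eq_self_of_surjective hsurj Rb, Subgroup.map_eq_bot_iff,
      QuotientGroup.ker_mk']
    exact h
  have hCbot : C = ⊥ := by
    refine (hmin C hCn inf_le_left).resolve_right fun h => hRM ?_
    intro x hx b hb
    have hb' : b ∈ C := h.symm ▸ hb
    exact ((Subgroup.mem_inf.mp hb').2 x hx).symm
  -- elements of `R` come from `M` and any subgroup covering `Rb`
  have hgen : ∀ {S : Subgroup G}, Rb ≤ S.map f → ∀ d ∈ B,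
      (∀ s ∈ S, s * d = d * s) → d ∈ C := by
    intro S hS d hd hds
    refine ⟨hd, fun x hx => ?_⟩
    obtain ⟨s, hs, hse⟩ := hS hx
    have hm : s⁻¹ * x ∈ M := QuotientGroup.eq.mp hse
    have h1 : d * (s⁻¹ * x) = s⁻¹ * x * d := hm d hd
    have e : x = s * (s⁻¹ * x) := by group
    rw [e, mul_assoc, ← h1, ← mul_assoc, hds s hs, mul_assoc]
  -- `Rb` is not a `q`-group
  have hrq : r ≠ q := by
    rintro rfl
    obtain ⟨S⟩ := (inferInstance : Nonempty (Sylow r G))
    have hBS : B ≤ S := by
      have h := hBq.to_sup_of_normal_left S.2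
      exact le_sup_left.trans (S.3 h le_sup_right).le
    have hmapS : Cfsg.IsPiHall {r} ((S : Subgroup G).map f) := by
      refine IsPiHall.map (QuotientGroup.mk'_surjective M) (IsPiHall.mk ?_ ?_)
      · rw [S.card_eq_multiplicity]
        exact isPiNumber_pow_of_prime_mem hr (Set.mem_singleton r) _
      · intro t ht htd htr
        rw [Set.mem_singleton_iff] at htr
        subst htr
        exact S.not_dvd_index htd
    have hRS : Rb ≤ (S : Subgroup G).map f := by
      refine IsPiHall.normal_le hmapS ?_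
      obtain ⟨k, hk⟩ := IsPGroup.iff_card.mp hRr
      rw [hk]
      exact isPiNumber_pow_of_prime_mem hr (Set.mem_singleton r) k
    have : Group.IsNilpotent (S : Subgroup G) := S.2.isNilpotent
    have hBne : B ≠ ⊥ := by rintro rfl; exact hnc bot_le
    have hbne : B.subgroupOf (S : Subgroup G) ≠ ⊥ := by
      rw [Ne, Subgroup.subgroupOf_eq_bot]
      intro h
      exact hBne (le_bot_iff.mp ((le_inf le_rfl hBS).trans (le_of_eq h.eq_bot)))
    obtain ⟨⟨d, hdS⟩, ⟨hdB, hdc⟩, hd1⟩ := (Subgroup.bot_or_exists_ne_one _).resolve_left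
      (H24.inf_center_ne_bot (B.subgroupOf (S : Subgroup G)) hbne)
    have hdC : d ∈ C := hgen hRS d hdB fun s hs =>
      congrArg Subtype.val (Subgroup.mem_center_iff.mp hdc ⟨s, hs⟩)
    rw [hCbot, Subgroup.mem_bot] at hdC
    exact hd1 (Subtype.ext hdC)
  have hRK : Rb ≤ K.map f := by
    refine IsPiHall.normal_le (IsPiHall.map (QuotientGroup.mk'_surjective M) hK) ?_
    have : Fact r.Prime := ⟨hr⟩
    obtain ⟨k, hk⟩ := IsPGroup.iff_card.mp hRr
    rw [hk]
    exact isPiNumber_pow_of_prime_mem hr (show r ∈ {t | t ≠ q} from hrq) k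
  rw [eq_bot_iff]
  intro d hd
  obtain ⟨hdB, hdN⟩ := hd
  rw [← hCbot]
  refine hgen hRK d hdB fun s hs => ?_
  have h1 : d * s * d⁻¹ * s⁻¹ ∈ B ⊓ K := by
    refine ⟨?_, K.mul_mem ((Subgroup.mem_normalizer_iff.mp hdN s).mp hs) (K.inv_mem hs)⟩
    have := B.mul_mem hdB (‹B.Normal›.conj_mem d⁻¹ (B.inv_mem hdB) s)
    simpa [mul_assoc] using this
  have h2 : B ⊓ K = ⊥ := by
    obtain ⟨k, hk⟩ := IsPGroup.iff_card.mp hBq
    refine inf_bot_of_coprime ?_
    rw [hk]
    exact (isPiNumber_pow_of_prime_mem hq (π := {r | r ≠ q}ᶜ) (fun h => h rfl) k |> fun h =>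
      ((IsPiHall.isPiNumber_card hK).coprime h).symm)
  rw [h2, Subgroup.mem_bot, mul_inv_eq_one, mul_inv_eq_iff_eq_mul] at h1
  exact h1.symm

end Cfsg.Agent.Hall
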