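import Cfsg.Agent.Hall.SchurZassenhaus

/-!
Minimal normal subgroups of finite groups; in a solvable group they are elementary abelian.
-/

set_option autoImplicit false

open scoped Pointwise

namespace Cfsg.Agent.Hall

variable {G : Type*} [Group G]

/-- Every nontrivial normal subgroup contains a minimal normal subgroup. -/
theorem exists_minimal_normal_le [Finite G] (N : Subgroup G) [N.Normal] (hN : N ≠ ⊥) :
    ∃ M : Subgroup G, M.Normal ∧ M ≠ ⊥ ∧ M ≤ N ∧
      ∀ K : Subgroup G, K.Normal → K ≤ M → K = ⊥ ∨ K = M := by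
  obtain ⟨M, hMN, ⟨hMn, hM⟩, hmin⟩ := exists_minimal_le_of_wellFoundedLT
    (fun K : Subgroup G => K.Normal ∧ K ≠ ⊥) N ⟨‹_›, hN⟩
  exact ⟨M, hMn, hM, hMN, fun K hK hKM => (eq_or_ne K ⊥).imp_right
    fun hne => le_antisymm hKM (hmin ⟨hK, hne⟩ hKM)⟩

/-- A minimal normal subgroup that is solvable is an elementary abelian `p`-group. -/
theorem minimal_normal_elementary [Finite G] {N : Subgroup G} [N.Normal] (hN : N ≠ ⊥)
    (hmin : ∀ K : Subgroup G, K.Normal → K ≤ N → K = ⊥ ∨ K = N) (hsolv : Group.IsSolvable N) :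
    IsMulCommutative N ∧ ∃ p : ℕ, p.Prime ∧ IsPGroup p N ∧ ∀ x ∈ N, x ^ p = 1 := by
  obtain ⟨M, hMn, hM, hMN, hMc⟩ := exists_abelian_normal_le N hN hsolv
  obtain rfl : M = N := (hmin M hMn hMN).resolve_left hM
  have hnt := (Subgroup.nontrivial_iff_ne_bot M).mpr hN
  obtain ⟨p, C, hp, hCc, hC, hCp⟩ := exists_char_pgroup (L := M)
  have : Fact p.Prime := ⟨hp⟩
  have hCM : C.map M.subtype = M := by
    refine (hmin _ inferInstance (Subgroup.map_subtype_le _)).resolve_left ?_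
    rw [Subgroup.map_eq_bot_iff_of_injective _ M.subtype_injective]; exact hC
  have hMp : IsPGroup p M := hCM ▸ hCp.map M.subtype
  refine ⟨hMc, p, hp, hMp, ?_⟩
  -- the elements of order dividing `p` form a normal subgroup
  let E : Subgroup G :=
    { carrier := {x | x ∈ M ∧ x ^ p = 1}
      one_mem' := ⟨one_mem _, one_pow _⟩
      mul_mem' := by
        rintro a b ⟨ha, ha'⟩ ⟨hb, hb'⟩
        refine ⟨mul_mem ha hb, ?_⟩
        have hc : Commute a b := congrArg Subtype.val (hMc.is_comm.comm ⟨a, ha⟩ ⟨b, hb⟩)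
        rw [hc.mul_pow, ha', hb', mul_one]
      inv_mem' := by
        rintro a ⟨ha, ha'⟩
        exact ⟨inv_mem ha, by rw [inv_pow, ha', inv_one]⟩ }
  have hEM : E ≤ M := fun x hx => hx.1
  have hEn : E.Normal := ⟨fun x hx g => ⟨hMn.conj_mem x hx.1 g, by
    rw [conj_pow, hx.2, mul_one, mul_inv_cancel]⟩⟩
  have hE : E ≠ ⊥ := by
    obtain ⟨k, hk, hk'⟩ := hMp.nontrivial_iff_card.mp hnt
    obtain ⟨x, hx⟩ := exists_prime_orderOf_dvd_card' (G := M) p (hk' ▸ dvd_pow_self p hk.ne')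
    intro h
    have hxE : (x : G) ∈ E := ⟨x.2, by
      rw [← SubmonoidClass.coe_pow, ← hx, pow_orderOf_eq_one, Subgroup.coe_one]⟩
    rw [h, Subgroup.mem_bot, OneMemClass.coe_eq_one] at hxE
    rw [hxE, orderOf_one] at hx
    exact hp.one_lt.ne hx
  intro x hx
  rw [← (hmin E hEn hEM).resolve_left hE] at hx
  exact hx.2

/-- In a finite solvable group a minimal normal subgroup is an elementary abelian `p`-group. -/
theorem minimal_normal_of_solvable [Finite G] [Group.IsSolvable G] {N : Subgroup G} [N.Normal]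
    (hN : N ≠ ⊥) (hmin : ∀ K : Subgroup G, K.Normal → K ≤ N → K = ⊥ ∨ K = N) :
    IsMulCommutative N ∧ ∃ p : ℕ, p.Prime ∧ IsPGroup p N ∧ ∀ x ∈ N, x ^ p = 1 :=
  minimal_normal_elementary hN hmin inferInstance

/-- A nontrivial finite solvable group has a minimal normal subgroup, which is a `p`-group. -/
theorem exists_minimal_normal_pgroup [Finite G] [Group.IsSolvable G] [Nontrivial G] :
    ∃ (M : Subgroup G) (p : ℕ), M.Normal ∧ M ≠ ⊥ ∧ p.Prime ∧ IsPGroup p M ∧ IsMulCommutative M ∧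
      ∀ K : Subgroup G, K.Normal → K ≤ M → K = ⊥ ∨ K = M := by
  obtain ⟨M, hMn, hM, _, hmin⟩ := exists_minimal_normal_le (⊤ : Subgroup G) top_ne_bot
  obtain ⟨hc, p, hp, hMp, _⟩ := minimal_normal_of_solvable hM hmin
  exact ⟨M, p, hMn, hM, hp, hMp, hc, hmin⟩

end Cfsg.Agent.Hall
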