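import Cfsg.Prelude.Def_HallClasses
import Mathlib.GroupTheory.Complement
import Mathlib.GroupTheory.Solvable
import Mathlib.GroupTheory.SchurZassenhaus
import Mathlib.GroupTheory.QuotientGroup.Basic

/-!
Hall library: arithmetic of π-numbers, π-subgroups, Hall π-subgroups, conjugation helpers,
transfer of complements to subgroups and quotients.
-/

set_option autoImplicit false

open scoped Pointwise

namespace Cfsg.Agent.Hall

variable {G G' : Type*} [Group G] [Group G'] {π : Set ℕ}

/-- Every prime divisor of `n` lies in `π`. -/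
def IsPiNumber (π : Set ℕ) (n : ℕ) : Prop :=
  ∀ p : ℕ, p.Prime → p ∣ n → p ∈ π

theorem isPiSubgroup_iff (K : Subgroup G) : Cfsg.IsPiSubgroup π K ↔ IsPiNumber π (Nat.card K) :=
  Iff.rfl

theorem IsPiNumber.one : IsPiNumber π 1 := fun _ hp h => absurd h hp.not_dvd_one

theorem IsPiNumber.of_dvd {m n : ℕ} (h : IsPiNumber π n) (hmn : m ∣ n) : IsPiNumber π m :=
  fun p hp hpm => h p hp (hpm.trans hmn)

theorem IsPiNumber.mul {m n : ℕ} (hm : IsPiNumber π m) (hn : IsPiNumber π n) :
    IsPiNumber π (m * n) :=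
  fun p hp h => (hp.dvd_mul.mp h).elim (hm p hp) (hn p hp)

theorem IsPiNumber.mono {σ : Set ℕ} {n : ℕ} (h : IsPiNumber π n) (hs : π ⊆ σ) : IsPiNumber σ n :=
  fun p hp hpn => hs (h p hp hpn)

theorem IsPiNumber.prime {p : ℕ} (hp : p.Prime) (h : p ∈ π) : IsPiNumber π p := by
  intro q hq hqp
  rwa [(Nat.prime_dvd_prime_iff_eq hq hp).mp hqp]

theorem IsPiNumber.pow {n : ℕ} (h : IsPiNumber π n) (k : ℕ) : IsPiNumber π (n ^ k) :=
  fun p hp hpn => h p hp (hp.dvd_of_dvd_pow hpn)

theorem IsPiNumber.coprime {m n : ℕ} (hm : IsPiNumber π m) (hn : IsPiNumber πᶜ n) :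
    m.Coprime n :=
  Nat.coprime_of_dvd fun p hp hpm hpn => hn p hp hpn (hm p hp hpm)

theorem isPiNumber_compl_iff {n : ℕ} : IsPiNumber πᶜ n ↔ ∀ p : ℕ, p.Prime → p ∈ π → ¬ p ∣ n :=
  ⟨fun h p hp hpπ hpn => h p hp hpn hpπ, fun h p hp hpn hpπ => h p hp hpπ hpn⟩

theorem IsPiNumber.eq_one {n : ℕ} (hm : IsPiNumber π n) (hn : IsPiNumber πᶜ n) : n = 1 :=
  (Nat.coprime_self n).mp (hm.coprime hn)

theorem isPiHall_iff (H : Subgroup G) :
    Cfsg.IsPiHall π H ↔ IsPiNumber π (Nat.card H) ∧ IsPiNumber πᶜ H.index := by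
  rw [isPiNumber_compl_iff]; rfl

theorem IsPiHall.mk {H : Subgroup G} (h₁ : IsPiNumber π (Nat.card H))
    (h₂ : IsPiNumber πᶜ H.index) : Cfsg.IsPiHall π H :=
  (isPiHall_iff H).mpr ⟨h₁, h₂⟩

theorem IsPiHall.isPiNumber_card {H : Subgroup G} (h : Cfsg.IsPiHall π H) :
    IsPiNumber π (Nat.card H) := h.1

theorem IsPiHall.isPiNumber_index {H : Subgroup G} (h : Cfsg.IsPiHall π H) :
    IsPiNumber πᶜ H.index := ((isPiHall_iff H).mp h).2

theorem IsPiHall.coprime {H : Subgroup G} (h : Cfsg.IsPiHall π H) :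
    (Nat.card H).Coprime H.index :=
  IsPiNumber.coprime h.1 (IsPiHall.isPiNumber_index h)

/-- Two factorisations `m * n = m' * n'` into a π-number and a π'-number coincide. -/
theorem piPart_unique {m n m' n' : ℕ} (hm : IsPiNumber π m) (hn : IsPiNumber πᶜ n)
    (hm' : IsPiNumber π m') (hn' : IsPiNumber πᶜ n') (h : m * n = m' * n') : m = m' :=
  Nat.dvd_antisymm ((hm.coprime hn').dvd_of_dvd_mul_right ⟨n, h.symm⟩)
    ((hm'.coprime hn).dvd_of_dvd_mul_right ⟨n', h⟩)

theorem IsPiHall.card_eq {H K : Subgroup G} (hH : Cfsg.IsPiHall π H) (hK : Cfsg.IsPiHall π K) :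
    Nat.card H = Nat.card K :=
  piPart_unique (IsPiHall.isPiNumber_card hH) (IsPiHall.isPiNumber_index hH)
    (IsPiHall.isPiNumber_card hK) (IsPiHall.isPiNumber_index hK)
    (by rw [Subgroup.card_mul_index, Subgroup.card_mul_index])

theorem IsPiHall.card_dvd {H K : Subgroup G} (hH : Cfsg.IsPiHall π H)
    (hK : IsPiNumber π (Nat.card K)) : Nat.card K ∣ Nat.card H :=
  (hK.coprime (IsPiHall.isPiNumber_index hH)).dvd_of_dvd_mul_right
    (by rw [Subgroup.card_mul_index]; exact Subgroup.card_subgroup_dvd_card K)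

/-- A π-subgroup of the same order as a Hall π-subgroup is a Hall π-subgroup. -/
theorem IsPiHall.of_card_eq [Finite G] {H K : Subgroup G} (hH : Cfsg.IsPiHall π H)
    (h : Nat.card K = Nat.card H) : Cfsg.IsPiHall π K := by
  refine IsPiHall.mk (h ▸ IsPiHall.isPiNumber_card hH) ?_
  have e : K.index = H.index := by
    have := K.card_mul_index.trans H.card_mul_index.symm
    rw [h] at this
    exact Nat.eq_of_mul_eq_mul_left Nat.card_pos this
  rw [e]; exact IsPiHall.isPiNumber_index hH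

theorem isPiNumber_card_map {K : Subgroup G} (f : G →* G') (h : IsPiNumber π (Nat.card K)) :
    IsPiNumber π (Nat.card (K.map f)) :=
  h.of_dvd (Subgroup.card_map_dvd K f)

theorem isPiNumber_card_mono {H K : Subgroup G} (hHK : H ≤ K) (h : IsPiNumber π (Nat.card K)) :
    IsPiNumber π (Nat.card H) :=
  h.of_dvd (Subgroup.card_dvd_of_le hHK)

theorem isPiNumber_of_coprime_primeFactors {m n : ℕ} (h : m.Coprime n) :
    IsPiNumber (↑n.primeFactors : Set ℕ)ᶜ m := by
  intro p hp hpm hpn
  exact Nat.not_coprime_of_dvd_of_dvd hp.one_lt hpm (Nat.dvd_of_mem_primeFactors hpn) h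

theorem isPiNumber_primeFactors (n : ℕ) (hn : n ≠ 0) :
    IsPiNumber (↑n.primeFactors : Set ℕ) n :=
  fun _ hp h => Finset.mem_coe.mpr (Nat.mem_primeFactors.mpr ⟨hp, h, hn⟩)

/-! ### Conjugation -/

theorem mem_conj_smul {g x : G} {H : Subgroup G} :
    x ∈ MulAut.conj g • H ↔ g⁻¹ * x * g ∈ H := by
  rw [Subgroup.mem_pointwise_smul_iff_inv_smul_mem, MulAut.smul_def, MulAut.conj_inv_apply]

theorem conj_smul_mono (g : G) {H K : Subgroup G} (h : H ≤ K) :
    MulAut.conj g • H ≤ MulAut.conj g • K :=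
  fun _ hx => mem_conj_smul.mpr (h (mem_conj_smul.mp hx))

theorem conj_smul_eq_self_of_mem {g : G} {H : Subgroup G} (hg : g ∈ H) :
    MulAut.conj g • H = H :=
  Subgroup.conj_smul_eq_self_of_mem hg

theorem conj_mul_smul (a b : G) (H : Subgroup G) :
    MulAut.conj (a * b) • H = MulAut.conj a • MulAut.conj b • H := by
  rw [map_mul, mul_smul]

theorem conj_inv_smul_conj_smul (g : G) (H : Subgroup G) :
    MulAut.conj g⁻¹ • MulAut.conj g • H = H := by
  rw [← conj_mul_smul, inv_mul_cancel, map_one, one_smul]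

theorem conj_smul_le_iff {g : G} {H K : Subgroup G} :
    MulAut.conj g • H ≤ K ↔ H ≤ MulAut.conj g⁻¹ • K := by
  constructor
  · intro h
    have := conj_smul_mono g⁻¹ h
    rwa [conj_inv_smul_conj_smul] at this
  · intro h
    have := conj_smul_mono g h
    nth_rewrite 2 [← inv_inv g] at this
    rwa [conj_inv_smul_conj_smul] at this

theorem conj_smul_eq_iff {g : G} {H K : Subgroup G} :
    MulAut.conj g • H = K ↔ H = MulAut.conj g⁻¹ • K := by
  constructor
  · rintro rfl; rw [conj_inv_smul_conj_smul]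
  · rintro rfl
    nth_rewrite 1 [← inv_inv g]
    rw [conj_inv_smul_conj_smul]

theorem card_conj_smul (g : G) (H : Subgroup G) :
    Nat.card (MulAut.conj g • H : Subgroup G) = Nat.card H :=
  (Nat.card_congr (Subgroup.equivSMul (MulAut.conj g) H).toEquiv).symm

theorem index_conj_smul (g : G) (H : Subgroup G) :
    (MulAut.conj g • H : Subgroup G).index = H.index := by
  rw [Subgroup.pointwise_smul_def]
  exact Subgroup.index_map_of_bijective (MulAut.conj g).bijective H

theorem map_conj_eq_smul (g : G) (H : Subgroup G) :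
    H.map (MulAut.conj g).toMonoidHom = MulAut.conj g • H := by
  rw [Subgroup.pointwise_smul_def]; rfl

theorem map_conj_smul (f : G →* G') (g : G) (H : Subgroup G) :
    (MulAut.conj g • H).map f = MulAut.conj (f g) • H.map f := by
  rw [← map_conj_eq_smul, ← map_conj_eq_smul, Subgroup.map_map, Subgroup.map_map]
  congr 1
  ext x
  simp

theorem IsPiHall.conj {H : Subgroup G} (g : G) (h : Cfsg.IsPiHall π H) :
    Cfsg.IsPiHall π (MulAut.conj g • H) := by
  rw [isPiHall_iff, card_conj_smul, index_conj_smul]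
  exact (isPiHall_iff H).mp h

theorem conj_smul_of_normal (g : G) (N : Subgroup G) [N.Normal] : MulAut.conj g • N = N := by
  ext x
  rw [mem_conj_smul]
  exact ⟨fun h => by simpa [mul_assoc] using ‹N.Normal›.conj_mem _ h g,
    fun h => by simpa using ‹N.Normal›.conj_mem _ h g⁻¹⟩

theorem le_normalizer_of_conj {H K : Subgroup G} (h : ∀ a ∈ H, MulAut.conj a • K = K) :
    H ≤ Subgroup.normalizer (K : Set G) := by
  refine Subgroup.le_normalizer_iff.mpr fun a ha k hk => ?_
  rw [← h a ha, mem_conj_smul]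
  simpa [mul_assoc] using hk

theorem conj_smul_of_le_normalizer {H K : Subgroup G} (h : H ≤ Subgroup.normalizer (K : Set G))
    {a : G} (ha : a ∈ H) : MulAut.conj a • K = K := by
  ext x
  rw [mem_conj_smul]
  exact (Subgroup.mem_normalizer_iff''.mp (h ha) x).symm

/-! ### Complements in subgroups and quotients -/

theorem card_sup_eq_of_inf_eq_bot (N H : Subgroup G) [N.Normal] (h : N ⊓ H = ⊥) :
    Nat.card (N ⊔ H : Subgroup G) = Nat.card N * Nat.card H := by
  have h1 : N.relIndex H = Nat.card H := by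
    rw [← Subgroup.inf_relIndex_right, h, Subgroup.relIndex_bot_left]
  have h2 := Subgroup.relIndex_mul_relIndex ⊥ N (N ⊔ H) bot_le le_sup_left
  rw [Subgroup.relIndex_bot_left, Subgroup.relIndex_bot_left, Subgroup.relIndex_sup_left, h1] at h2
  exact h2.symm

theorem card_sup_mul_card_inf (N H : Subgroup G) [N.Normal] :
    Nat.card (N ⊔ H : Subgroup G) * Nat.card (N ⊓ H : Subgroup G) =
      Nat.card N * Nat.card H := by
  have h2 := Subgroup.relIndex_mul_relIndex ⊥ N (N ⊔ H) bot_le le_sup_left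
  rw [Subgroup.relIndex_bot_left, Subgroup.relIndex_bot_left, Subgroup.relIndex_sup_left] at h2
  have h3 := Subgroup.relIndex_mul_relIndex ⊥ (N ⊓ H) H bot_le inf_le_right
  rw [Subgroup.relIndex_bot_left, Subgroup.relIndex_bot_left, Subgroup.inf_relIndex_right] at h3
  rw [← h2, ← h3]; ring

theorem card_sup_dvd_mul (N H : Subgroup G) [N.Normal] :
    Nat.card (N ⊔ H : Subgroup G) ∣ Nat.card N * Nat.card H :=
  Dvd.intro _ (card_sup_mul_card_inf N H)

/-- If `N ≤ H ⊔ M` with `M` normal inside `N`, then `N = (N ⊓ H) ⊔ M` (Dedekind). -/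
theorem dedekind_normal {N M H : Subgroup G} [M.Normal] (hMN : M ≤ N) (hN : N ≤ M ⊔ H) :
    N = M ⊔ (N ⊓ H) := by
  refine le_antisymm (fun x hx => ?_) (sup_le hMN inf_le_left)
  obtain ⟨m, hm, h, hh, rfl⟩ := Subgroup.mem_sup_of_normal_left.mp (hN hx)
  refine Subgroup.mul_mem_sup hm ⟨?_, hh⟩
  simpa using N.mul_mem (N.inv_mem (hMN hm)) hx

theorem isComplement'_of_sup_eq_top [Finite G] {N H : Subgroup G} [N.Normal]
    (h : N ⊔ H = ⊤) (hi : N ⊓ H = ⊥) : Subgroup.IsComplement' N H :=
  Subgroup.isComplement'_of_card_mul_and_disjoint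
    (by rw [← card_sup_eq_of_inf_eq_bot N H hi, h, Subgroup.card_top])
    (disjoint_iff.mpr hi)

theorem subgroupOf_isComplement' [Finite G] {N H T : Subgroup G} [(N.subgroupOf T).Normal]
    (hN : N ≤ T) (hH : H ≤ T) (hsup : N ⊔ H = T) (hi : N ⊓ H = ⊥) :
    Subgroup.IsComplement' (N.subgroupOf T) (H.subgroupOf T) := by
  apply isComplement'_of_sup_eq_top
  · apply Subgroup.map_injective T.subtype_injective
    rw [Subgroup.map_sup, Subgroup.map_subgroupOf_eq_of_le hN, Subgroup.map_subgroupOf_eq_of_le hH,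
      hsup, ← MonoidHom.range_eq_map, Subgroup.range_subtype]
  · apply Subgroup.map_injective T.subtype_injective
    rw [Subgroup.map_inf_eq _ _ _ T.subtype_injective, Subgroup.map_subgroupOf_eq_of_le hN,
      Subgroup.map_subgroupOf_eq_of_le hH, hi, Subgroup.map_bot]

theorem card_subgroupOf_of_le {H T : Subgroup G} (h : H ≤ T) :
    Nat.card (H.subgroupOf T) = Nat.card H :=
  Nat.card_congr (Subgroup.subgroupOfEquivOfLe h).toEquiv

theorem isSolvable_of_le {H K : Subgroup G} (h : H ≤ K) (hK : Group.IsSolvable K) :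
    Group.IsSolvable H :=
  Group.isSolvable_of_isSolvable_injective (Subgroup.inclusion_injective h)

theorem isSolvable_map {H : Subgroup G} (f : G →* G') (hH : Group.IsSolvable H) :
    Group.IsSolvable (H.map f) :=
  Group.isSolvable_of_surjective (f.subgroupMap_surjective H)

theorem isSolvable_subgroupOf {H T : Subgroup G} (h : H ≤ T) (hH : Group.IsSolvable H) :
    Group.IsSolvable (H.subgroupOf T) :=
  Group.isSolvable_of_isSolvable_injective
    (f := (Subgroup.subgroupOfEquivOfLe h).toMonoidHom) (MulEquiv.injective _)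

end Cfsg.Agent.Hall
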