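import Cfsg.Agent.Hall.CardForms
import Mathlib.Algebra.BigOperators.Group.Finset.Basic
import Mathlib.Algebra.BigOperators.Group.Finset.Piecewise
import Mathlib.GroupTheory.OrderOfElement

/-!
A finite solvable group has no three prime divisors that are pairwise non-adjacent in the
prime graph.
-/

set_option autoImplicit false

open scoped Pointwise IsMulCommutative

namespace Cfsg.Agent.Hall

variable {G : Type*} [Group G]

/-- A group `Q ⟨y⟩` (`y` of prime order acting fixed-point-freely on abelian `Q`) has no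
fixed-point-free coprime action on a nontrivial abelian group. -/
theorem fixedPointFree_false [Finite G] (M : Subgroup G) [M.Normal] [IsMulCommutative M]
    (hM : M ≠ ⊥) (Q : Subgroup G) (hQ : Q ≠ ⊥) (hQc : ∀ a ∈ Q, ∀ b ∈ Q, a * b = b * a)
    {y : G} {t : ℕ} (ht : t.Prime) (hy : orderOf y = t)
    (hyQ : y ∈ Subgroup.normalizer (Q : Set G))
    (hyfpf : ∀ q ∈ Q, y * q = q * y → q = 1)
    (hcop : (Nat.card Q).Coprime (Nat.card M))
    (hQM : ∀ q ∈ Q, q ≠ 1 → ∀ m ∈ M, q * m = m * q → m = 1)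
    (hyM : ∀ q ∈ Q, ∀ m ∈ M, y * q * m = m * (y * q) → m = 1) : False := by
  classical
  have := Fintype.ofFinite Q
  let c : G → (M →* M) := fun g => (MulAut.conjNormal g : MulAut M).toMonoidHom
  have hc : ∀ g (m : M), ((c g m : M) : G) = g * m * g⁻¹ := fun g m => MulAut.conjNormal_apply g m
  have hcc : ∀ g h (m : M), c g (c h m) = c (g * h) m := fun g h m => Subtype.ext (by
    simp only [hc]; group)
  have hfix : ∀ (g : G) (m : M), c g m = m → g * m = m * g := fun g m h => by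
    have := congrArg Subtype.val h
    rw [hc, mul_inv_eq_iff_eq_mul] at this
    exact this
  -- `(y q) ^ i = y ^ i * e i q`
  let e : ℕ → Q → G := fun i q => (y ^ i)⁻¹ * (y * q) ^ i
  have hyn : ∀ q ∈ Q, y⁻¹ * q * y ∈ Q := fun q hq =>
    (Subgroup.mem_normalizer_iff''.mp hyQ q).mp hq
  have hsucc : ∀ i q, e (i + 1) q = y⁻¹ * e i q * y * q := fun i q => by
    simp only [e, pow_succ]; group
  have heQ : ∀ i q, e i q ∈ Q := by
    intro i q
    induction i with
    | zero => simp [e]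
    | succ i ih => rw [hsucc]; exact Q.mul_mem (hyn _ ih) q.2
  have hmul : ∀ i (a b : Q), e i (a * b) = e i a * e i b := by
    intro i a b
    induction i with
    | zero => simp [e]
    | succ i ih =>
      rw [hsucc, hsucc, hsucc, ih, Subgroup.coe_mul]
      have h1 := hQc _ (hyn _ (heQ i b)) _ a.2
      calc y⁻¹ * (e i a * e i b) * y * ((a : G) * b)
          = y⁻¹ * e i a * y * ((y⁻¹ * e i b * y) * a) * b := by group
        _ = y⁻¹ * e i a * y * ((a : G) * (y⁻¹ * e i b * y)) * b := by rw [h1]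
        _ = _ := by group
  let E : ℕ → (Q →* Q) := fun i =>
    MonoidHom.mk' (fun q => (⟨e i q, heQ i q⟩ : Q)) fun a b => Subtype.ext (hmul i a b)
  -- `(y q) ^ t = 1`
  have hpow : ∀ q : Q, (y * (q : G)) ^ t = 1 := by
    intro q
    have h1 : (y * (q : G)) ^ t ∈ Q := by
      have := heQ t q
      simp only [e] at this
      rwa [← hy, pow_orderOf_eq_one, inv_one, one_mul, hy] at this
    refine hyfpf _ h1 ?_
    have h3 := (Commute.self_pow (y * (q : G)) t).eq
    rw [mul_assoc, hQc _ q.2 _ h1, ← mul_assoc, ← mul_assoc] at h3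
    exact mul_right_cancel h3
  have hne : ∀ i, 0 < i → i < t → Function.Injective (E i) := by
    intro i hi hit
    rw [injective_iff_map_eq_one]
    intro q hq
    have hq' : (y * (q : G)) ^ i = y ^ i := by
      have := congrArg Subtype.val hq
      exact (eq_of_inv_mul_eq_one (this : (y ^ i)⁻¹ * (y * (q : G)) ^ i = 1)).symm
    have hcop' : i.Coprime t :=
      (ht.coprime_iff_not_dvd.mpr fun hd => absurd (Nat.le_of_dvd hi hd) (not_le.mpr hit)).symm
    obtain ⟨j, hj⟩ := exists_pow_eq_self_of_coprime (x := y * (q : G))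
      (hcop'.coprime_dvd_right (orderOf_dvd_of_pow_eq_one (hpow q)))
    rw [hq', ← pow_mul] at hj
    have hcomm : Commute y (y * (q : G)) := hj ▸ Commute.self_pow y _
    refine Subtype.ext (hyfpf _ q.2 ?_)
    have h4 := hcomm.eq
    rw [mul_assoc y (q : G) y] at h4
    exact mul_left_cancel h4
  -- the product over `Q` vanishes
  have hQprod : ∀ m : M, ∏ q : Q, c (q : G) m = 1 := by
    intro m
    obtain ⟨q₀, hq₀⟩ := (Subgroup.ne_bot_iff_exists_ne_one).mp hQ
    refine Subtype.ext (hQM _ q₀.2 (by simpa using hq₀) _ (SetLike.coe_mem _) (hfix _ _ ?_))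
    rw [map_prod]
    simp only [hcc]
    exact Fintype.prod_equiv (Equiv.mulLeft q₀) _ _ fun q => rfl
  have hzero : ∀ m : M, m ^ Nat.card Q = 1 := by
    intro m
    have hrow : ∀ q : Q, ∏ i ∈ Finset.range t, c ((y * (q : G)) ^ i) m = 1 := by
      intro q
      refine Subtype.ext (hyM _ q.2 _ (SetLike.coe_mem _) (hfix _ _ ?_))
      rw [map_prod]
      simp only [hcc, ← pow_succ']
      have h1 := Finset.prod_range_succ' (fun i => c ((y * (q : G)) ^ i) m) t
      have h2 := Finset.prod_range_succ (fun i => c ((y * (q : G)) ^ i) m) t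
      rw [h2, hpow q, pow_zero] at h1
      exact (mul_right_cancel h1).symm
    have hswap : ∏ q : Q, ∏ i ∈ Finset.range t, c ((y * (q : G)) ^ i) m = 1 :=
      Finset.prod_eq_one fun q _ => hrow q
    rw [Finset.prod_comm] at hswap
    have hone : ∀ i ∈ Finset.range t, i ≠ 0 → ∏ q : Q, c ((y * (q : G)) ^ i) m = 1 := by
      intro i hi h0
      have he : ∀ q : Q, c ((y * (q : G)) ^ i) m = c (y ^ i) (c ((E i q : Q) : G) m) := fun q => by
        rw [hcc]
        congr 2
        change (y * (q : G)) ^ i = y ^ i * ((y ^ i)⁻¹ * (y * (q : G)) ^ i)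
        group
      simp only [he]
      rw [← map_prod]
      have hb : Function.Bijective (E i) :=
        Finite.injective_iff_bijective.mp (hne i (Nat.pos_of_ne_zero h0) (Finset.mem_range.mp hi))
      rw [hb.prod_comp (fun q : Q => c (q : G) m), hQprod, map_one]
    rw [Finset.prod_eq_single 0 hone (fun h => absurd (Finset.mem_range.mpr ht.pos) h)] at hswap
    have h1 : ∀ q : Q, c ((y * (q : G)) ^ 0) m = m := fun q => Subtype.ext (by simp [hc])
    simp only [h1, Finset.prod_const, Finset.card_univ, ← Nat.card_eq_fintype_card] at hswap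
    exact hswap
  obtain ⟨m, hm⟩ := (Subgroup.ne_bot_iff_exists_ne_one).mp hM
  refine hm (orderOf_eq_one_iff.mp (Nat.eq_one_of_dvd_coprimes hcop ?_ (orderOf_dvd_natCard m)))
  exact orderOf_dvd_of_pow_eq_one (hzero m)

/-- `r` and `s` are non-adjacent: no element of order `r * s`. -/
theorem eq_one_of_commute {r s : ℕ} (hr : r.Prime) (hs : s.Prime) (hrs : r ≠ s)
    (h : ¬ ∃ x : G, orderOf x = r * s) {x z : G} (hxz : x * z = z * x) {k : ℕ}
    (hx : x ^ r ^ k = 1) (hz : orderOf z = s) : x = 1 := by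
  by_contra hx1
  obtain ⟨j, -, hj⟩ := (Nat.dvd_prime_pow hr).mp (orderOf_dvd_of_pow_eq_one hx)
  cases j with
  | zero => exact hx1 (orderOf_eq_one_iff.mp (by simpa using hj))
  | succ j =>
    apply h
    refine ⟨x ^ r ^ j * z, ?_⟩
    have h1 : orderOf (x ^ r ^ j) = r := by
      rw [orderOf_pow' x (pow_ne_zero _ hr.ne_zero), hj,
        Nat.gcd_eq_right (pow_dvd_pow r (Nat.le_succ j)), pow_succ,
        Nat.mul_div_cancel_left _ (pow_pos hr.pos j)]
    rw [(Commute.pow_left (show Commute x z from hxz) _).orderOf_mul_eq_mul_orderOf_of_coprime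
      (by rw [h1, hz]; exact (Nat.coprime_primes hr hs).mpr hrs), h1, hz]

theorem isPiNumber_mem_of_pgroup [Finite G] {π : Set ℕ} {p : ℕ} (hp : p.Prime) {M L : Subgroup G}
    (hM : M ≠ ⊥) (hMp : IsPGroup p M) (hML : M ≤ L) (hL : IsPiNumber π (Nat.card L)) : p ∈ π := by
  have : Fact p.Prime := ⟨hp⟩
  obtain ⟨k, hk, hk'⟩ := hMp.nontrivial_iff_card.mp ((Subgroup.nontrivial_iff_ne_bot M).mpr hM)
  exact hL p hp ((hk' ▸ dvd_pow_self p hk.ne').trans (Subgroup.card_dvd_of_le hML))

/-- No three pairwise non-adjacent prime divisors in a solvable group. -/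
theorem three_primes_false [Finite G] [Group.IsSolvable G] (ρ : Finset ℕ) (hρ : 3 ≤ ρ.card)
    (hp : ∀ r ∈ ρ, r.Prime ∧ r ∣ Nat.card G)
    (hadj : ∀ r ∈ ρ, ∀ s ∈ ρ, r ≠ s → ¬ ∃ x : G, orderOf x = r * s) : False := by
  classical
  obtain ⟨L, hL⟩ := (hallDom_of_isSolvable (↑ρ : Set ℕ) G).1
  have hdvdL : ∀ r ∈ ρ, r ∣ Nat.card L := fun r hr => by
    refine ((hp r hr).1.dvd_mul.mp (L.card_mul_index.symm ▸ (hp r hr).2)).resolve_right fun h => ?_
    exact IsPiHall.isPiNumber_index hL r (hp r hr).1 h (Finset.mem_coe.mpr hr)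
  have hLne : Nontrivial L := by
    obtain ⟨r, hr⟩ := Finset.card_pos.mp (by omega : 0 < ρ.card)
    rw [← Finite.one_lt_card_iff_nontrivial]
    exact (hp r hr).1.one_lt.trans_le (Nat.le_of_dvd Nat.card_pos (hdvdL r hr))
  obtain ⟨M, r, hMn, hM, hr, hMr, hMc, -⟩ := exists_minimal_normal_pgroup (G := L)
  have hrρ : r ∈ ρ := Finset.mem_coe.mp (isPiNumber_mem_of_pgroup hr hM hMr le_top
    (by rw [Subgroup.card_top]; exact IsPiHall.isPiNumber_card hL))
  obtain ⟨L', hL'⟩ := (hallDom_of_isSolvable (↑(ρ.erase r) : Set ℕ) L).1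
  have hdvdL' : ∀ s ∈ ρ.erase r, s ∣ Nat.card L' := fun s hs => by
    refine ((hp s (Finset.mem_of_mem_erase hs)).1.dvd_mul.mp
      (L'.card_mul_index.symm ▸ hdvdL s (Finset.mem_of_mem_erase hs))).resolve_right fun h => ?_
    exact IsPiHall.isPiNumber_index hL' s (hp s (Finset.mem_of_mem_erase hs)).1 h
      (Finset.mem_coe.mpr hs)
  have h2 : 1 < (ρ.erase r).card := by rw [Finset.card_erase_of_mem hrρ]; omega
  have hL'ne : Nontrivial L' := by
    obtain ⟨s, hs⟩ := Finset.card_pos.mp (by omega : 0 < (ρ.erase r).card)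
    rw [← Finite.one_lt_card_iff_nontrivial]
    exact (hp s (Finset.mem_of_mem_erase hs)).1.one_lt.trans_le
      (Nat.le_of_dvd Nat.card_pos (hdvdL' s hs))
  obtain ⟨Q, s, hQn, hQ, hs, hQs, hQc, -⟩ := exists_minimal_normal_pgroup (G := L')
  have hsρ : s ∈ ρ.erase r := Finset.mem_coe.mp (isPiNumber_mem_of_pgroup hs hQ hQs le_top
    (by rw [Subgroup.card_top]; exact IsPiHall.isPiNumber_card hL'))
  obtain ⟨t, htρ, hts⟩ := Finset.exists_mem_ne h2 s
  obtain ⟨htr, htρ'⟩ := Finset.mem_erase.mp htρ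
  obtain ⟨hsr, hsρ'⟩ := Finset.mem_erase.mp hsρ
  have htp := (hp t htρ').1
  have : Fact t.Prime := ⟨htp⟩
  obtain ⟨y, hy⟩ := exists_prime_orderOf_dvd_card' (G := L') t (hdvdL' t htρ)
  set Q' : Subgroup L := Q.map L'.subtype
  have hQ'ne : Q' ≠ ⊥ := by
    rw [Ne, Subgroup.map_eq_bot_iff_of_injective _ L'.subtype_injective]; exact hQ
  have hQ'p : IsPGroup s Q' := hQs.map _
  have hadjL : ∀ a ∈ ρ, ∀ b ∈ ρ, a ≠ b → ¬ ∃ x : L, orderOf x = a * b :=
    fun a ha b hb hab ⟨x, hx⟩ => hadj a ha b hb hab ⟨x, (Subgroup.orderOf_coe x).trans hx⟩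
  have hMel : ∀ m ∈ M, ∀ z : L, orderOf z = s ∨ orderOf z = t → z * m = m * z → m = 1 := by
    intro m hm z hz hzm
    obtain ⟨k, hk⟩ := hMr ⟨m, hm⟩
    have hk' : m ^ r ^ k = 1 := by simpa using congrArg Subtype.val hk
    rcases hz with hz | hz
    · exact eq_one_of_commute hr hs hsr.symm (hadjL r hrρ s hsρ' hsr.symm) hzm.symm hk' hz
    · exact eq_one_of_commute hr htp htr.symm (hadjL r hrρ t htρ' htr.symm) hzm.symm hk' hz
  have hy' : orderOf (y : L) = t := (Subgroup.orderOf_coe y).trans hy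
  have hyn : (y : L) ∈ Subgroup.normalizer (Q' : Set L) :=
    Subgroup.le_normalizer_map L'.subtype (Subgroup.mem_map_of_mem _
      (Subgroup.normalizer_eq_top (H := Q) ▸ Subgroup.mem_top y))
  have hQ'c : ∀ a ∈ Q', ∀ b ∈ Q', a * b = b * a := by
    rintro _ ⟨a, ha, rfl⟩ _ ⟨b, hb, rfl⟩
    simpa using congrArg (fun z : Q => ((z : L') : L)) (hQc.is_comm.comm ⟨a, ha⟩ ⟨b, hb⟩)
  have hyQ : ∀ q ∈ Q', (y : L) * q = q * y → q = 1 := by
    intro q hq hc
    obtain ⟨k, hk⟩ := hQ'p ⟨q, hq⟩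
    exact eq_one_of_commute hs htp hts.symm (hadjL s hsρ' t htρ' hts.symm) hc.symm
      (by simpa using congrArg Subtype.val hk) hy'
  refine fixedPointFree_false M hM Q' hQ'ne hQ'c htp hy' hyn hyQ ?_ ?_ ?_
  · obtain ⟨a, ha⟩ := (@IsPGroup.iff_card s _ _ ⟨hs⟩ _).mp hQ'p
    obtain ⟨b, hb⟩ := (@IsPGroup.iff_card r _ _ ⟨hr⟩ _).mp hMr
    rw [ha, hb]
    exact Nat.coprime_pow_primes _ _ hs hr hsr
  · intro q hq hq1 m hm hc
    obtain ⟨k, hk⟩ := hQ'p ⟨q, hq⟩
    have hk' : q ^ s ^ k = 1 := by simpa using congrArg Subtype.val hk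
    obtain ⟨i, -, hi⟩ := (Nat.dvd_prime_pow hs).mp (orderOf_dvd_of_pow_eq_one hk')
    cases i with
    | zero => exact absurd (orderOf_eq_one_iff.mp (by simpa using hi)) hq1
    | succ i =>
      refine hMel m hm (q ^ s ^ i) (Or.inl ?_) ((Commute.pow_left hc _).eq)
      rw [orderOf_pow' q (pow_ne_zero _ hs.ne_zero), hi,
        Nat.gcd_eq_right (pow_dvd_pow s (Nat.le_succ i)), pow_succ,
        Nat.mul_div_cancel_left _ (pow_pos hs.pos i)]
  · intro q hq m hm hc
    refine hMel m hm _ (Or.inr ?_) hc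
    refine orderOf_eq_prime ?_ ?_
    · -- `(y q) ^ t = 1`
      have h1 : ∀ i, ((y : L) ^ i)⁻¹ * ((y : L) * q) ^ i ∈ Q' := by
        intro i
        induction i with
        | zero => simp
        | succ i ih =>
          have e : ((y : L) ^ (i + 1))⁻¹ * ((y : L) * q) ^ (i + 1) =
              (y : L)⁻¹ * (((y : L) ^ i)⁻¹ * ((y : L) * q) ^ i) * y * q := by
            simp only [pow_succ]; group
          rw [e]
          exact Q'.mul_mem ((Subgroup.mem_normalizer_iff''.mp hyn _).mp ih) hq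
      have h2 := h1 t
      rw [← hy', pow_orderOf_eq_one, inv_one, one_mul, hy'] at h2
      refine hyQ _ h2 ?_
      have h3 := (Commute.self_pow ((y : L) * q) t).eq
      rw [mul_assoc, hQ'c _ hq _ h2, ← mul_assoc, ← mul_assoc] at h3
      exact mul_right_cancel h3
    · intro h
      have : (y : L) ∈ Q' := by
        rw [eq_inv_of_mul_eq_one_left h]
        exact Q'.inv_mem hq
      obtain ⟨k, hk⟩ := hQ'p ⟨(y : L), this⟩
      have hd : t ∣ s ^ k := hy' ▸ orderOf_dvd_of_pow_eq_one (by simpa using congrArg Subtype.val hk)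
      exact hts ((Nat.prime_dvd_prime_iff_eq htp hs).mp (htp.dvd_of_dvd_pow hd))

end Cfsg.Agent.Hall
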