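import Cfsg.Agent.Hall.Wielandt
import Cfsg.Agent.Frobenius.Basic

/-!
Schmidt: all maximal subgroups nilpotent implies solvable.
-/

set_option autoImplicit false

open scoped Pointwise

namespace Cfsg.Agent.Hall

universe u

variable {G : Type u} [Group G]

theorem isCoatom_conj_smul {M : Subgroup G} (hM : IsCoatom M) (g : G) :
    IsCoatom (MulAut.conj g • M) :=
  (OrderIso.isCoatom_iff (MulEquiv.mapSubgroup (MulAut.conj g)) M).mpr hM

theorem exists_normalizer_notMem {M D : Subgroup G} (hM : Group.IsNilpotent M) (hDM : D < M) :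
    ∃ x ∈ M, x ∈ Subgroup.normalizer (D : Set G) ∧ x ∉ D := by
  have hne : D.subgroupOf M < ⊤ := lt_top_iff_ne_top.mpr fun h =>
    hDM.not_ge (Subgroup.subgroupOf_eq_top.mp h)
  obtain ⟨x, hx, hxD⟩ := SetLike.exists_of_lt
    ((Group.normalizerCondition_of_isNilpotent (h := hM)) _ hne)
  rw [← Subgroup.subgroupOf_normalizer_eq hDM.le, Subgroup.mem_subgroupOf] at hx
  exact ⟨x, x.2, hx, fun h => hxD (Subgroup.mem_subgroupOf.mpr h)⟩

/-- In a simple-like group with nilpotent maximal subgroups, maximal subgroups meet trivially. -/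
theorem inf_eq_bot_of_coatoms [Finite G] (h : ∀ M : Subgroup G, IsCoatom M → Group.IsNilpotent M)
    (hs : ∀ N : Subgroup G, N.Normal → N = ⊥ ∨ N = ⊤) (n : ℕ) :
    ∀ M L : Subgroup G, IsCoatom M → IsCoatom L → M ≠ L →
      Nat.card G ≤ Nat.card (M ⊓ L : Subgroup G) + n → M ⊓ L = ⊥ := by
  induction n using Nat.strong_induction_on with
  | _ n ih =>
    intro M L hM hL hne hn
    by_contra hD
    set D := M ⊓ L with hDdef
    have hlt : ∀ {X Y : Subgroup G}, IsCoatom X → IsCoatom Y → X ≠ Y → X ⊓ Y < X :=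
      fun {X Y} hX hY hXY => inf_le_left.lt_of_ne fun he =>
        hY.1 (hX.2 Y ((inf_eq_left.mp he).lt_of_ne hXY))
    have hnor : Subgroup.normalizer (D : Set G) ≠ ⊤ := fun he => by
      rcases hs D (Subgroup.normalizer_eq_top_iff.mp he) with h0 | h0
      · exact hD h0
      · exact hM.1 (top_le_iff.mp (h0 ▸ (inf_le_left : D ≤ M)))
    obtain ⟨M3, hM3, hle⟩ := (eq_top_or_exists_le_coatom _).resolve_left hnor
    have key : ∀ X : Subgroup G, IsCoatom X → D < X → X = M3 := by
      intro X hX hDX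
      by_contra hX3
      obtain ⟨x, hxX, hxn, hxD⟩ := exists_normalizer_notMem (h X hX) hDX
      have hbig : D < X ⊓ M3 :=
        (le_inf hDX.le (Subgroup.le_normalizer.trans hle)).lt_of_ne fun he =>
          hxD (he ▸ ⟨hxX, hle hxn⟩)
      have hcard : Nat.card D < Nat.card (X ⊓ M3 : Subgroup G) := by
        refine lt_of_le_of_ne (Subgroup.card_le_of_le hbig.le) fun he => ?_
        exact hbig.ne (Subgroup.eq_of_le_of_card_ge hbig.le he.ge)
      have hXc : Nat.card (X ⊓ M3 : Subgroup G) ≤ Nat.card G :=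
        Subgroup.card_le_card_group _
      have := ih (Nat.card G - Nat.card (X ⊓ M3 : Subgroup G)) (by omega) X M3 hX hM3 hX3 (by omega)
      exact not_le_of_gt (this ▸ hbig) bot_le
    exact hne ((key M hM (hlt hM hL hne)).trans
      (key L hL (by rw [hDdef, inf_comm]; exact hlt hL hM hne.symm)).symm)

theorem isSolvable_of_simple_like [Finite G]
    (h : ∀ M : Subgroup G, IsCoatom M → Group.IsNilpotent M)
    (hs : ∀ N : Subgroup G, N.Normal → N = ⊥ ∨ N = ⊤) : Group.IsSolvable G := by
  by_contra hns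
  have hncomm : ¬ ∀ a b : G, a * b = b * a := fun hc => by
    let : CommGroup G := { (inferInstance : Group G) with mul_comm := hc }
    exact hns inferInstance
  have hz : ∀ x : G, Subgroup.zpowers x ≠ ⊤ := fun x he => hncomm fun a b => by
    obtain ⟨i, rfl⟩ := Subgroup.mem_zpowers_iff.mp (he ▸ Subgroup.mem_top a)
    obtain ⟨j, rfl⟩ := Subgroup.mem_zpowers_iff.mp (he ▸ Subgroup.mem_top b)
    exact zpow_mul_comm x i j
  have hcover : ∀ x : G, ∃ M : Subgroup G, IsCoatom M ∧ x ∈ M := fun x => by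
    obtain ⟨M, hM, hle⟩ := (eq_top_or_exists_le_coatom _).resolve_left (hz x)
    exact ⟨M, hM, hle (Subgroup.mem_zpowers x)⟩
  have hti : ∀ M L : Subgroup G, IsCoatom M → IsCoatom L → M ≠ L → M ⊓ L = ⊥ :=
    fun M L hM hL hne => inf_eq_bot_of_coatoms h hs (Nat.card G) M L hM hL hne (by omega)
  have hbot : ∀ M : Subgroup G, IsCoatom M → M ≠ ⊥ := fun M hM he => by
    obtain ⟨x, hx⟩ : ∃ x : G, x ≠ 1 := by
      by_contra hall
      push Not at hall
      exact hncomm fun a b => by rw [hall a, hall b]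
    refine hz x (hM.2 _ ?_)
    rw [he]
    exact bot_lt_iff_ne_bot.mpr fun h0 => hx (Subgroup.zpowers_eq_bot.mp h0)
  have hfrob : ∀ M : Subgroup G, IsCoatom M → Cfsg.IsFrobeniusComplement M := by
    intro M hM
    refine ⟨hbot M hM, hM.1, fun g hg => hti M _ hM (isCoatom_conj_smul hM g) fun he => hg ?_⟩
    have hn : Subgroup.normalizer (M : Set G) ≠ ⊤ := fun ht => by
      rcases hs M (Subgroup.normalizer_eq_top_iff.mp ht) with h0 | h0
      · exact hbot M hM h0
      · exact hM.1 h0
    have hNM : Subgroup.normalizer (M : Set G) = M := by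
      by_contra hne
      exact hn (hM.2 _ (Subgroup.le_normalizer.lt_of_ne (Ne.symm hne)))
    rw [← hNM]
    rw [Subgroup.mem_normalizer_iff]
    intro x
    conv_rhs => rw [he, mem_conj_smul]
    simp [mul_assoc]
  have hcard : ∀ M : Subgroup G, IsCoatom M →
      (Cfsg.frobeniusKernel M)ᶜ.ncard + M.index = Nat.card G ∧
        Nat.card G ≤ 2 * (Cfsg.frobeniusKernel M)ᶜ.ncard := by
    intro M hM
    have hc := Frobenius.card_kernel_compl (hfrob M hM)
    rw [Nat.card_coe_set_eq] at hc
    have h2 := M.card_mul_index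
    have h1 : 1 < Nat.card M := Frobenius.one_lt_card (hfrob M hM)
    rw [hc]
    obtain ⟨m, hm⟩ : ∃ m, Nat.card M = m + 2 := ⟨Nat.card M - 2, by omega⟩
    rw [hm] at h2 ⊢
    rw [← h2, show m + 2 - 1 = m + 1 from by omega]
    exact ⟨by ring, by nlinarith⟩
  have hne1 : ∀ M : Subgroup G, (Cfsg.frobeniusKernel M)ᶜ ⊆ {(1 : G)}ᶜ := fun M x hx he =>
    hx (by rw [Set.mem_singleton_iff.mp he]; exact Frobenius.one_mem_kernel M)
  have hone : ({(1 : G)}ᶜ : Set G).ncard + 1 = Nat.card G := by
    rw [← Set.ncard_singleton (1 : G), add_comm, Set.ncard_add_ncard_compl]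
  obtain ⟨M, hM, -⟩ := hcover 1
  by_cases hall : ({(1 : G)}ᶜ : Set G) ⊆ (Cfsg.frobeniusKernel M)ᶜ
  · have h1 := (hcard M hM).1
    have h2 := Set.ncard_le_ncard hall (Set.toFinite _)
    have h3 := Set.ncard_le_ncard (hne1 M) (Set.toFinite _)
    have h4 := Frobenius.one_lt_index (hfrob M hM)
    omega
  · obtain ⟨y, hy, hyM⟩ := Set.not_subset.mp hall
    obtain ⟨L, hL, hyL⟩ := hcover y
    have hdis : Disjoint (Cfsg.frobeniusKernel M)ᶜ (Cfsg.frobeniusKernel L)ᶜ := by
      rw [Set.disjoint_left]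
      intro x hxM hxL
      simp only [Cfsg.frobeniusKernel, Set.mem_compl_iff, Set.mem_setOf_eq, not_or, not_forall,
        not_not] at hxM hxL
      obtain ⟨hx1, a, ha⟩ := hxM
      obtain ⟨-, b, hb⟩ := hxL
      have hab : MulAut.conj a • M = MulAut.conj b • L := by
        by_contra hne
        have h0 := hti _ _ (isCoatom_conj_smul hM a) (isCoatom_conj_smul hL b) hne
        exact hx1 (Subgroup.mem_bot.mp (h0 ▸ Subgroup.mem_inf.mpr ⟨ha, hb⟩))
      -- then `L` is conjugate to `M`
      refine hyM ?_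
      simp only [Cfsg.frobeniusKernel, Set.mem_compl_iff, Set.mem_setOf_eq, not_or, not_forall,
        not_not]
      refine ⟨hy, b⁻¹ * a, ?_⟩
      rw [conj_mul_smul, hab, conj_inv_smul_conj_smul]
      exact hyL
    have h2 := Set.ncard_le_ncard (Set.union_subset (hne1 M) (hne1 L)) (Set.toFinite _)
    rw [Set.ncard_union_eq hdis (Set.toFinite _) (Set.toFinite _)] at h2
    have h3 := (hcard M hM).2
    have h4 := (hcard L hL).2
    have := Nat.card_pos (α := G)
    omega

theorem schmidt_aux (n : ℕ) : ∀ (G : Type u) [Group G] [Finite G], Nat.card G ≤ n →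
    (∀ M : Subgroup G, IsCoatom M → Group.IsNilpotent M) → Group.IsSolvable G := by
  induction n with
  | zero => intro G _ _ h; exact absurd h (not_le.mpr Nat.card_pos)
  | succ n ih =>
    intro G _ _ hG h
    by_cases hs : ∀ N : Subgroup G, N.Normal → N = ⊥ ∨ N = ⊤
    · exact isSolvable_of_simple_like h hs
    push Not at hs
    obtain ⟨N, hN, hbot, htop⟩ := hs
    obtain ⟨M, hM, hNM⟩ := (eq_top_or_exists_le_coatom N).resolve_left htop
    have hNnil : Group.IsNilpotent N := isNilpotent_of_le hNM (h M hM)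
    have hlt := card_quotient_lt N hbot
    have hq : Group.IsSolvable (G ⧸ N) := by
      refine ih (G ⧸ N) (by omega) fun X hX => ?_
      have hc : IsCoatom (X.comap (QuotientGroup.mk' N)) :=
        Subgroup.isCoatom_comap_of_surjective (QuotientGroup.mk'_surjective N) hX
      rw [← Subgroup.map_comap_eq_self_of_surjective (QuotientGroup.mk'_surjective N) X]
      exact Group.nilpotent_of_surjective (h := h _ hc)
        ((QuotientGroup.mk' N).subgroupMap (X.comap (QuotientGroup.mk' N)))
        ((QuotientGroup.mk' N).subgroupMap_surjective _)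
    exact (Group.isSolvable_iff_subgroup_quotient N).mpr
      ⟨@IsNilpotent.to_isSolvable _ _ hNnil, hq⟩

/-- Schmidt's theorem. -/
theorem isSolvable_of_coatoms_nilpotent [Finite G]
    (h : ∀ M : Subgroup G, IsCoatom M → Group.IsNilpotent M) : Group.IsSolvable G :=
  schmidt_aux _ G le_rfl h

theorem isSolvable_of_proper_nilpotent [Finite G]
    (h : ∀ H : Subgroup G, H ≠ ⊤ → Group.IsNilpotent H) : Group.IsSolvable G :=
  isSolvable_of_coatoms_nilpotent fun M hM => h M hM.1

end Cfsg.Agent.Hall
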