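import Cfsg.Agent.Hall.Wielandt
import Cfsg.Agent.Hall.Schmidt

/-!
Wielandt's theorem in full, and normal Sylow subgroups of minimal non-nilpotent groups.
-/

set_option autoImplicit false

open scoped Pointwise

namespace Cfsg.Agent.Hall

/-- A finite solvable non-nilpotent group with nilpotent proper subgroups: index prime facts. -/
theorem exists_normal_prime_index {G : Type*} [Group G] [Finite G] [Group.IsSolvable G]
    [Nontrivial G] : ∃ (M : Subgroup G) (q : ℕ), M.Normal ∧ q.Prime ∧ M.index = q ∧ M ≠ ⊤ := by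
  have hD : commutator G ≠ ⊤ := (Group.IsSolvable.commutator_lt_top_of_nontrivial G).ne
  obtain ⟨M, hM, hle⟩ := (eq_top_or_exists_le_coatom _).resolve_left hD
  have hMn : M.Normal := ⟨fun n hn g => by
    have h : g * n * g⁻¹ * n⁻¹ ∈ M :=
      hle (Subgroup.commutator_mem_commutator (Subgroup.mem_top g) (Subgroup.mem_top n))
    simpa using M.mul_mem h hn⟩
  have h1 : M.index ≠ 1 := fun h => hM.1 (Subgroup.index_eq_one.mp h)
  obtain ⟨q, hq, hqd⟩ := Nat.exists_prime_and_dvd h1
  have : Fact q.Prime := ⟨hq⟩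
  rw [Subgroup.index_eq_card] at hqd
  obtain ⟨x, hx⟩ := exists_prime_orderOf_dvd_card' (G := G ⧸ M) q hqd
  refine ⟨M, q, hMn, hq, ?_, hM.1⟩
  have htop : (Subgroup.zpowers x).comap (QuotientGroup.mk' M) = ⊤ := by
    refine hM.2 _ (lt_of_le_of_ne ?_ fun he => ?_)
    · intro m hm
      rw [Subgroup.mem_comap, QuotientGroup.mk'_apply, (QuotientGroup.eq_one_iff m).mpr hm]
      exact one_mem _
    · obtain ⟨g, rfl⟩ := QuotientGroup.mk'_surjective M x
      have : g ∈ M := he ▸ Subgroup.mem_comap.mpr (Subgroup.mem_zpowers _)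
      rw [QuotientGroup.mk'_apply, (QuotientGroup.eq_one_iff g).mpr this, orderOf_one] at hx
      exact hq.ne_one hx.symm
  have h2 := congrArg (Subgroup.map (QuotientGroup.mk' M)) htop
  rw [Subgroup.map_comap_eq_self_of_surjective (QuotientGroup.mk'_surjective M),
    Subgroup.map_top_of_surjective _ (QuotientGroup.mk'_surjective M)] at h2
  rw [Subgroup.index_eq_card, ← hx, ← Nat.card_zpowers, h2, Subgroup.card_top]

/-- Non-nilpotent with all proper subgroups nilpotent: a nontrivial normal Sylow subgroup. -/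
theorem exists_normal_sylow {G : Type*} [Group G] [Finite G]
    (h : ∀ H : Subgroup G, H ≠ ⊤ → Group.IsNilpotent H) (hn : ¬ Group.IsNilpotent G) :
    ∃ p q : ℕ, p.Prime ∧ q.Prime ∧ p ≠ q ∧ p ∣ Nat.card G ∧ ∃ P : Sylow p G, (P : Subgroup G).Normal := by
  have := isSolvable_of_proper_nilpotent h
  have : Nontrivial G := by
    by_contra hc
    rw [not_nontrivial_iff_subsingleton] at hc
    exact hn inferInstance
  obtain ⟨M, q, hM, hq, hidx, hne⟩ := exists_normal_prime_index (G := G)
  have : Fact q.Prime := ⟨hq⟩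
  obtain ⟨p, hp, hpd, hpq⟩ : ∃ p, p.Prime ∧ p ∣ Nat.card G ∧ p ≠ q := by
    by_contra hc
    push Not at hc
    refine hn (IsPGroup.isNilpotent (p := q) (IsPGroup.iff_card.mpr ⟨(Nat.card G).primeFactorsList.length,
      Nat.eq_prime_pow_of_unique_prime_dvd Nat.card_pos.ne' fun {d} hd hdd => hc d hd hdd⟩))
  have : Fact p.Prime := ⟨hp⟩
  obtain ⟨S⟩ := (inferInstance : Nonempty (Sylow p M))
  have hSn : (S : Subgroup M).Normal :=
    (Group.isNilpotent_of_finite_tfae.out 0 3 rfl rfl).mp (h M hne) p ‹_› S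
  have : (S : Subgroup M).Characteristic := S.characteristic_of_normal hSn
  have hind : ¬ p ∣ ((S : Subgroup M).map M.subtype).index := by
    rw [Subgroup.index_map_subtype, hp.dvd_mul, not_or, hidx]
    exact ⟨S.not_dvd_index, fun hd => hpq ((Nat.prime_dvd_prime_iff_eq hp hq).mp hd)⟩
  exact ⟨p, q, hp, hq, hpq, hpd, IsPGroup.toSylow (S.2.map M.subtype) hind,
    (inferInstance : ((S : Subgroup M).map M.subtype).Normal)⟩

universe u

theorem wielandt_full_aux (n : ℕ) :
    ∀ (G : Type u) [Group G] [Finite G] (H K : Subgroup G), Group.IsNilpotent H →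
      (Nat.card H).Coprime H.index →
      (∀ q : ℕ, q.Prime → q ∣ Nat.card K → q ∣ Nat.card H) → Nat.card K ≤ n →
      ∃ x : G, K ≤ MulAut.conj x • H := by
  induction n with
  | zero => intro G _ _ H K _ _ _ h; exact absurd h (not_le.mpr Nat.card_pos)
  | succ n ih =>
    intro G _ _ H K hH hHall hdvd hn
    by_cases hnil : Group.IsNilpotent K
    · exact le_conj_of_nilpotent hH hHall hnil hdvd
    have hprop : ∀ L : Subgroup K, L ≠ ⊤ → Group.IsNilpotent L := by
      intro L hL
      have hc : Nat.card L < Nat.card K :=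
        lt_of_le_of_ne L.card_le_card_group fun he => hL (L.eq_top_of_card_eq he)
      obtain ⟨x, hx⟩ := ih G H (L.map K.subtype) hH hHall (fun q hq hd => hdvd q hq
        (hd.trans (Subgroup.card_dvd_of_le (Subgroup.map_subtype_le L))))
        (by rw [Subgroup.card_map_of_injective K.subtype_injective]; omega)
      exact Group.nilpotent_of_mulEquiv
        (_h := isNilpotent_of_le hx (isNilpotent_conj_smul x hH))
        (L.equivMapOfInjective _ K.subtype_injective).symm
    obtain ⟨p, q, hp, -, -, hpd, P, hP⟩ := exists_normal_sylow hprop hnil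
    have : Fact p.Prime := ⟨hp⟩
    obtain ⟨Q, hQ⟩ := Subgroup.exists_right_complement'_of_coprime P.card_coprime_index
    have hQp : ¬ p ∣ Nat.card Q := by rw [← hQ.symm.index_eq_card]; exact P.not_dvd_index
    have hlt : Nat.card (Q.map K.subtype) ≤ n := by
      rw [Subgroup.card_map_of_injective K.subtype_injective]
      have h1 := hQ.card_mul_card
      have h2 : 1 < Nat.card (P : Subgroup K) := by
        by_contra h
        have h3 : Nat.card (P : Subgroup K) = 1 := by
          have := Nat.card_pos (α := (P : Subgroup K)); omega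
        rw [h3, one_mul] at h1
        exact hQp (h1 ▸ hpd)
      nlinarith [Nat.card_pos (α := Q)]
    have hK : (P : Subgroup K).map K.subtype ⊔ Q.map K.subtype = K := by
      rw [← Subgroup.map_sup, hQ.sup_eq_top, ← MonoidHom.range_eq_map, Subgroup.range_subtype]
    rw [← hK]
    refine wielandt_step hH hHall hp (hdvd p hp hpd) (P.2.map _) ?_ (fun r hr hd => ?_) ?_
    · refine (Subgroup.map_subtype_le Q).trans fun k hk => ?_
      have h1 : (⟨k, hk⟩ : K) ∈ Subgroup.normalizer ((P : Subgroup K) : Set K) :=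
        (Subgroup.normalizer_eq_top_iff.mpr hP).symm ▸ Subgroup.mem_top _
      exact Subgroup.le_normalizer_map K.subtype ⟨_, h1, rfl⟩
    · rw [Subgroup.card_map_of_injective K.subtype_injective] at hd
      exact ⟨hdvd r hr (hd.trans Q.card_subgroup_dvd_card), fun he => hQp (he ▸ hd)⟩
    · intro T _ _ R Q' hR hcop hd hc _
      exact ih T R Q' hR hcop hd (hc ▸ hlt)

/-- Wielandt's theorem. -/
theorem le_conj_of_nilpotent_hall {G : Type*} [Group G] [Finite G] {H K : Subgroup G}
    (hH : Group.IsNilpotent H) (hHall : (Nat.card H).Coprime H.index)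
    (hdvd : ∀ q : ℕ, q.Prime → q ∣ Nat.card K → q ∣ Nat.card H) :
    ∃ x : G, K ≤ MulAut.conj x • H :=
  wielandt_full_aux _ G H K hH hHall hdvd le_rfl

end Cfsg.Agent.Hall
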