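import Cfsg.Agent.Hall.CardForms
import Cfsg.Agent.H24.Basic

/-!
Product sets of Hall subgroups.
-/

set_option autoImplicit false

open scoped Pointwise

namespace Cfsg.Agent.Hall

variable {G : Type*} [Group G]

/-- If `A, B ≤ L` and `|L : A| ≤ |B : A ∩ B|` then the product set `A B` equals `L`. -/
theorem mul_eq_of_relIndex_le [Finite G] {A B L : Subgroup G} (hA : A ≤ L) (hB : B ≤ L)
    (h : A.relIndex L ≤ A.relIndex B) : (A : Set G) * (B : Set G) = (L : Set G) := by
  refine Set.Subset.antisymm ?_ fun l hl => ?_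
  · rintro _ ⟨a, ha, b, hb, rfl⟩
    exact L.mul_mem (hA ha) (hB hb)
  · have hne : A.relIndex L ≠ 0 := Subgroup.index_ne_zero_of_finite
    have heq : (A.subgroupOf L).relIndex (B.subgroupOf L) = (A.subgroupOf L).index := by
      rw [Subgroup.relIndex_subgroupOf hB]
      exact le_antisymm (Subgroup.relIndex_le_of_le_right hB hne) h
    obtain ⟨y, hy, x, hx, hyx⟩ :=
      H24.exists_mul_of_relIndex_eq _ _ heq (⟨l, hl⟩ : L)⁻¹
    refine ⟨(x : G)⁻¹, A.inv_mem hx, (y : G)⁻¹, B.inv_mem hy, ?_⟩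
    have h' := congrArg Subtype.val hyx
    simp only [Subgroup.coe_inv, Subgroup.coe_mul] at h'
    simp [← mul_inv_rev, ← h']

theorem isPiNumber_lcm {π : Set ℕ} {a b : ℕ} (ha : IsPiNumber π a) (hb : IsPiNumber π b) :
    IsPiNumber π (Nat.lcm a b) :=
  (ha.mul hb).of_dvd (Nat.lcm_dvd_mul a b)

/-- A Hall subgroup for `π(A) ∪ π(B)` has order `lcm |A| |B|`, `A` and `B` Hall subgroups. -/
theorem card_eq_lcm [Finite G] {π σ : Set ℕ} {A B L : Subgroup G} (hA : Cfsg.IsPiHall π A)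
    (hB : Cfsg.IsPiHall σ B) (hL : Cfsg.IsPiHall (π ∪ σ) L) :
    Nat.card L = Nat.lcm (Nat.card A) (Nat.card B) := by
  obtain ⟨c, hc⟩ := Nat.lcm_dvd A.card_subgroup_dvd_card B.card_subgroup_dvd_card
  have hdvd : ∀ D : Subgroup G, Nat.card D ∣ Nat.lcm (Nat.card A) (Nat.card B) → c ∣ D.index := by
    intro D hD
    obtain ⟨t, ht⟩ := hD
    refine ⟨t, Nat.eq_of_mul_eq_mul_left (Nat.card_pos (α := D)) ?_⟩
    rw [D.card_mul_index, hc, ht]; ring
  refine IsPiHall.card_eq_of_factor hc ?_ ?_ hL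
  · exact isPiNumber_lcm ((IsPiHall.isPiNumber_card hA).mono Set.subset_union_left)
      ((IsPiHall.isPiNumber_card hB).mono Set.subset_union_right)
  · intro p hp hpc
    rintro (h | h)
    · exact IsPiHall.isPiNumber_index hA p hp
        (hpc.trans (hdvd A (Nat.dvd_lcm_left _ _))) h
    · exact IsPiHall.isPiNumber_index hB p hp
        (hpc.trans (hdvd B (Nat.dvd_lcm_right _ _))) h

/-- In a solvable `G = H K`, normal Hall subgroups `A` of `H` and `B` of `K` (Hall in `G`)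
permute. -/
theorem exists_subgroup_eq_mul_of_hall [Finite G] [Group.IsSolvable G] {H K A B : Subgroup G}
    (hHK : ∀ g : G, ∃ h ∈ H, ∃ k ∈ K, g = h * k)
    (hA : H ≤ Subgroup.normalizer (A : Set G)) (hB : K ≤ Subgroup.normalizer (B : Set G))
    (hAh : (Nat.card A).Coprime A.index) (hBh : (Nat.card B).Coprime B.index) :
    ∃ S : Subgroup G, (S : Set G) = (A : Set G) * (B : Set G) := by
  set π : Set ℕ := ↑(Nat.card A).primeFactors
  set σ : Set ℕ := ↑(Nat.card B).primeFactors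
  have hπ := isPiHall_primeFactors hAh
  have hσ := isPiHall_primeFactors hBh
  have hD := hallDom_of_isSolvable (π ∪ σ) G
  obtain ⟨L, hL, hAL⟩ := hD.exists_le
    ((IsPiHall.isPiNumber_card hπ).mono (Set.subset_union_left (t := σ)))
  obtain ⟨z, hz⟩ := hD.2 L B hL
    ((IsPiHall.isPiNumber_card hσ).mono (Set.subset_union_right (s := π)))
  obtain ⟨h, hh, k, hk, hhk⟩ := hHK z⁻¹
  rw [inv_eq_iff_eq_inv, mul_inv_rev] at hhk
  rw [hhk, conj_mul_smul] at hz
  have hB' := conj_smul_mono k hz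
  rw [conj_smul_of_le_normalizer hB hk, ← conj_mul_smul k, mul_inv_cancel, map_one,
    one_smul] at hB'
  have hA' := conj_smul_mono h⁻¹ hAL
  rw [conj_smul_of_le_normalizer hA (inv_mem hh)] at hA'
  refine ⟨MulAut.conj h⁻¹ • L, (mul_eq_of_relIndex_le hA' hB' ?_).symm⟩
  have hl : Nat.card (MulAut.conj h⁻¹ • L : Subgroup G) = Nat.lcm (Nat.card A) (Nat.card B) :=
    card_eq_lcm hπ hσ (IsPiHall.conj _ hL)
  have h1 := Subgroup.relIndex_mul_relIndex ⊥ A _ bot_le hA'
  rw [Subgroup.relIndex_bot_left, Subgroup.relIndex_bot_left, hl] at h1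
  have h2 := Subgroup.relIndex_mul_relIndex ⊥ (A ⊓ B) B bot_le inf_le_right
  rw [Subgroup.relIndex_bot_left, Subgroup.relIndex_bot_left, Subgroup.inf_relIndex_right] at h2
  have hi : Nat.card (A ⊓ B : Subgroup G) ∣ Nat.gcd (Nat.card A) (Nat.card B) :=
    Nat.dvd_gcd (Subgroup.card_dvd_of_le inf_le_left) (Subgroup.card_dvd_of_le inf_le_right)
  have hle : Nat.lcm (Nat.card A) (Nat.card B) * Nat.card (A ⊓ B : Subgroup G) ≤
      Nat.card A * Nat.card B := by
    rw [← Nat.gcd_mul_lcm (Nat.card A) (Nat.card B),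
      mul_comm (Nat.gcd (Nat.card A) (Nat.card B))]
    exact Nat.mul_le_mul_left _ (Nat.le_of_dvd (Nat.gcd_pos_of_pos_left _ Nat.card_pos) hi)
  rw [← h1, ← h2] at hle
  have hpos : 0 < Nat.card A * Nat.card (A ⊓ B : Subgroup G) := mul_pos Nat.card_pos Nat.card_pos
  exact Nat.le_of_mul_le_mul_left (by linarith) hpos

end Cfsg.Agent.Hall
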