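import Cfsg.Agent.Hall.Wielandt
import Cfsg.Agent.Hall.Systems
import Cfsg.Agent.Cores.PCore
import Cfsg.Agent.Cores.Fitting
import Cfsg.Agent.S0143

/-!
Groups all of whose classes of p-regular elements have p-power size.
-/

set_option autoImplicit false

open scoped Pointwise

namespace Cfsg.Agent.Hall

variable {G : Type*} [Group G] {p : ℕ}

/-- Every centralizer of a p-regular element has p-power index. -/
def RegularClassesPPower (p : ℕ) (G : Type*) [Group G] : Prop :=
  ∀ x : G, (orderOf x).Coprime p →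
    ∃ k : ℕ, (Subgroup.centralizer ({x} : Set G)).index = p ^ k

theorem exists_index_pow_of_dvd (hp : p.Prime) {n k : ℕ} (h : n ∣ p ^ k) :
    ∃ j, n = p ^ j :=
  ((Nat.dvd_prime_pow hp).mp h).imp fun _ h => h.2

theorem RegularClassesPPower.subgroup [Finite G] (hp : p.Prime) (h : RegularClassesPPower p G)
    (N : Subgroup G) [N.Normal] : RegularClassesPPower p N := by
  intro x hx
  obtain ⟨k, hk⟩ := h x (by rwa [Subgroup.orderOf_coe])
  refine exists_index_pow_of_dvd hp (dvd_trans ?_ (hk ▸
    relIndex_dvd_index_normal_right (Subgroup.centralizer ({(x : G)} : Set G)) N))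
  refine Subgroup.index_dvd_of_le fun y hy => ?_
  rw [Subgroup.mem_subgroupOf, Subgroup.mem_centralizer_singleton_iff] at hy
  rw [Subgroup.mem_centralizer_singleton_iff]
  exact Subtype.ext hy

theorem exists_pregular_lift [Finite G] (hp : p.Prime) {G' : Type*} [Group G'] {f : G →* G'}
    (hf : Function.Surjective f) {z : G'} (hz : (orderOf z).Coprime p) :
    ∃ x : G, f x = z ∧ (orderOf x).Coprime p := by
  obtain ⟨x, rfl⟩ := hf z
  set a := (orderOf x).factorization p
  obtain ⟨j, hj⟩ := exists_pow_eq_self_of_coprime (x := f x) (hz.symm.pow_left a)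
  refine ⟨(x ^ p ^ a) ^ j, by rw [map_pow, map_pow, hj], ?_⟩
  refine Nat.Coprime.coprime_dvd_left (orderOf_pow_dvd j) ?_
  rw [orderOf_pow' x (pow_ne_zero _ hp.ne_zero), Nat.gcd_eq_right (Nat.ordProj_dvd _ p),
    Nat.coprime_comm, hp.coprime_iff_not_dvd]
  exact Nat.not_dvd_ordCompl hp (orderOf_pos x).ne'

theorem RegularClassesPPower.of_surjective [Finite G] {G' : Type*} [Group G'] (hp : p.Prime)
    (h : RegularClassesPPower p G) {f : G →* G'} (hf : Function.Surjective f) :
    RegularClassesPPower p G' := by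
  intro z hz
  obtain ⟨x, rfl, hx⟩ := exists_pregular_lift hp hf hz
  obtain ⟨k, hk⟩ := h x hx
  refine exists_index_pow_of_dvd hp (dvd_trans ?_ (hk ▸ Subgroup.index_map_dvd _ hf))
  refine Subgroup.index_dvd_of_le ?_
  rintro _ ⟨y, hy, rfl⟩
  rw [SetLike.mem_coe, Subgroup.mem_centralizer_singleton_iff] at hy
  rw [Subgroup.mem_centralizer_singleton_iff, ← map_mul, ← map_mul, hy]

universe u

theorem isSolvable_of_regularClasses_aux {p : ℕ} (hp : p.Prime) (n : ℕ) :
    ∀ (G : Type u) [Group G] [Finite G], Nat.card G ≤ n → RegularClassesPPower p G →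
      Group.IsSolvable G := by
  induction n with
  | zero => intro G _ _ h; exact absurd h (not_le.mpr Nat.card_pos)
  | succ n ih =>
    intro G _ _ hG h
    rcases subsingleton_or_nontrivial G with h1 | h1
    · infer_instance
    by_cases hs : IsSimpleGroup G
    · have : Fact p.Prime := ⟨hp⟩
      by_cases hreg : ∀ x : G, (orderOf x).Coprime p → x = 1
      · have hP : IsPGroup p G := by
          intro x
          refine ⟨(orderOf x).factorization p, hreg _ ?_⟩
          rw [orderOf_pow' x (pow_ne_zero _ hp.ne_zero),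
            Nat.gcd_eq_right (Nat.ordProj_dvd _ p), Nat.coprime_comm, hp.coprime_iff_not_dvd]
          exact Nat.not_dvd_ordCompl hp (orderOf_pos x).ne'
        have := hP.isNilpotent
        infer_instance
      · push Not at hreg
        obtain ⟨x, hx, hx1⟩ := hreg
        obtain ⟨k, hk⟩ := h x hx
        have hprime := S0143.result p k hp x hx1 hk
        exact isSolvable_of_card_prime_pow (p := Nat.card G) (k := 1) hprime (pow_one _).symm
    · obtain ⟨N, hN, hN1, hN2⟩ : ∃ N : Subgroup G, N.Normal ∧ N ≠ ⊥ ∧ N ≠ ⊤ := by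
        by_contra hno
        push Not at hno
        exact hs ⟨fun N hN => or_iff_not_imp_left.mpr (hno N hN)⟩
      have hlt : Nat.card N < Nat.card G := by
        refine lt_of_le_of_ne (Subgroup.card_le_card_group N) fun he => hN2 ?_
        exact Subgroup.eq_top_of_card_eq N he
      have hlt' := card_quotient_lt N hN1
      rw [Group.isSolvable_iff_subgroup_quotient N]
      exact ⟨ih N (by omega) (h.subgroup hp N),
        ih (G ⧸ N) (by omega) (h.of_surjective hp (QuotientGroup.mk'_surjective N))⟩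

theorem not_dvd_card_fitting [Finite G] (hp : p.Prime) (h : Cfsg.pCore p G = ⊥) :
    ¬ p ∣ Nat.card (Cfsg.fittingSubgroup G) := by
  intro hd
  have : Fact p.Prime := ⟨hp⟩
  have hnil := Cores.fittingSubgroup_isNilpotent (G := G)
  obtain ⟨P⟩ := (inferInstance : Nonempty (Sylow p (Cfsg.fittingSubgroup G)))
  have hPn : (P : Subgroup (Cfsg.fittingSubgroup G)).Normal :=
    (Group.isNilpotent_of_finite_tfae.out 0 3 rfl rfl).mp hnil p ‹_› P
  have hPc := P.characteristic_of_normal hPn
  have hle : ((P : Subgroup (Cfsg.fittingSubgroup G)).map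
      (Cfsg.fittingSubgroup G).subtype) ≤ Cfsg.pCore p G :=
    Cores.le_pCore (P.2.map _)
  rw [h, le_bot_iff, Subgroup.map_eq_bot_iff_of_injective _ (Subgroup.subtype_injective _)] at hle
  exact P.ne_bot_of_dvd_card hd hle

/-- An abelian p-complement exists when all p-regular classes have p-power size. -/
theorem exists_abelian_complement [Finite G] (hp : p.Prime) (h : RegularClassesPPower p G) :
    ∃ H : Subgroup G, IsMulCommutative H ∧ ¬ p ∣ Nat.card H ∧ ∃ k : ℕ, H.index = p ^ k := by
  have : Fact p.Prime := ⟨hp⟩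
  have hsolv : Group.IsSolvable G := isSolvable_of_regularClasses_aux hp _ G le_rfl h
  obtain ⟨H, hH⟩ := (hallDom_of_isSolvable {q | q ≠ p} G).1
  obtain ⟨hHp, hHi⟩ := (isPiHall_ne_iff hp).mp hH
  refine ⟨H, ?_, hp.coprime_iff_not_dvd.mp hHp.symm, hHi⟩
  set O := Cfsg.pCore p G
  set f := QuotientGroup.mk' O with hfdef
  have hsurj : Function.Surjective f := QuotientGroup.mk'_surjective O
  have hQ := h.of_surjective hp hsurj
  set F := Cfsg.fittingSubgroup (G ⧸ O)
  have hFp : ¬ p ∣ Nat.card F := not_dvd_card_fitting hp Cores.pCore_quotient_pCore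
  have hFc : ∀ z : G ⧸ O, (orderOf z).Coprime p → F ≤ Subgroup.centralizer {z} := by
    intro z hz
    obtain ⟨k, hk⟩ := hQ z hz
    rw [← Subgroup.relIndex_eq_one]
    refine Nat.eq_one_of_dvd_coprimes ((hp.coprime_iff_not_dvd.mpr hFp).pow_left k) ?_
      (Subgroup.relIndex_dvd_card _ F)
    rw [← hk]
    exact relIndex_dvd_index_normal_right _ F
  have hHF : H.map f ≤ F := by
    refine le_trans ?_ (Cores.centralizer_fittingSubgroup_le (G := G ⧸ O))
    rintro _ ⟨x, hx, rfl⟩ c hc
    have hz : (orderOf (f x)).Coprime p :=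
      (hHp.coprime_dvd_left (H.orderOf_dvd_natCard hx)).coprime_dvd_left (orderOf_map_dvd f x)
    exact Subgroup.mem_centralizer_singleton_iff.mp (hFc _ hz hc)
  refine ⟨⟨fun a b => Subtype.ext ?_⟩⟩
  have ha : f a ∈ F := hHF (Subgroup.mem_map_of_mem f a.2)
  have hz : (orderOf (f (b : G))).Coprime p :=
    (hHp.coprime_dvd_left (H.orderOf_dvd_natCard b.2)).coprime_dvd_left (orderOf_map_dvd f _)
  have hab : f a * f b = f b * f a :=
    Subgroup.mem_centralizer_singleton_iff.mp (hFc _ hz ha)
  rw [← map_mul, ← map_mul] at hab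
  have hmem : ((a : G) * b)⁻¹ * ((b : G) * a) ∈ O ⊓ H :=
    ⟨QuotientGroup.eq.mp hab, H.mul_mem (H.inv_mem (H.mul_mem a.2 b.2)) (H.mul_mem b.2 a.2)⟩
  obtain ⟨j, hj⟩ := IsPGroup.iff_card.mp (Cores.pCore_isPGroup (G := G) (p := p))
  rw [inf_bot_of_coprime (hj ▸ (hHp.pow_right j).symm), Subgroup.mem_bot, inv_mul_eq_one] at hmem
  exact hmem

/-- Conversely, an abelian p-complement forces p-power classes of p-regular elements. -/
theorem regularClasses_of_complement [Finite G] (hp : p.Prime) {H : Subgroup G}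
    (hc : IsMulCommutative H) (hpH : ¬ p ∣ Nat.card H) {k : ℕ} (hk : H.index = p ^ k) :
    RegularClassesPPower p G := by
  intro x hx
  have hnil : Group.IsNilpotent H := by
    open scoped IsMulCommutative in infer_instance
  have hcop : (Nat.card H).Coprime H.index := by
    rw [hk]; exact ((hp.coprime_iff_not_dvd.mpr hpH).pow_left k).symm
  obtain ⟨g, hg⟩ := le_conj_of_nilpotent (K := Subgroup.zpowers x) hnil hcop
    (by open scoped IsMulCommutative in infer_instance) fun q hq hqx => by
      rw [Nat.card_zpowers] at hqx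
      have h1 := hqx.trans (orderOf_dvd_natCard x)
      rw [← H.card_mul_index, hk] at h1
      refine (hq.dvd_mul.mp h1).resolve_right fun h => ?_
      have hqp := (Nat.prime_dvd_prime_iff_eq hq hp).mp (hq.dvd_of_dvd_pow h)
      exact hp.coprime_iff_not_dvd.mp hx.symm (hqp ▸ hqx)
  refine exists_index_pow_of_dvd hp (dvd_trans ?_ (dvd_of_eq ((index_conj_smul g H).trans hk)))
  refine Subgroup.index_dvd_of_le fun y hy => ?_
  rw [Subgroup.mem_centralizer_singleton_iff]
  have hx' := mem_conj_smul.mp (hg (Subgroup.mem_zpowers x))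
  have hy' := mem_conj_smul.mp hy
  have h1 : g⁻¹ * y * g * (g⁻¹ * x * g) = g⁻¹ * x * g * (g⁻¹ * y * g) :=
    congrArg Subtype.val (hc.is_comm.comm ⟨_, hy'⟩ ⟨_, hx'⟩)
  calc y * x = g * (g⁻¹ * y * g * (g⁻¹ * x * g)) * g⁻¹ := by group
    _ = g * (g⁻¹ * x * g * (g⁻¹ * y * g)) * g⁻¹ := by rw [h1]
    _ = x * y := by group

end Cfsg.Agent.Hall
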