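import Cfsg.Agent.Hall.Basic
import Mathlib.GroupTheory.Sylow
import Mathlib.GroupTheory.Nilpotent

/-!
Conjugacy part of the Schur–Zassenhaus theorem, when the normal Hall subgroup or the quotient is
solvable; "internal" forms for subgroups; abelian / p-group characteristic subgroups of solvable
groups.
-/

set_option autoImplicit false

open scoped Pointwise
open MulAction

namespace Cfsg.Agent.Hall

variable {G : Type*} [Group G]

/-- Conjugacy of complements of an abelian normal Hall subgroup. -/
theorem complement_conj_of_abelian [Finite G] (A : Subgroup G) [A.Normal] [IsMulCommutative A]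
    (hA : (Nat.card A).Coprime A.index) {H K : Subgroup G}
    (hH : Subgroup.IsComplement' A H) (hK : Subgroup.IsComplement' A K) :
    ∃ a ∈ A, MulAut.conj a • H = K := by
  have key : ∀ L : Subgroup G, Subgroup.IsComplement' A L →
      ∃ α : A.QuotientDiff, stabilizer G α = L := by
    intro L hL
    let T : A.LeftTransversal := ⟨(L : Set G), hL.symm⟩
    let q : A.QuotientDiff := Quotient.mk'' T
    have hle : L ≤ stabilizer G q := by
      intro l hl
      rw [mem_stabilizer_iff]
      refine congrArg Quotient.mk'' ?_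
      apply Subtype.ext
      change MulOpposite.op l⁻¹ • (L : Set G) = L
      exact op_smul_coe_set (L.inv_mem hl)
    refine ⟨q, (Subgroup.eq_of_le_of_card_ge hle ?_).symm⟩
    have h1 := (Subgroup.isComplement'_stabilizer_of_coprime (α := q) hA).card_mul_card
    have h2 := hL.card_mul_card
    exact Nat.le_of_eq (Nat.eq_of_mul_eq_mul_left Nat.card_pos (h1.trans h2.symm))
  obtain ⟨α, rfl⟩ := key H hH
  obtain ⟨β, rfl⟩ := key K hK
  obtain ⟨a, ha⟩ := Subgroup.exists_smul_eq hA α β
  refine ⟨a, a.2, ?_⟩
  rw [← ha, ← map_conj_eq_smul]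
  exact (stabilizer_smul_eq_stabilizer_map_conj (a : G) α).symm

theorem inf_bot_of_coprime {H K : Subgroup G}
    (h : (Nat.card H).Coprime (Nat.card K)) : H ⊓ K = ⊥ :=
  (Subgroup.disjoint_of_coprime_natCard h).eq_bot

/-- Transfer of a conjugacy statement from the subgroup `T` to the ambient group. -/
theorem conj_eq_of_subgroupOf {A H K T : Subgroup G} (hH : H ≤ T) (hK : K ≤ T)
    (h : ∃ a ∈ A.subgroupOf T, MulAut.conj a • H.subgroupOf T = K.subgroupOf T) :
    ∃ a ∈ A, MulAut.conj a • H = K := by
  obtain ⟨a, ha, h⟩ := h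
  refine ⟨a, ha, ?_⟩
  have h' := congrArg (Subgroup.map T.subtype) h
  rw [map_conj_smul, Subgroup.map_subgroupOf_eq_of_le hH,
    Subgroup.map_subgroupOf_eq_of_le hK] at h'
  exact h'

theorem sup_conj_smul_eq (M H : Subgroup G) (g : G) [M.Normal] :
    M ⊔ MulAut.conj g • H = MulAut.conj g • (M ⊔ H) := by
  rw [Subgroup.smul_sup, conj_smul_of_normal g M]

theorem comap_map_mk' (M H : Subgroup G) [M.Normal] :
    (H.map (QuotientGroup.mk' M)).comap (QuotientGroup.mk' M) = M ⊔ H := by
  rw [Subgroup.comap_map_eq, QuotientGroup.ker_mk', sup_comm]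

theorem sup_eq_of_map_mk'_eq {M H K : Subgroup G} [M.Normal]
    (h : H.map (QuotientGroup.mk' M) = K.map (QuotientGroup.mk' M)) : M ⊔ H = M ⊔ K := by
  rw [← comap_map_mk', ← comap_map_mk' M K, h]

theorem card_map_mk'_mul (M H : Subgroup G) [M.Normal] (h : M ≤ H) :
    Nat.card (H.map (QuotientGroup.mk' M)) * Nat.card M = Nat.card H := by
  have h2 := Subgroup.relIndex_mul_relIndex ⊥ M H bot_le h
  rw [Subgroup.relIndex_bot_left, Subgroup.relIndex_bot_left] at h2
  rw [← h2, ← Subgroup.relIndex_ker, QuotientGroup.ker_mk', mul_comm]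

theorem card_quotient_lt [Finite G] (M : Subgroup G) [M.Normal] (hM : M ≠ ⊥) :
    Nat.card (G ⧸ M) < Nat.card G := by
  rw [Subgroup.card_eq_card_quotient_mul_card_subgroup M]
  exact lt_mul_of_one_lt_right Nat.card_pos (M.one_lt_card_iff_ne_bot.mpr hM)

/-- A nontrivial solvable normal subgroup contains a nontrivial abelian normal subgroup. -/
theorem exists_abelian_normal_le (N : Subgroup G) [N.Normal] (hN : N ≠ ⊥)
    (hsolv : Group.IsSolvable N) :
    ∃ M : Subgroup G, M.Normal ∧ M ≠ ⊥ ∧ M ≤ N ∧ IsMulCommutative M := by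
  classical
  obtain ⟨n, hn⟩ := (Group.isSolvable_def N).mp hsolv
  have hex : ∃ n, derivedSeries N n = ⊥ := ⟨n, hn⟩
  have h0 : Nat.find hex ≠ 0 := by
    intro h
    have h' := Nat.find_spec hex
    rw [h, derivedSeries_zero] at h'
    exact hN (Subgroup.subgroupOf_self (H := N) ▸ h' |> Subgroup.subgroupOf_eq_bot.mp |>.eq_bot_of_self)
  obtain ⟨m, hm⟩ := Nat.exists_eq_succ_of_ne_zero h0
  have hne : derivedSeries N m ≠ ⊥ := Nat.find_min hex (by omega)
  have hbot : derivedSeries N (m + 1) = ⊥ := by
    have h' := Nat.find_spec hex; rwa [hm] at h'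
  rw [derivedSeries_succ, Subgroup.commutator_eq_bot_iff_le_centralizer] at hbot
  have hcomm : IsMulCommutative (derivedSeries N m) :=
    ⟨⟨fun a b => Subtype.ext (hbot b.2 a a.2)⟩⟩
  refine ⟨(derivedSeries N m).map N.subtype, inferInstance, ?_, Subgroup.map_subtype_le _, inferInstance⟩
  rw [Ne, Subgroup.map_eq_bot_iff_of_injective _ N.subtype_injective]
  exact hne

universe u

theorem complement_conj_solvable_aux (n : ℕ) :
    ∀ (G : Type u) [Group G] [Finite G], Nat.card G ≤ n → ∀ (N : Subgroup G) [N.Normal],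
      (Nat.card N).Coprime N.index → Group.IsSolvable N →
      ∀ H K : Subgroup G, Subgroup.IsComplement' N H → Subgroup.IsComplement' N K →
        ∃ a ∈ N, MulAut.conj a • H = K := by
  induction n with
  | zero => intro G _ _ h; exact absurd h (not_le.mpr Nat.card_pos)
  | succ n ih =>
    intro G _ _ hG N _ hcop hsolv H K hH hK
    rcases eq_or_ne N ⊥ with rfl | hN
    · refine ⟨1, one_mem _, ?_⟩
      rw [Subgroup.isComplement'_bot_left] at hH hK
      rw [hH, hK, map_one, one_smul]
    obtain ⟨M, hMn, hM, hMN, hMc⟩ := exists_abelian_normal_le N hN hsolv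
    have hlt := card_quotient_lt M hM
    set f := QuotientGroup.mk' M
    have hsurj : Function.Surjective f := QuotientGroup.mk'_surjective M
    have : (N.map f).Normal := Subgroup.Normal.map inferInstance f hsurj
    have hidx : (N.map f).index = N.index :=
      Subgroup.index_map_eq N hsurj (by rwa [QuotientGroup.ker_mk'])
    have hcN : Nat.card (N.map f) ∣ Nat.card N := Subgroup.card_map_dvd N f
    have hc' : (Nat.card (N.map f)).Coprime (N.map f).index := hidx ▸ hcop.coprime_dvd_left hcN
    have hcompl : ∀ L : Subgroup G, Subgroup.IsComplement' N L →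
        Subgroup.IsComplement' (N.map f) (L.map f) := by
      intro L hL
      apply isComplement'_of_sup_eq_top
      · rw [← Subgroup.map_sup, hL.sup_eq_top, Subgroup.map_top_of_surjective f hsurj]
      · refine inf_bot_of_coprime ((hcop.coprime_dvd_left hcN).coprime_dvd_right ?_)
        rw [hL.symm.index_eq_card]
        exact Subgroup.card_map_dvd L f
    obtain ⟨a', ha', e⟩ := ih (G ⧸ M) (by omega) (N.map f) hc' (isSolvable_map f hsolv)
      (H.map f) (K.map f) (hcompl H hH) (hcompl K hK)
    obtain ⟨a, ha, rfl⟩ := Subgroup.mem_map.mp ha'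
    rw [← map_conj_smul] at e
    have hsup := sup_eq_of_map_mk'_eq e
    have hdisj : ∀ L : Subgroup G, Subgroup.IsComplement' N L → M ⊓ L = ⊥ := fun L hL =>
      le_bot_iff.mp ((inf_le_inf_right L hMN).trans (le_of_eq hL.disjoint.eq_bot))
    have hKT : K ≤ M ⊔ K := le_sup_right
    have hMT : M ≤ M ⊔ K := le_sup_left
    have hH'T : MulAut.conj a • H ≤ M ⊔ K := hsup ▸ le_sup_right
    have : (M.subgroupOf (M ⊔ K)).Normal := inferInstance
    have hc2 := subgroupOf_isComplement' hMT hKT rfl (hdisj K hK)
    have hc1 : Subgroup.IsComplement' (M.subgroupOf (M ⊔ K))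
        ((MulAut.conj a • H).subgroupOf (M ⊔ K)) := by
      refine subgroupOf_isComplement' hMT hH'T hsup ?_
      rw [← conj_smul_of_normal a M, ← Subgroup.smul_inf, hdisj H hH, Subgroup.smul_bot]
    have hcop2 : (Nat.card (M.subgroupOf (M ⊔ K))).Coprime (M.subgroupOf (M ⊔ K)).index := by
      rw [hc2.symm.index_eq_card, card_subgroupOf_of_le hMT, card_subgroupOf_of_le hKT]
      have := hcop.coprime_dvd_left (Subgroup.card_dvd_of_le hMN)
      rwa [hK.symm.index_eq_card] at this
    have : IsMulCommutative (M.subgroupOf (M ⊔ K)) := inferInstance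
    obtain ⟨m, hm, e'⟩ := conj_eq_of_subgroupOf hH'T hKT
      (complement_conj_of_abelian _ hcop2 hc1 hc2)
    exact ⟨m * a, mul_mem (hMN hm) ha, by rw [conj_mul_smul, e']⟩

/-- Schur–Zassenhaus conjugacy, solvable normal Hall subgroup. -/
theorem complement_conj_of_solvable {G : Type*} [Group G] [Finite G] (N : Subgroup G) [N.Normal]
    (hN : (Nat.card N).Coprime N.index) (hsolv : Group.IsSolvable N) {H K : Subgroup G}
    (hH : Subgroup.IsComplement' N H) (hK : Subgroup.IsComplement' N K) :
    ∃ a ∈ N, MulAut.conj a • H = K :=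
  complement_conj_solvable_aux _ G le_rfl N hN hsolv H K hH hK

/-- A nontrivial finite solvable group has a nontrivial characteristic p-subgroup. -/
theorem exists_char_pgroup {L : Type*} [Group L] [Finite L] [Nontrivial L] [Group.IsSolvable L] :
    ∃ (p : ℕ) (C : Subgroup L), p.Prime ∧ C.Characteristic ∧ C ≠ ⊥ ∧ IsPGroup p C := by
  classical
  obtain ⟨n, hn⟩ := (Group.isSolvable_def L).mp inferInstance
  have hex : ∃ n, derivedSeries L n = ⊥ := ⟨n, hn⟩
  have h0 : Nat.find hex ≠ 0 := by
    intro h
    have h' := Nat.find_spec hex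
    rw [h, derivedSeries_zero] at h'
    exact top_ne_bot h'
  obtain ⟨m, hm⟩ := Nat.exists_eq_succ_of_ne_zero h0
  have hne : derivedSeries L m ≠ ⊥ := Nat.find_min hex (by omega)
  have hbot : derivedSeries L (m + 1) = ⊥ := by
    have h' := Nat.find_spec hex; rwa [hm] at h'
  rw [derivedSeries_succ, Subgroup.commutator_eq_bot_iff_le_centralizer] at hbot
  set D := derivedSeries L m
  have hcomm : IsMulCommutative D := ⟨⟨fun a b => Subtype.ext (hbot b.2 a a.2)⟩⟩
  have hD : 1 < Nat.card D := D.one_lt_card_iff_ne_bot.mpr hne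
  obtain ⟨p, hp, hpd⟩ := Nat.exists_prime_and_dvd hD.ne'
  have : Fact p.Prime := ⟨hp⟩
  obtain ⟨S⟩ := (inferInstance : Nonempty (Sylow p D))
  have hSn : (S : Subgroup D).Normal := Subgroup.normal_of_isMulCommutative _
  refine ⟨p, (S : Subgroup D).map D.subtype, hp, ?_, ?_, ?_⟩
  · have hSc : (S : Subgroup D).Characteristic := S.characteristic_of_normal hSn
    exact inferInstance
  · rw [Ne, Subgroup.map_eq_bot_iff_of_injective _ D.subtype_injective]
    exact S.ne_bot_of_dvd_card hpd
  · exact S.2.map D.subtype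

theorem complement_conj_quotient_aux (n : ℕ) :
    ∀ (G : Type u) [Group G] [Finite G], Nat.card G ≤ n → ∀ (N : Subgroup G) [N.Normal],
      (Nat.card N).Coprime N.index →
      ∀ H K : Subgroup G, Subgroup.IsComplement' N H → Subgroup.IsComplement' N K →
        Group.IsSolvable H → ∃ a ∈ N, MulAut.conj a • H = K := by
  induction n with
  | zero => intro G _ _ h; exact absurd h (not_le.mpr Nat.card_pos)
  | succ n ih =>
    intro G _ _ hG N _ hcop H K hH hK hsolv
    rcases H.bot_or_nontrivial with rfl | hnt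
    · refine ⟨1, one_mem _, ?_⟩
      rw [Subgroup.isComplement'_bot_right] at hH
      subst hH
      rw [Subgroup.isComplement'_top_left] at hK
      rw [hK, map_one, one_smul]
    obtain ⟨p, C, hp, hCc, hC, hCp⟩ := exists_char_pgroup (L := H)
    have : Fact p.Prime := ⟨hp⟩
    set P := C.map H.subtype with hPdef
    have hPH : P ≤ H := Subgroup.map_subtype_le C
    have hP : P ≠ ⊥ := by
      rw [hPdef, Ne, Subgroup.map_eq_bot_iff_of_injective _ H.subtype_injective]; exact hC
    have hPp : IsPGroup p P := hCp.map H.subtype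
    -- `H` normalises `P`
    have hHP : H ≤ Subgroup.normalizer (P : Set G) := by
      refine Subgroup.le_normalizer_iff.mpr fun h hh x hx => ?_
      obtain ⟨y, hy, rfl⟩ := Subgroup.mem_map.mp hx
      exact ⟨⟨h, hh⟩ * y * ⟨h, hh⟩⁻¹, Subgroup.Normal.conj_mem inferInstance y hy _, rfl⟩
    -- the preimage of the image of `P`
    set M := N ⊔ P with hMdef
    have hMn : M.Normal := by
      rw [← Subgroup.normalizer_eq_top_iff, eq_top_iff, ← hH.sup_eq_top]
      refine sup_le (le_sup_left.trans Subgroup.le_normalizer) ?_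
      refine le_normalizer_of_conj fun h hh => ?_
      rw [hMdef, Subgroup.smul_sup, conj_smul_of_normal, conj_smul_of_le_normalizer hHP hh]
    have hcHK : Nat.card K = Nat.card H := by
      have h1 := hH.card_mul_card; have h2 := hK.card_mul_card
      exact Nat.eq_of_mul_eq_mul_left Nat.card_pos (h2.trans h1.symm)
    have hcopH : (Nat.card N).Coprime (Nat.card H) := hH.symm.index_eq_card ▸ hcop
    have hNP : N ⊓ P = ⊥ := inf_bot_of_coprime
      (hcopH.coprime_dvd_right (Subgroup.card_dvd_of_le hPH))
    have hcM : Nat.card M = Nat.card N * Nat.card P := card_sup_eq_of_inf_eq_bot N P hNP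
    set P₁ := M ⊓ K with hP1def
    have hMK : M = N ⊔ P₁ := dedekind_normal le_sup_left (hK.sup_eq_top ▸ le_top)
    have hcP : Nat.card P₁ = Nat.card P := by
      have h1 : N ⊓ P₁ = ⊥ := le_bot_iff.mp
        ((inf_le_inf_left N inf_le_right).trans (le_of_eq hK.disjoint.eq_bot))
      have h2 := card_sup_eq_of_inf_eq_bot N P₁ h1
      rw [← hMK, hcM] at h2
      exact (Nat.eq_of_mul_eq_mul_left Nat.card_pos h2).symm
    have hP1p : IsPGroup p P₁ := by
      obtain ⟨k, hk⟩ := IsPGroup.iff_card.mp hPp
      exact IsPGroup.of_card (hcP.trans hk)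
    -- conjugate `P` to `P₁` inside `M`
    have hidxP : ∀ Q : Subgroup G, Q ≤ M → Nat.card Q = Nat.card P →
        (Q.subgroupOf M).index = Nat.card N := by
      intro Q hQ hQc
      have h1 := (Q.subgroupOf M).card_mul_index
      rw [card_subgroupOf_of_le hQ, hcM, hQc, mul_comm (Nat.card N)] at h1
      exact Nat.eq_of_mul_eq_mul_left Nat.card_pos h1
    have hnd : ¬ p ∣ Nat.card N := by
      intro h
      have hpP : p ∣ Nat.card P := by
        have := P.nontrivial_iff_ne_bot.mpr hP
        obtain ⟨k, hk, hk'⟩ := hPp.nontrivial_iff_card.mp this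
        exact hk' ▸ dvd_pow_self p hk.ne'
      exact Nat.not_coprime_of_dvd_of_dvd hp.one_lt h
        (hpP.trans (Subgroup.card_dvd_of_le hPH)) hcopH
    have hPM : P ≤ M := le_sup_right
    have hP1M : P₁ ≤ M := inf_le_left
    let S : Sylow p M := IsPGroup.toSylow (P := P.subgroupOf M)
      (hPp.comap_of_injective M.subtype M.subtype_injective) (hidxP P hPM rfl ▸ hnd)
    let S₁ : Sylow p M := IsPGroup.toSylow (P := P₁.subgroupOf M)
      (hP1p.comap_of_injective M.subtype M.subtype_injective) (hidxP P₁ hP1M hcP ▸ hnd)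
    obtain ⟨c, hc⟩ := MulAction.exists_smul_eq M S S₁
    have hc' : MulAut.conj (c : G) • P = P₁ := by
      have h1 : MulAut.conj c • P.subgroupOf M = P₁.subgroupOf M := congrArg (·.toSubgroup) hc
      have h2 := congrArg (Subgroup.map M.subtype) h1
      rw [map_conj_smul, Subgroup.map_subgroupOf_eq_of_le hPM,
        Subgroup.map_subgroupOf_eq_of_le hP1M] at h2
      exact h2
    obtain ⟨a, ha, q, hq, hcaq⟩ := Subgroup.mem_sup_of_normal_left.mp (c.2 : (c : G) ∈ N ⊔ P)
    rw [← hcaq, conj_mul_smul, conj_smul_eq_self_of_mem hq] at hc'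
    set H' := MulAut.conj a • H with hH'def
    have hP1H' : P₁ ≤ H' := hc' ▸ conj_smul_mono a hPH
    have hP1K : P₁ ≤ K := inf_le_right
    set T := Subgroup.normalizer (P₁ : Set G) with hTdef
    have hH'T : H' ≤ T := by
      refine le_normalizer_of_conj fun x hx => ?_
      have hx' := conj_smul_of_le_normalizer hHP (mem_conj_smul.mp hx)
      rw [← hc', ← conj_mul_smul]
      conv_rhs => rw [← hx', ← conj_mul_smul]
      congr 2
      group
    have hKT : K ≤ T := by
      refine le_normalizer_of_conj fun k hk => ?_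
      rw [hP1def, Subgroup.smul_inf, conj_smul_of_normal, conj_smul_eq_self_of_mem hk]
    -- complements inside `T`
    set N' := N ⊓ T with hN'def
    have hNH' : N ⊔ H' = ⊤ := by
      rw [hH'def, sup_conj_smul_eq, hH.sup_eq_top]; exact conj_smul_of_normal a ⊤
    have hN'T : N' ≤ T := inf_le_right
    have hsupT : ∀ L : Subgroup G, L ≤ T → N ⊔ L = ⊤ → N' ⊔ L = T := by
      intro L hL hsup
      refine le_antisymm (sup_le hN'T hL) fun t ht => ?_
      obtain ⟨x, hx, l, hl, rfl⟩ := Subgroup.mem_sup_of_normal_left.mp (hsup ▸ Subgroup.mem_top t)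
      refine Subgroup.mul_mem_sup ⟨hx, ?_⟩ hl
      simpa using T.mul_mem ht (T.inv_mem (hL hl))
    have hNH'bot : N ⊓ H' = ⊥ := inf_bot_of_coprime
      (by rw [hH'def, card_conj_smul]; exact hcopH)
    have : (N'.subgroupOf T).Normal := by
      rw [hN'def, Subgroup.inf_subgroupOf_right]; infer_instance
    have hc1 : Subgroup.IsComplement' (N'.subgroupOf T) (H'.subgroupOf T) :=
      subgroupOf_isComplement' hN'T hH'T (hsupT H' hH'T hNH')
        (le_bot_iff.mp ((inf_le_inf_right H' inf_le_left).trans hNH'bot.le))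
    have hc2 : Subgroup.IsComplement' (N'.subgroupOf T) (K.subgroupOf T) :=
      subgroupOf_isComplement' hN'T hKT (hsupT K hKT hK.sup_eq_top)
        (le_bot_iff.mp ((inf_le_inf_right K inf_le_left).trans hK.disjoint.eq_bot.le))
    -- quotient by `P₁`
    set Q := P₁.subgroupOf T with hQdef
    have : Q.Normal := Subgroup.normal_in_normalizer
    have hQne : Q ≠ ⊥ := by
      intro h
      have h' := card_subgroupOf_of_le (Subgroup.le_normalizer (H := P₁))
      rw [← hTdef, ← hQdef, h, Subgroup.card_bot, hcP] at h'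
      exact hP (Subgroup.card_eq_one.mp h'.symm)
    have hQlt : Nat.card (T ⧸ Q) ≤ n := by
      have h1 := card_quotient_lt Q hQne
      have h2 := Subgroup.card_le_card_group T
      omega
    set f := QuotientGroup.mk' Q
    have hsurj : Function.Surjective f := QuotientGroup.mk'_surjective Q
    have : ((N'.subgroupOf T).map f).Normal := Subgroup.Normal.map inferInstance f hsurj
    have hcop1 : (Nat.card (N'.subgroupOf T)).Coprime (Nat.card H) := by
      rw [card_subgroupOf_of_le hN'T]
      exact hcopH.coprime_dvd_left (Subgroup.card_dvd_of_le inf_le_left)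
    have hcompl : ∀ L : Subgroup T, Subgroup.IsComplement' (N'.subgroupOf T) L →
        Nat.card L = Nat.card H →
        Subgroup.IsComplement' ((N'.subgroupOf T).map f) (L.map f) := by
      intro L hL hLc
      apply isComplement'_of_sup_eq_top
      · rw [← Subgroup.map_sup, hL.sup_eq_top, Subgroup.map_top_of_surjective f hsurj]
      · refine inf_bot_of_coprime ?_
        exact (hcop1.coprime_dvd_left (Subgroup.card_map_dvd _ f)).coprime_dvd_right
          (hLc ▸ Subgroup.card_map_dvd L f)
    have hH'c : Nat.card (H'.subgroupOf T) = Nat.card H := by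
      rw [card_subgroupOf_of_le hH'T, hH'def, card_conj_smul]
    have hKc : Nat.card (K.subgroupOf T) = Nat.card H := by
      rw [card_subgroupOf_of_le hKT, hcHK]
    have hq1 := hcompl _ hc1 hH'c
    have hq2 := hcompl _ hc2 hKc
    have hcop' : (Nat.card ((N'.subgroupOf T).map f)).Coprime ((N'.subgroupOf T).map f).index := by
      rw [hq1.symm.index_eq_card]
      exact (hcop1.coprime_dvd_left (Subgroup.card_map_dvd _ f)).coprime_dvd_right
        (hH'c ▸ Subgroup.card_map_dvd _ f)
    have hH's : Group.IsSolvable H' :=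
      Group.isSolvable_of_surjective (f := (Subgroup.equivSMul (MulAut.conj a) H).toMonoidHom)
        (MulEquiv.surjective _)
    obtain ⟨b', hb', e⟩ := ih (T ⧸ Q) hQlt _ hcop' _ _ hq1 hq2
      (isSolvable_map f (isSolvable_subgroupOf hH'T hH's))
    obtain ⟨b, hb, rfl⟩ := Subgroup.mem_map.mp hb'
    rw [← map_conj_smul] at e
    have hQH : Q ≤ MulAut.conj b • H'.subgroupOf T := by
      rw [← conj_smul_of_normal b Q]
      exact conj_smul_mono b fun x hx => hP1H' hx
    have hQK : Q ≤ K.subgroupOf T := fun x hx => hP1K hx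
    have e' := sup_eq_of_map_mk'_eq e
    rw [sup_eq_right.mpr hQH, sup_eq_right.mpr hQK] at e'
    obtain ⟨b₂, hb₂, e''⟩ := conj_eq_of_subgroupOf hH'T hKT ⟨b, hb, e'⟩
    exact ⟨b₂ * a, mul_mem (Subgroup.mem_inf.mp hb₂).1 ha, by rw [conj_mul_smul, e'']⟩

/-- Schur–Zassenhaus conjugacy, solvable complement (quotient). -/
theorem complement_conj_of_solvable_compl {G : Type*} [Group G] [Finite G] (N : Subgroup G)
    [N.Normal] (hN : (Nat.card N).Coprime N.index) {H K : Subgroup G}
    (hH : Subgroup.IsComplement' N H) (hK : Subgroup.IsComplement' N K)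
    (hsolv : Group.IsSolvable H) : ∃ a ∈ N, MulAut.conj a • H = K :=
  complement_conj_quotient_aux _ G le_rfl N hN H K hH hK hsolv

/-- Schur–Zassenhaus conjugacy, in the usual "either solvable" form. -/
theorem complement_conj {G : Type*} [Group G] [Finite G] (N : Subgroup G) [N.Normal]
    (hN : (Nat.card N).Coprime N.index) (hsolv : Group.IsSolvable N ∨ Group.IsSolvable (G ⧸ N))
    {H K : Subgroup G} (hH : Subgroup.IsComplement' N H) (hK : Subgroup.IsComplement' N K) :
    ∃ a ∈ N, MulAut.conj a • H = K := by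
  rcases hsolv with h | h
  · exact complement_conj_of_solvable N hN h hH hK
  · exact complement_conj_of_solvable_compl N hN hH hK
      (Group.isSolvable_of_isSolvable_injective (f := (hH.symm.QuotientMulEquiv).symm.toMonoidHom)
        (MulEquiv.injective _))

/-- Internal form: `H` and `K` are complements of `A` in the same subgroup. -/
theorem conj_complement_internal {G : Type*} [Group G] [Finite G] {A H K : Subgroup G}
    (hH : H ≤ Subgroup.normalizer (A : Set G)) (hsup : A ⊔ H = A ⊔ K)
    (hcard : Nat.card K = Nat.card H) (hcop : (Nat.card A).Coprime (Nat.card H))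
    (hsolv : Group.IsSolvable A ∨ Group.IsSolvable H) :
    ∃ a ∈ A, MulAut.conj a • H = K := by
  set T := A ⊔ H with hT
  have hTN : T ≤ Subgroup.normalizer (A : Set G) := sup_le Subgroup.le_normalizer hH
  have hAT : A ≤ T := le_sup_left
  have hHT : H ≤ T := le_sup_right
  have hKT : K ≤ T := hsup ▸ le_sup_right
  have : (A.subgroupOf T).Normal :=
    (Subgroup.normal_subgroupOf_iff_le_normalizer hAT).mpr hTN
  have h1 := subgroupOf_isComplement' hAT hHT rfl (inf_bot_of_coprime hcop)
  have h2 := subgroupOf_isComplement' hAT hKT hsup.symm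
    (inf_bot_of_coprime (hcard ▸ hcop))
  have hc : (Nat.card (A.subgroupOf T)).Coprime (A.subgroupOf T).index := by
    rw [h1.symm.index_eq_card, card_subgroupOf_of_le hAT, card_subgroupOf_of_le hHT]
    exact hcop
  refine conj_eq_of_subgroupOf hHT hKT ?_
  rcases hsolv with h | h
  · exact complement_conj_of_solvable _ hc (isSolvable_subgroupOf hAT h) h1 h2
  · exact complement_conj_of_solvable_compl _ hc h1 h2 (isSolvable_subgroupOf hHT h)

end Cfsg.Agent.Hall
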