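import Cfsg.Agent.Hall.WielandtFull

/-!
Structure of minimal non-nilpotent groups and minimal non-abelian groups.
-/

set_option autoImplicit false

open scoped Pointwise

namespace Cfsg.Agent.Hall

variable {G : Type*} [Group G] [Finite G]

/-- Elements of coprime order in a nilpotent subgroup commute. -/
theorem commute_of_nilpotent_sup {X : Subgroup G} (hX : Group.IsNilpotent X) {a b : G}
    (ha : a ∈ X) (hb : b ∈ X) (hcop : (orderOf a).Coprime (orderOf b)) : a * b = b * a :=
  congrArg Subtype.val (H31.commute_of_coprime_orderOf (x := (⟨a, ha⟩ : X)) (y := ⟨b, hb⟩)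
    (by rwa [Subgroup.orderOf_mk, Subgroup.orderOf_mk]))

theorem schmidt_structure (h : ∀ H : Subgroup G, H ≠ ⊤ → Group.IsNilpotent H)
    (hn : ¬ Group.IsNilpotent G) :
    ∃ p q : ℕ, p.Prime ∧ q.Prime ∧ p ≠ q ∧ ∃ (P : Sylow p G) (Q : Sylow q G) (c : G),
      (P : Subgroup G) = Subgroup.zpowers c ∧ (Q : Subgroup G).Normal ∧
      (P : Subgroup G) ⊔ Q = ⊤ ∧ Subgroup.IsComplement' (Q : Subgroup G) P ∧
      ¬ (P : Subgroup G) ≤ Subgroup.centralizer ((Q : Subgroup G) : Set G) := by
  obtain ⟨q, -, hq, -, -, hqd, Q, hQ⟩ := exists_normal_sylow h hn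
  have : Fact q.Prime := ⟨hq⟩
  set S := (Q : Subgroup G) with hS
  obtain ⟨C, hC⟩ := Subgroup.exists_right_complement'_of_coprime Q.card_coprime_index
  have hSC : S ⊔ C = ⊤ := hC.sup_eq_top
  have hcopSC : (Nat.card S).Coprime (Nat.card C) := by
    rw [← hC.symm.index_eq_card]; exact Q.card_coprime_index
  have hCtop : C ≠ ⊤ := fun e => by
    have h1 := hC.card_mul_card
    rw [e, Subgroup.card_top] at h1
    have h2 : Nat.card S = 1 := by nlinarith [Nat.card_pos (α := G), Nat.card_pos (α := S)]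
    exact Q.ne_bot_of_dvd_card hqd (Subgroup.card_eq_one.mp h2)
  have hCn : Group.IsNilpotent C := h C hCtop
  -- proper subgroups of `C` centralise `S`
  have hcent : ∀ A : Subgroup G, A < C → A ≤ Subgroup.centralizer (S : Set G) := by
    intro A hA a ha
    have hne : S ⊔ A ≠ ⊤ := fun e => hA.ne (Subgroup.eq_of_le_of_card_ge hA.le (by
      have h1 := card_sup_mul_card_inf S A
      rw [e, Subgroup.card_top, ← hC.card_mul_card] at h1
      have h2 : Nat.card (S ⊓ A : Subgroup G) = 1 :=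
        Nat.eq_one_of_dvd_coprimes hcopSC (Subgroup.card_dvd_of_le inf_le_left)
          (Subgroup.card_dvd_of_le (inf_le_right.trans hA.le))
      rw [h2, mul_one] at h1
      exact (Nat.eq_of_mul_eq_mul_left Nat.card_pos h1).le))
    exact Subgroup.mem_centralizer_iff.mpr fun s hs => commute_of_nilpotent_sup (h _ hne)
      (Subgroup.mem_sup_left hs) (Subgroup.mem_sup_right ha)
      ((hcopSC.coprime_dvd_left (S.orderOf_dvd_natCard hs)).coprime_dvd_right
        (C.orderOf_dvd_natCard (hA.le ha)))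
  have hnc : ¬ C ≤ Subgroup.centralizer (S : Set G) := fun hle => by
    refine hn ?_
    have hSn : Group.IsNilpotent S := Q.isPGroup'.isNilpotent
    have hcomm : ∀ (a : S) (b : C), Commute (S.subtype a) (C.subtype b) := fun a b =>
      (Subgroup.mem_centralizer_iff.mp (hle b.2) a a.2)
    refine Group.nilpotent_of_surjective (G := S × C) (S.subtype.noncommCoprod C.subtype hcomm)
      fun g => ?_
    obtain ⟨⟨a, b⟩, hab⟩ := hC.2 g
    exact ⟨(a, b), by simpa using hab⟩
  obtain ⟨c, hcC, hc⟩ := SetLike.not_le_iff_exists.mp hnc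
  have hgen : C = Subgroup.zpowers c := by
    by_contra hne
    exact hc (hcent _ ((Subgroup.zpowers_le.mpr hcC).lt_of_ne (Ne.symm hne))
      (Subgroup.mem_zpowers c))
  have hC1 : Nat.card C ≠ 1 := fun e => by
    rw [Subgroup.card_eq_one] at e
    exact hnc (e ▸ bot_le)
  obtain ⟨p, hp, hpd⟩ := Nat.exists_prime_and_dvd hC1
  have : Fact p.Prime := ⟨hp⟩
  obtain ⟨A, B, hA, hB, hsup, hAp, hBp, hcard, -⟩ := exists_nilpotent_split C hCn hp
  have hAC : A = C := by
    by_contra hne
    refine hnc (hsup ▸ sup_le (hcent A (hA.lt_of_ne hne)) (hcent B (hB.lt_of_ne fun e => ?_)))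
    exact hBp (e ▸ hpd)
  have hCp : IsPGroup p C := hAC ▸ hAp
  have hpS : ¬ p ∣ C.index := by
    rw [hC.index_eq_card]
    exact fun hd => Nat.not_coprime_of_dvd_of_dvd hp.one_lt hd hpd hcopSC
  refine ⟨p, q, hp, hq, fun e => ?_, IsPGroup.toSylow hCp hpS, Q, c, hgen, hQ, ?_, hC, hnc⟩
  · exact Nat.not_coprime_of_dvd_of_dvd hq.one_lt
      ((Q.2.card_eq_or_dvd).resolve_left (fun h1 => Q.ne_bot_of_dvd_card hqd
        (Subgroup.card_eq_one.mp h1))) (e ▸ hpd) hcopSC
  · exact (sup_comm C S).trans hSC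

theorem schmidt_cyclic (h : ∀ H : Subgroup G, H ≠ ⊤ → Group.IsNilpotent H)
    (hn : ¬ Group.IsNilpotent G) :
    ∃ p q : ℕ, p.Prime ∧ q.Prime ∧ p ≠ q ∧ ∃ (P : Sylow p G) (Q : Sylow q G),
      IsCyclic P ∧ (Q : Subgroup G).Normal ∧ (P : Subgroup G) ⊔ Q = ⊤ := by
  obtain ⟨p, q, hp, hq, hpq, P, Q, c, hP, hQ, hsup, -, -⟩ := schmidt_structure h hn
  refine ⟨p, q, hp, hq, hpq, P, Q, ?_, hQ, hsup⟩
  change IsCyclic (P : Subgroup G)
  rw [hP]
  infer_instance

theorem minimal_nonabelian_structure (hna : ¬ IsMulCommutative G)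
    (h : ∀ H : Subgroup G, H ≠ ⊤ → IsMulCommutative H) :
    (∃ p : ℕ, p.Prime ∧ IsPGroup p G) ∨ ∃ p q : ℕ, p.Prime ∧ q.Prime ∧ p ≠ q ∧
      ∃ (P : Sylow p G) (Q : Sylow q G), IsCyclic P ∧ (Q : Subgroup G).Normal ∧
        Cfsg.IsElementaryAbelian q (Q : Subgroup G) ∧ (P : Subgroup G) ⊔ Q = ⊤ := by
  by_cases hn : Group.IsNilpotent G
  · left
    by_contra hc
    push Not at hc
    refine hna ⟨⟨fun a b => ?_⟩⟩
    -- every element is a product of commuting Sylow parts
    have hnt : Nat.card G ≠ 1 := fun e => by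
      have : Subsingleton G := (Nat.card_eq_one_iff_unique.mp e).1
      exact hna ⟨⟨fun a b => Subsingleton.elim _ _⟩⟩
    obtain ⟨p, hp, hpd⟩ := Nat.exists_prime_and_dvd hnt
    have : Fact p.Prime := ⟨hp⟩
    obtain ⟨A, B, -, -, hsup, hAp, hBp, hcard, hcomm⟩ :=
      exists_nilpotent_split (⊤ : Subgroup G)
        (Group.nilpotent_of_mulEquiv (_h := hn) Subgroup.topEquiv.symm) hp
    have hA : A ≠ ⊤ := fun e => hc p hp ((e ▸ hAp).of_equiv Subgroup.topEquiv)
    have hB : B ≠ ⊤ := fun e => hBp (by rw [e, Subgroup.card_top]; exact hpd)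
    have hnor : A ≤ Subgroup.normalizer (B : Set G) := fun s hs =>
      Subgroup.centralizer_le_normalizer _
        (Subgroup.mem_centralizer_iff.mpr fun r hr => (hcomm s hs r hr).symm)
    have hmem : ∀ x : G, ∃ s ∈ A, ∃ r ∈ B, x = s * r := fun x => by
      have hx : x ∈ ((A ⊔ B : Subgroup G) : Set G) := by rw [hsup]; trivial
      rw [Subgroup.coe_mul_of_left_le_normalizer_right A B hnor] at hx
      obtain ⟨s, hs, r, hr, rfl⟩ := hx
      exact ⟨s, hs, r, hr, rfl⟩
    obtain ⟨s, hs, r, hr, rfl⟩ := hmem a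
    obtain ⟨s', hs', r', hr', rfl⟩ := hmem b
    have h1 : Commute s s' := congrArg Subtype.val ((h A hA).is_comm.comm ⟨s, hs⟩ ⟨s', hs'⟩)
    have h2 : Commute r r' := congrArg Subtype.val ((h B hB).is_comm.comm ⟨r, hr⟩ ⟨r', hr'⟩)
    exact ((h1.mul_right (hcomm s hs r' hr')).mul_left
      ((show Commute r s' from (hcomm s' hs' r hr).symm).mul_right h2)).eq
  · right
    obtain ⟨p, q, hp, hq, hpq, P, Q, c, hP, hQ, hsup, hC, hnc⟩ :=
      schmidt_structure (fun H hH => by
        have := h H hH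
        exact Group.isNilpotent_of_finite_tfae.out 0 3 rfl rfl |>.mpr fun p _ S =>
          ⟨fun x hx g => by rw [mul_comm' g x, mul_inv_cancel_right]; exact hx⟩) hn
    have : Fact q.Prime := ⟨hq⟩
    refine ⟨p, q, hp, hq, hpq, P, Q, ?_, hQ, ?_, hsup⟩
    · change IsCyclic (P : Subgroup G)
      rw [hP]; infer_instance
    have hQtop : (Q : Subgroup G) ≠ ⊤ := fun e => hn (Group.nilpotent_of_surjective
      (h := Q.isPGroup'.isNilpotent) (Q : Subgroup G).subtype
      fun g => ⟨⟨g, e ▸ Subgroup.mem_top g⟩, rfl⟩)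
    have hab := h _ hQtop
    have habq : ∀ x ∈ (Q : Subgroup G), ∀ y ∈ (Q : Subgroup G), x * y = y * x := fun x hx y hy =>
      congrArg Subtype.val (hab.is_comm.comm ⟨x, hx⟩ ⟨y, hy⟩)
    refine ⟨hab, ?_⟩
    by_contra hno
    push Not at hno
    obtain ⟨x₀, hx₀, hx₀q⟩ := hno
    -- the kernel and the image of the `q`-th power map
    let K : Subgroup G :=
      { carrier := {x | x ∈ (Q : Subgroup G) ∧ x ^ q = 1}
        one_mem' := ⟨one_mem _, one_pow q⟩
        mul_mem' := fun {a b} ha hb => ⟨mul_mem ha.1 hb.1, by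
          rw [(show Commute a b from habq a ha.1 b hb.1).mul_pow, ha.2, hb.2, one_mul]⟩
        inv_mem' := fun {a} ha => ⟨inv_mem ha.1, by rw [inv_pow, ha.2, inv_one]⟩ }
    let I : Subgroup G :=
      { carrier := {y | ∃ x ∈ (Q : Subgroup G), x ^ q = y}
        one_mem' := ⟨1, one_mem _, one_pow q⟩
        mul_mem' := by
          rintro _ _ ⟨a, ha, rfl⟩ ⟨b, hb, rfl⟩
          exact ⟨a * b, mul_mem ha hb, (show Commute a b from habq a ha b hb).mul_pow q⟩
        inv_mem' := by
          rintro _ ⟨a, ha, rfl⟩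
          exact ⟨a⁻¹, inv_mem ha, inv_pow a q⟩ }
    have hKlt : K ≤ (Q : Subgroup G) := fun x hx => hx.1
    have hIlt : I ≤ (Q : Subgroup G) := by rintro _ ⟨a, ha, rfl⟩; exact pow_mem ha q
    have hconj : ∀ g : G, ∀ x ∈ (Q : Subgroup G), g * x * g⁻¹ ∈ (Q : Subgroup G) :=
      fun g x hx => hQ.conj_mem x hx g
    have hKn : K.Normal := ⟨fun x hx g => ⟨hconj g x hx.1, by
      rw [conj_pow, hx.2, mul_one, mul_inv_cancel]⟩⟩
    have hIn : I.Normal := ⟨by
      rintro _ ⟨a, ha, rfl⟩ g
      exact ⟨g * a * g⁻¹, hconj g a ha, conj_pow⟩⟩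
    -- a normal subgroup of `G` properly inside `Q` commutes with `P`
    have hfix : ∀ N : Subgroup G, N.Normal → N < (Q : Subgroup G) →
        ∀ x ∈ N, c * x = x * c := by
      intro N hN hlt x hx
      have hne : N ⊔ (P : Subgroup G) ≠ ⊤ := fun e => by
        have h1 := card_sup_mul_card_inf N (P : Subgroup G)
        rw [e, Subgroup.card_top, ← hC.card_mul_card] at h1
        have h2 : Nat.card N * Nat.card (P : Subgroup G) <
            Nat.card (Q : Subgroup G) * Nat.card (P : Subgroup G) := by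
          refine Nat.mul_lt_mul_of_pos_right ?_ Nat.card_pos
          by_contra hge
          exact hlt.ne (Subgroup.eq_of_le_of_card_ge hlt.le (not_lt.mp hge))
        exact absurd ((Nat.le_mul_of_pos_right _ Nat.card_pos).trans h1.le) (not_le.mpr h2)
      exact congrArg Subtype.val ((h _ hne).is_comm.comm
        ⟨c, Subgroup.mem_sup_right (hP ▸ Subgroup.mem_zpowers c)⟩ ⟨x, Subgroup.mem_sup_left hx⟩)
    have hKne : K < (Q : Subgroup G) := hKlt.lt_of_ne fun e => hx₀q ((e.symm ▸ hx₀ : x₀ ∈ K)).2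
    have hIne : I < (Q : Subgroup G) := by
      refine hIlt.lt_of_ne fun e => ?_
      -- surjective `q`-th power forces the kernel to be trivial
      obtain ⟨k, hk⟩ := IsPGroup.iff_orderOf.mp Q.isPGroup' ⟨x₀, hx₀⟩
      rw [Subgroup.orderOf_mk] at hk
      have hsurj : Function.Surjective (fun x : (Q : Subgroup G) => x ^ q) := fun y => by
        obtain ⟨z, hz, hzy⟩ := (e.symm ▸ y.2 : (y : G) ∈ I)
        exact ⟨⟨z, hz⟩, Subtype.ext hzy⟩
      have hinj := Finite.injective_iff_surjective.mpr hsurj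
      have hit : ∀ j, ∀ x : (Q : Subgroup G), x ^ q ^ j = 1 → x = 1 := by
        intro j
        induction j with
        | zero => intro x hx; simpa using hx
        | succ j ih =>
          intro x hx
          refine hinj ?_
          change x ^ q = 1 ^ q
          rw [ih (x ^ q) (by rw [← pow_mul, ← pow_succ']; exact hx), one_pow]
      have := hit k ⟨x₀, hx₀⟩ (Subtype.ext (by simp [← hk, pow_orderOf_eq_one]))
      exact hx₀q (by rw [show x₀ = 1 from congrArg Subtype.val this, one_pow])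
    refine hnc ?_
    rw [hP, Subgroup.zpowers_le, Subgroup.mem_centralizer_iff]
    intro x hx
    have hcP : c ∈ (P : Subgroup G) := hP ▸ Subgroup.mem_zpowers c
    set z := c * x * c⁻¹ * x⁻¹ with hz
    have hy := hconj c x hx
    have hzQ : z ∈ (Q : Subgroup G) := mul_mem hy (inv_mem hx)
    have hpowI : c * x ^ q * c⁻¹ = x ^ q := by
      rw [hfix I hIn hIne _ ⟨x, hx, rfl⟩, mul_inv_cancel_right]
    have hzq : z ^ q = 1 := by
      rw [hz, (show Commute (c * x * c⁻¹) x⁻¹ from habq _ hy _ (inv_mem hx)).mul_pow, conj_pow,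
        hpowI, inv_pow, mul_inv_cancel]
    have hzK : z ∈ K := ⟨hzQ, hzq⟩
    have hzc : Commute c z := hfix K hKn hKne z hzK
    have hn' : ∀ n : ℕ, c ^ n * x = z ^ n * x * c ^ n := by
      intro n
      induction n with
      | zero => simp
      | succ n ih =>
        have e1 : c * x = z * x * c := by rw [hz]; group
        calc c ^ (n + 1) * x = c * (c ^ n * x) := by rw [pow_succ', mul_assoc]
          _ = (c * z ^ n) * (x * c ^ n) := by rw [ih]; group
          _ = z ^ n * (c * x) * c ^ n := by rw [(hzc.pow_right n).eq]; group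
          _ = z ^ (n + 1) * x * c ^ (n + 1) := by rw [e1, pow_succ, pow_succ']; group
    have h1 := hn' (orderOf c)
    rw [pow_orderOf_eq_one, one_mul, mul_one, right_eq_mul] at h1
    have hz1 : z = 1 := orderOf_eq_one_iff.mp (Nat.eq_one_of_dvd_coprimes
      (by
        rw [← hC.symm.index_eq_card]
        exact Q.card_coprime_index.symm)
      ((orderOf_dvd_of_pow_eq_one h1).trans ((P : Subgroup G).orderOf_dvd_natCard hcP))
      ((Q : Subgroup G).orderOf_dvd_natCard hzQ))
    have e1 : c * x = z * x * c := by rw [hz]; group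
    rw [hz1, one_mul] at e1
    exact e1.symm

end Cfsg.Agent.Hall
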