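import Cfsg.Agent.Hall.FocalIterate
import Cfsg.Agent.Hall.SchurZassenhaus
import Cfsg.Agent.Hall.CardForms
import Cfsg.Agent.H30.Supersolvable

/-!
Supersolvable Hall subgroups of equal order are conjugate.
-/

set_option autoImplicit false

open scoped Pointwise

namespace Cfsg.Agent.Hall

universe u

theorem sylow_normal_supersolvable_aux (n : ℕ) :
    ∀ (G : Type u) [Group G] [Finite G], Nat.card G ≤ n → Cfsg.IsSupersolvable G →
      ∀ (p : ℕ) [Fact p.Prime], (∀ q : ℕ, q.Prime → q ∣ Nat.card G → q ≤ p) →
      ∀ P : Sylow p G, (P : Subgroup G).Normal := by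
  induction n with
  | zero => intro G _ _ h; exact absurd h (not_le.mpr Nat.card_pos)
  | succ n ih =>
    intro G _ _ hn hG p hp hmax P
    cases subsingleton_or_nontrivial G
    · rw [Subsingleton.elim (P : Subgroup G) ⊤]
      infer_instance
    obtain ⟨N, hN, hNp⟩ := H30.exists_normal_prime hG
    set r := Nat.card N with hr
    have : Fact r.Prime := ⟨hNp⟩
    have hlt := card_quotient_lt N (H30.ne_bot_of_prime_card hNp)
    have hsurj := QuotientGroup.mk'_surjective N
    have hq := ih (G ⧸ N) (by omega) (H30.isSupersolvable_quotient hG N) p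
      (fun q h1 h2 => hmax q h1 (h2.trans (Subgroup.card_quotient_dvd_card N)))
      (P.mapSurjective hsurj)
    rw [Sylow.coe_mapSurjective] at hq
    have hL : (N ⊔ (P : Subgroup G)).Normal := by
      rw [← comap_map_mk']
      exact hq.comap _
    rcases eq_or_ne r p with hrp | hrp
    · have hNP : N ≤ (P : Subgroup G) := by
        have hNpg : IsPGroup p N := IsPGroup.of_card (n := 1) (by rw [pow_one, ← hrp])
        have h1 : IsPGroup p ((P : Subgroup G) ⊔ N : Subgroup G) :=
          P.2.to_sup_of_normal_right hNpg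
        have h2 := P.3 h1 le_sup_left
        rw [← h2]; exact le_sup_right
      rwa [sup_eq_right.mpr hNP] at hL
    · have hrlt : r < p := lt_of_le_of_ne (hmax r hNp N.card_subgroup_dvd_card) hrp
      have : IsCyclic N := isCyclic_of_prime_card hr.symm
      have hidx : (MulAut.conjNormal (H := N)).ker.index ∣ r - 1 := by
        rw [Subgroup.index_ker]
        refine (Subgroup.card_subgroup_dvd_card _).trans ?_
        rw [IsCyclic.card_mulAut, ← hr, Nat.totient_prime hNp]
      have hPn : (P : Subgroup G) ≤ Subgroup.centralizer (N : Set G) := by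
        intro x hx
        have hk : x ∈ (MulAut.conjNormal (H := N)).ker := by
          refine mem_of_coprime_index _ ((Nat.Coprime.coprime_dvd_right hidx) ?_)
          obtain ⟨k, hk⟩ := IsPGroup.iff_orderOf.mp P.2 ⟨x, hx⟩
          rw [Subgroup.orderOf_mk] at hk
          rw [hk]
          refine Nat.Coprime.pow_left k (hp.out.coprime_iff_not_dvd.mpr fun hd => ?_)
          have := Nat.le_of_dvd (by have := hNp.two_le; omega) hd
          omega
        rw [Subgroup.mem_centralizer_iff]
        intro y hy
        have h1 := congrArg Subtype.val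
          (show (MulAut.conjNormal (H := N) x) ⟨y, hy⟩ = ⟨y, hy⟩ by
            rw [MonoidHom.mem_ker.mp hk]; rfl)
        rw [MulAut.conjNormal_apply] at h1
        exact (mul_inv_eq_iff_eq_mul.mp h1).symm
      set L := N ⊔ (P : Subgroup G) with hLdef
      have hPL : (P : Subgroup G) ≤ L := le_sup_right
      have hsub : ((P.subtype hPL : Sylow p L) : Subgroup L).Normal := by
        rw [Sylow.coe_subtype]
        refine (Subgroup.normal_subgroupOf_iff_le_normalizer hPL).mpr (sup_le ?_ Subgroup.le_normalizer)
        exact (fun y hy => Subgroup.centralizer_le_normalizer _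
          (Subgroup.mem_centralizer_iff.mpr fun x hx =>
            ((Subgroup.mem_centralizer_iff.mp (hPn hx)) y hy).symm))
      have := (P.subtype hPL).characteristic_of_normal hsub
      have hmap : (((P.subtype hPL : Sylow p L) : Subgroup L).map L.subtype).Normal := inferInstance
      rwa [Sylow.coe_subtype, Subgroup.map_subgroupOf_eq_of_le hPL] at hmap

/-- In a supersolvable group the Sylow subgroup for the largest prime is normal. -/
theorem sylow_normal_supersolvable {G : Type*} [Group G] [Finite G] (hG : Cfsg.IsSupersolvable G)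
    {p : ℕ} [Fact p.Prime] (hmax : ∀ q : ℕ, q.Prime → q ∣ Nat.card G → q ≤ p) (P : Sylow p G) :
    (P : Subgroup G).Normal :=
  sylow_normal_supersolvable_aux _ G le_rfl hG p hmax P

theorem supersolvable_hall_conj_aux (n : ℕ) :
    ∀ (G : Type u) [Group G] [Finite G], Nat.card G ≤ n →
      ∀ H K : Subgroup G, Cfsg.IsSupersolvable H → Cfsg.IsSupersolvable K →
        Nat.card H = Nat.card K → (Nat.card H).Coprime H.index →
        ∃ x : G, MulAut.conj x • H = K := by
  induction n with
  | zero => intro G _ _ h; exact absurd h (not_le.mpr Nat.card_pos)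
  | succ n ih =>
    intro G _ _ hn H K hH hK hcard hHall
    by_cases h1 : Nat.card H = 1
    · refine ⟨1, ?_⟩
      rw [map_one, one_smul]
      exact (Subgroup.card_eq_one.mp h1).trans (Subgroup.card_eq_one.mp (hcard ▸ h1)).symm
    have hne : (Nat.card H).primeFactors.Nonempty :=
      ⟨_, Nat.mem_primeFactors.mpr ⟨Nat.minFac_prime h1, Nat.minFac_dvd _, Nat.card_pos.ne'⟩⟩
    set p := (Nat.card H).primeFactors.max' hne with hpdef
    obtain ⟨hp, hpd, -⟩ := Nat.mem_primeFactors.mp ((Nat.card H).primeFactors.max'_mem hne)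
    rw [← hpdef] at hp hpd
    have : Fact p.Prime := ⟨hp⟩
    have hmax : ∀ q : ℕ, q.Prime → q ∣ Nat.card H → q ≤ p := fun q hq hqd =>
      Finset.le_max' _ _ (Nat.mem_primeFactors.mpr ⟨hq, hqd, Nat.card_pos.ne'⟩)
    have hKidx : K.index = H.index := by
      have := K.card_mul_index.trans H.card_mul_index.symm
      rw [hcard] at this
      exact Nat.eq_of_mul_eq_mul_left Nat.card_pos this
    have key : ∀ X : Subgroup G, Cfsg.IsSupersolvable X → Nat.card X = Nat.card H →
        X.index = H.index →
        ∃ S : Sylow p G, (S : Subgroup G) ≤ X ∧ X ≤ Subgroup.normalizer ((S : Subgroup G) : Set G) := by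
      intro X hX hc hi
      obtain ⟨S₀⟩ := (inferInstance : Nonempty (Sylow p X))
      have hS₀ := sylow_normal_supersolvable hX (hc.symm ▸ hmax) S₀
      have hind : ¬ p ∣ ((S₀ : Subgroup X).map X.subtype).index := by
        rw [Subgroup.index_map_subtype, hi, hp.dvd_mul, not_or]
        exact ⟨S₀.not_dvd_index, fun h => Nat.not_coprime_of_dvd_of_dvd hp.one_lt hpd h hHall⟩
      refine ⟨IsPGroup.toSylow (S₀.2.map X.subtype) hind, Subgroup.map_subtype_le _, fun x hx => ?_⟩
      have h2 : (⟨x, hx⟩ : X) ∈ Subgroup.normalizer ((S₀ : Subgroup X) : Set X) :=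
        (Subgroup.normalizer_eq_top_iff.mpr hS₀).symm ▸ Subgroup.mem_top _
      exact Subgroup.le_normalizer_map X.subtype ⟨_, h2, rfl⟩
    obtain ⟨S, hSH, hHS⟩ := key H hH rfl rfl
    obtain ⟨S', hSK, hKS⟩ := key K hK hcard.symm hKidx
    obtain ⟨a, ha⟩ := MulAction.exists_smul_eq G S' S
    have ha' : MulAut.conj a • (S' : Subgroup G) = (S : Subgroup G) :=
      congrArg Sylow.toSubgroup ha
    set K' := MulAut.conj a • K with hK'
    have hSK' : (S : Subgroup G) ≤ K' := ha' ▸ conj_smul_mono a hSK
    set T := Subgroup.normalizer ((S : Subgroup G) : Set G) with hT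
    have hK'T : K' ≤ T := by
      refine le_normalizer_of_conj fun k hk => ?_
      obtain ⟨b, hb, rfl⟩ : ∃ b ∈ K, a * b * a⁻¹ = k :=
        ⟨a⁻¹ * k * a, mem_conj_smul.mp hk, by group⟩
      rw [← ha', ← conj_mul_smul, show a * b * a⁻¹ * a = a * b from by group, conj_mul_smul,
        conj_smul_of_le_normalizer hKS hb]
    set M := (S : Subgroup G).subgroupOf T with hM
    set f := QuotientGroup.mk' M
    have hsurj := QuotientGroup.mk'_surjective M
    have hMne : M ≠ ⊥ := fun h => S.ne_bot_of_dvd_card (hpd.trans H.card_subgroup_dvd_card) (by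
      rw [← Subgroup.map_subgroupOf_eq_of_le (Subgroup.le_normalizer (H := (S : Subgroup G))),
        ← hT, ← hM, h, Subgroup.map_bot])
    have hTlt := card_quotient_lt M hMne
    have hTle := T.card_le_card_group
    have hX : ∀ X : Subgroup G, X ≤ T → (S : Subgroup G) ≤ X →
        (((X.subgroupOf T).map f).comap f = X.subgroupOf T) ∧
          Nat.card ((X.subgroupOf T).map f) * Nat.card M = Nat.card X := by
      intro X hXT hSX
      have hle : M ≤ X.subgroupOf T := fun z hz => Subgroup.mem_subgroupOf.mpr (hSX hz)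
      exact ⟨by rw [comap_map_mk', sup_eq_right.mpr hle],
        by rw [card_map_mk'_mul M _ hle, card_subgroupOf_of_le hXT]⟩
    obtain ⟨hH1, hH2⟩ := hX H hHS hSH
    obtain ⟨hK1, hK2⟩ := hX K' hK'T hSK'
    have hsH : Cfsg.IsSupersolvable ((H.subgroupOf T).map f) :=
      H30.isSupersolvable_of_surjective (H30.isSupersolvable_congr
        (Subgroup.subgroupOfEquivOfLe hHS).symm hH) _ (f.subgroupMap_surjective _)
    have hsK : Cfsg.IsSupersolvable ((K'.subgroupOf T).map f) :=
      H30.isSupersolvable_of_surjective (H30.isSupersolvable_congr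
        (Subgroup.subgroupOfEquivOfLe hK'T).symm
        (H30.isSupersolvable_congr (Subgroup.equivSMul (MulAut.conj a) K) hK)) _
        (f.subgroupMap_surjective _)
    have hceq : Nat.card ((H.subgroupOf T).map f) = Nat.card ((K'.subgroupOf T).map f) := by
      refine Nat.eq_of_mul_eq_mul_right (Nat.card_pos (α := M)) ?_
      rw [hH2, hK2, hK', card_conj_smul, hcard]
    have hcop : (Nat.card ((H.subgroupOf T).map f)).Coprime ((H.subgroupOf T).map f).index := by
      have h2 : ((H.subgroupOf T).map f).index = (H.subgroupOf T).index := by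
        rw [← Subgroup.index_comap_of_surjective _ hsurj, hH1]
      rw [h2]
      exact (hHall.coprime_dvd_left ⟨_, hH2.symm⟩).coprime_dvd_right
        (Subgroup.relIndex_dvd_index_of_le hHS)
    obtain ⟨t, ht⟩ := ih (T ⧸ M) (by omega) _ _ hsH hsK hceq hcop
    obtain ⟨t, rfl⟩ := hsurj t
    rw [← map_conj_smul] at ht
    have hle : MulAut.conj (t : G) • H ≤ K' := by
      intro z hz
      have hz' := mem_conj_smul.mp hz
      have hzT : z ∈ T := by
        have h3 := T.mul_mem (T.mul_mem t.2 (hHS hz')) (T.inv_mem t.2)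
        have e : (t : G) * ((t : G)⁻¹ * z * t) * (t : G)⁻¹ = z := by group
        rwa [e] at h3
      have h4 : (⟨z, hzT⟩ : T) ∈ MulAut.conj t • H.subgroupOf T :=
        mem_conj_smul.mpr (Subgroup.mem_subgroupOf.mpr hz')
      have h5 : (⟨z, hzT⟩ : T) ∈ ((K'.subgroupOf T).map f).comap f :=
        Subgroup.mem_comap.mpr (ht ▸ Subgroup.mem_map_of_mem f h4)
      rw [hK1] at h5
      exact h5
    have heq : MulAut.conj (t : G) • H = K' := Subgroup.eq_of_le_of_card_ge hle (by
      rw [hK', card_conj_smul, card_conj_smul, hcard])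
    exact ⟨a⁻¹ * t, by rw [conj_mul_smul, heq, hK', conj_inv_smul_conj_smul]⟩

/-- Supersolvable Hall subgroups of the same order are conjugate. -/
theorem supersolvable_hall_conj {G : Type*} [Group G] [Finite G] {H K : Subgroup G}
    (hH : Cfsg.IsSupersolvable H) (hK : Cfsg.IsSupersolvable K) (hcard : Nat.card H = Nat.card K)
    (hHall : (Nat.card H).Coprime H.index) : ∃ x : G, MulAut.conj x • H = K :=
  supersolvable_hall_conj_aux _ G le_rfl H K hH hK hcard hHall

end Cfsg.Agent.Hall
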