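import Cfsg.Agent.Hall.CardForms
import Cfsg.Agent.H31.Basic
import Mathlib.GroupTheory.Nilpotent

/-!
Wielandt: a nilpotent Hall subgroup contains, up to conjugation, all subgroups for its primes.
-/

set_option autoImplicit false

open scoped Pointwise

namespace Cfsg.Agent.Hall

variable {G : Type*} [Group G]

theorem isNilpotent_conj_smul {H : Subgroup G} (a : G) (h : Group.IsNilpotent H) :
    Group.IsNilpotent (MulAut.conj a • H : Subgroup G) :=
  Group.nilpotent_of_mulEquiv (_h := h) (Subgroup.equivSMul (MulAut.conj a) H)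

theorem isNilpotent_of_le {H K : Subgroup G} (h : H ≤ K) (hK : Group.IsNilpotent K) :
    Group.IsNilpotent H :=
  Group.nilpotent_of_mulEquiv (_h := Subgroup.isNilpotent (hG := hK) (H.subgroupOf K))
    (Subgroup.subgroupOfEquivOfLe h)

/-- A nilpotent group splits over its Sylow `p`-subgroup, with commuting factors. -/
theorem exists_nilpotent_split [Finite G] (H : Subgroup G) (hH : Group.IsNilpotent H)
    {p : ℕ} (hp : p.Prime) :
    ∃ S R : Subgroup G, S ≤ H ∧ R ≤ H ∧ S ⊔ R = H ∧ IsPGroup p S ∧ ¬ p ∣ Nat.card R ∧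
      Nat.card S * Nat.card R = Nat.card H ∧ ∀ s ∈ S, ∀ r ∈ R, s * r = r * s := by
  have : Fact p.Prime := ⟨hp⟩
  obtain ⟨P⟩ := (inferInstance : Nonempty (Sylow p H))
  have : (P : Subgroup H).Normal :=
    (Group.isNilpotent_of_finite_tfae.out 0 3 rfl rfl).mp hH p ‹_› P
  obtain ⟨R, hR⟩ := Subgroup.exists_right_complement'_of_coprime P.card_coprime_index
  refine ⟨(P : Subgroup H).map H.subtype, R.map H.subtype, Subgroup.map_subtype_le _,
    Subgroup.map_subtype_le _, ?_, P.2.map _, ?_, ?_, ?_⟩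
  · rw [← Subgroup.map_sup, hR.sup_eq_top, ← MonoidHom.range_eq_map, Subgroup.range_subtype]
  · rw [Subgroup.card_map_of_injective H.subtype_injective, ← hR.symm.index_eq_card]
    exact P.not_dvd_index
  · rw [Subgroup.card_map_of_injective H.subtype_injective,
      Subgroup.card_map_of_injective H.subtype_injective, hR.card_mul_card]
  · rintro _ ⟨s, hs, rfl⟩ _ ⟨r, hr, rfl⟩
    refine congrArg Subtype.val (H31.commute_of_coprime_orderOf (x := s) (y := r) ?_)
    obtain ⟨k, hk⟩ := P.2 ⟨s, hs⟩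
    have hk' : s ^ p ^ k = 1 := by simpa using congrArg Subtype.val hk
    refine Nat.Coprime.coprime_dvd_left (orderOf_dvd_of_pow_eq_one hk') (Nat.Coprime.pow_left k ?_)
    refine hp.coprime_iff_not_dvd.mpr fun hd => ?_
    have := hd.trans (R.orderOf_dvd_natCard hr)
    rw [← hR.symm.index_eq_card] at this
    exact P.not_dvd_index this

universe u

/-- One step: a `p`-group `P` and a `p'`-group `Q` normalising it go into one conjugate. -/
theorem wielandt_step {G : Type u} [Group G] [Finite G] {H P Q : Subgroup G}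
    (hH : Group.IsNilpotent H) (hHall : (Nat.card H).Coprime H.index)
    {p : ℕ} (hp : p.Prime) (hpH : p ∣ Nat.card H) (hP : IsPGroup p P)
    (hQP : Q ≤ Subgroup.normalizer (P : Set G))
    (hQ : ∀ q : ℕ, q.Prime → q ∣ Nat.card Q → q ∣ Nat.card H ∧ q ≠ p)
    (hrec : ∀ (T : Type u) [Group T] [Finite T] (R Q' : Subgroup T), Group.IsNilpotent R →
      (Nat.card R).Coprime R.index →
      (∀ q : ℕ, q.Prime → q ∣ Nat.card Q' → q ∣ Nat.card R) → Nat.card Q' = Nat.card Q →
      (Group.IsNilpotent Q → Group.IsNilpotent Q') → ∃ t : T, Q' ≤ MulAut.conj t • R) :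
    ∃ x : G, P ⊔ Q ≤ MulAut.conj x • H := by
  have : Fact p.Prime := ⟨hp⟩
  -- a Sylow subgroup containing `P` lies in a conjugate of `H`
  obtain ⟨S, hS⟩ := hP.exists_le_sylow
  obtain ⟨S₀⟩ := (inferInstance : Nonempty (Sylow p H))
  have hS₀ : ¬ p ∣ ((S₀ : Subgroup H).map H.subtype).index := by
    rw [Subgroup.index_map_subtype, hp.dvd_mul, not_or]
    exact ⟨S₀.not_dvd_index, fun h => Nat.not_coprime_of_dvd_of_dvd hp.one_lt hpH h hHall⟩
  let S₁ : Sylow p G := IsPGroup.toSylow (S₀.2.map H.subtype) hS₀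
  obtain ⟨a, ha⟩ := MulAction.exists_smul_eq G S₁ S
  set H' := MulAut.conj a • H with hH'
  have hSH' : (S : Subgroup G) ≤ H' := by
    rw [← ha]
    exact conj_smul_mono a (Subgroup.map_subtype_le _)
  have hH'n : Group.IsNilpotent H' := isNilpotent_conj_smul a hH
  obtain ⟨T₀, R, hT₀, hR, hsup, hT₀p, hRp, hcard, hcomm⟩ := exists_nilpotent_split H' hH'n hp
  -- `P ≤ T₀`
  have hPT : P ≤ T₀ := by
    intro x hx
    obtain ⟨k, hk⟩ := hP ⟨x, hx⟩
    have hk' : x ^ p ^ k = 1 := by simpa using congrArg Subtype.val hk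
    have hxH : x ∈ T₀ ⊔ R := hsup.symm ▸ hSH' (hS hx)
    have hnorm : T₀ ≤ Subgroup.normalizer (R : Set G) := by
      refine le_normalizer_of_conj fun s hs => ?_
      ext z
      rw [mem_conj_smul]
      constructor
      · intro hz
        have h := hcomm s hs _ hz
        have e : z = s⁻¹ * z * s := by
          have e2 : s * (s⁻¹ * z * s) = z * s := by group
          rw [e2] at h
          exact mul_right_cancel h
        rwa [e]
      · intro hz
        rw [mul_assoc, ← hcomm s hs z hz, inv_mul_cancel_left]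
        exact hz
    rw [← SetLike.mem_coe, Subgroup.coe_mul_of_left_le_normalizer_right T₀ R hnorm] at hxH
    obtain ⟨s, hs, r, hr, rfl⟩ := hxH
    obtain ⟨j, hj⟩ := hT₀p ⟨s, hs⟩
    have hj' : s ^ p ^ j = 1 := by simpa using congrArg Subtype.val hj
    have h1 : r ^ p ^ (j + k) = 1 := by
      have h2 : (s * r) ^ p ^ (j + k) = 1 := by
        rw [pow_add, mul_comm, pow_mul, hk', one_pow]
      rwa [(show Commute s r from hcomm s hs r hr).mul_pow, pow_add, pow_mul, hj', one_pow,
        one_mul, ← pow_add] at h2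
    have hr1 : r = 1 := orderOf_eq_one_iff.mp (Nat.eq_one_of_dvd_coprimes
      ((hp.coprime_iff_not_dvd.mpr hRp).pow_left (j + k))
      (orderOf_dvd_of_pow_eq_one h1) (R.orderOf_dvd_natCard hr))
    simp only [hr1, mul_one]
    exact hs
  set T := Subgroup.normalizer (P : Set G) with hT
  have hRT : R ≤ T := fun r hr => Subgroup.centralizer_le_normalizer _
    (Subgroup.mem_centralizer_iff.mpr fun x hx => hcomm x (hPT hx) r hr)
  obtain ⟨j, hj⟩ := IsPGroup.iff_card.mp hT₀p
  have hidx : R.index = H'.index * Nat.card T₀ := by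
    have h1 := R.card_mul_index
    have h2 := H'.card_mul_index
    rw [← hcard] at h2
    rw [← h2] at h1
    exact Nat.eq_of_mul_eq_mul_left Nat.card_pos (by rw [h1]; ring)
  have hcopR : (Nat.card R).Coprime R.index := by
    rw [hidx]
    refine Nat.Coprime.mul_right ?_ (hj ▸ (hp.coprime_iff_not_dvd.mpr hRp).symm.pow_right j)
    have h := Subgroup.card_dvd_of_le hR
    rw [hH', card_conj_smul] at h
    rw [hH', index_conj_smul]
    exact hHall.coprime_dvd_left h
  obtain ⟨t, ht⟩ := hrec T (R.subgroupOf T) (Q.subgroupOf T)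
    (Group.nilpotent_of_mulEquiv (_h := isNilpotent_of_le hR hH'n)
      (Subgroup.subgroupOfEquivOfLe hRT).symm)
    (by
      rw [card_subgroupOf_of_le hRT]
      exact hcopR.coprime_dvd_right (Subgroup.relIndex_dvd_index_of_le hRT))
    (fun q hq hd => by
      rw [card_subgroupOf_of_le hQP] at hd
      rw [card_subgroupOf_of_le hRT]
      obtain ⟨h1, h2⟩ := hQ q hq hd
      rw [← card_conj_smul a H, ← hH', ← hcard, hj] at h1
      exact (hq.dvd_mul.mp h1).resolve_left fun h =>
        h2 ((Nat.prime_dvd_prime_iff_eq hq hp).mp (hq.dvd_of_dvd_pow h)))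
    (card_subgroupOf_of_le hQP)
    (fun h => Group.nilpotent_of_mulEquiv (_h := h) (Subgroup.subgroupOfEquivOfLe hQP).symm)
  refine ⟨(t : G) * a, sup_le ?_ ?_⟩
  · rw [conj_mul_smul, ← hH', ← conj_smul_of_le_normalizer le_rfl t.2]
    exact conj_smul_mono _ (hPT.trans hT₀)
  · rw [conj_mul_smul, ← hH']
    have h := Subgroup.map_mono (f := T.subtype) ht
    rw [map_conj_smul, Subgroup.map_subgroupOf_eq_of_le hQP,
      Subgroup.map_subgroupOf_eq_of_le hRT] at h
    exact h.trans (conj_smul_mono _ hR)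

theorem wielandt_nilpotent_aux (n : ℕ) :
    ∀ (G : Type u) [Group G] [Finite G] (H K : Subgroup G), Group.IsNilpotent H →
      (Nat.card H).Coprime H.index → Group.IsNilpotent K →
      (∀ q : ℕ, q.Prime → q ∣ Nat.card K → q ∣ Nat.card H) → Nat.card K ≤ n →
      ∃ x : G, K ≤ MulAut.conj x • H := by
  induction n with
  | zero => intro G _ _ H K _ _ _ _ h; exact absurd h (not_le.mpr Nat.card_pos)
  | succ n ih =>
    intro G _ _ H K hH hHall hK hdvd hn
    rcases eq_or_ne K ⊥ with rfl | hne
    · exact ⟨1, bot_le⟩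
    obtain ⟨p, hp, hpK⟩ := Nat.exists_prime_and_dvd (mt Subgroup.card_eq_one.mp hne)
    obtain ⟨P, Q, hPK, hQK, hsup, hPp, hQp, hcard, hcomm⟩ := exists_nilpotent_split K hK hp
    have hPn : Q ≤ Subgroup.normalizer (P : Set G) := fun r hr =>
      Subgroup.centralizer_le_normalizer _
        (Subgroup.mem_centralizer_iff.mpr fun x hx => hcomm x hx r hr)
    have hlt : Nat.card Q ≤ n := by
      have : 1 < Nat.card P := by
        by_contra h
        have h1 : Nat.card P = 1 := by have := Nat.card_pos (α := P); omega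
        rw [h1, one_mul] at hcard
        exact hQp (hcard.symm ▸ hpK)
      nlinarith [Nat.card_pos (α := Q)]
    rw [← hsup]
    refine wielandt_step hH hHall hp (hdvd p hp hpK) hPp hPn (fun q hq hd =>
      ⟨hdvd q hq (hd.trans (Subgroup.card_dvd_of_le hQK)), fun h => hQp (h ▸ hd)⟩) ?_
    intro T _ _ R Q' hR hcop hd hc hnil
    exact ih T R Q' hR hcop (hnil (isNilpotent_of_le hQK hK)) hd (hc ▸ hlt)

/-- Wielandt's theorem for a nilpotent subgroup `K`. -/
theorem le_conj_of_nilpotent {G : Type*} [Group G] [Finite G] {H K : Subgroup G}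
    (hH : Group.IsNilpotent H) (hHall : (Nat.card H).Coprime H.index) (hK : Group.IsNilpotent K)
    (hdvd : ∀ q : ℕ, q.Prime → q ∣ Nat.card K → q ∣ Nat.card H) :
    ∃ x : G, K ≤ MulAut.conj x • H :=
  wielandt_nilpotent_aux _ G H K hH hHall hK hdvd le_rfl

end Cfsg.Agent.Hall
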