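import Mathlib

/-!
# A group with the class sizes of a nilpotent group is nilpotent

Counting proof.  For a prime `p`, let `T` be the set of elements whose class has size prime to
`p`.  For a nilpotent group `|T| |P| = |G| |Z(G)_p|`; a `P`-fixed point count on `T / Z(G)_p`
gives `Z(P) ≤ Z(G)`, and `T` being the union of the centralizers of the Sylow `p`-subgroups
then forces a single Sylow `p`-subgroup.
-/

set_option autoImplicit false
set_option linter.style.haveILetI false

namespace Cfsg.Agent.Hall.ClassSizeNilpotent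

open Subgroup

variable {G : Type*} [Group G]

theorem card_carrier_mk [Finite G] (g : G) :
    Nat.card (ConjClasses.mk g).carrier = (centralizer ({g} : Set G)).index := by
  rw [← ConjAct.orbit_eq_carrier_conjClasses, Nat.card_coe_set_eq, ← MulAction.index_stabilizer]
  have : MulAction.stabilizer (ConjAct G) g =
      (centralizer ({g} : Set G)).map (ConjAct.toConjAct : G ≃* ConjAct G).toMonoidHom := by
    ext x
    rw [MulAction.mem_stabilizer_iff, ConjAct.smul_def, mul_inv_eq_iff_eq_mul, mem_map_equiv,
      mem_centralizer_singleton_iff]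
    rfl
  rw [this]
  exact (centralizer ({g} : Set G)).index_map_equiv ConjAct.toConjAct

/-- The `p`-part of the centre. -/
def centerPart (p : ℕ) [Fact p.Prime] (P : Sylow p G) : Subgroup G := center G ⊓ P

instance (p : ℕ) [Fact p.Prime] (P : Sylow p G) : (centerPart p P).Normal :=
  ⟨fun x hx g => by
    have : g * x * g⁻¹ = x := by
      rw [mem_center_iff.1 hx.1 g, mul_inv_cancel_right]
    rwa [this]⟩

theorem card_centerPart [Finite G] {p : ℕ} [Fact p.Prime] (P : Sylow p G) :
    Nat.card (centerPart p P) = p ^ (Nat.card (center G)).factorization p := by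
  set K := (centerPart p P).subgroupOf (center G)
  have hK : IsPGroup p K :=
    (P.isPGroup'.to_le inf_le_right).of_equiv (subgroupOfEquivOfLe inf_le_left).symm
  obtain ⟨Q, hQ⟩ := hK.exists_le_sylow
  have hQP : (Q : Subgroup (center G)) ≤ K := by
    intro x hx
    have hp : IsPGroup p ((Q : Subgroup (center G)).map (center G).subtype) := Q.isPGroup'.map _
    refine ⟨x.2, ?_⟩
    obtain ⟨R, hR⟩ := hp.exists_le_sylow
    obtain ⟨g, hg⟩ := MulAction.exists_smul_eq G R P
    rw [← hg]
    have hxR : (x : G) ∈ (R : Subgroup G) := hR (mem_map_of_mem _ hx)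
    refine ⟨x, hxR, ?_⟩
    show g * (x : G) * g⁻¹ = x
    rw [mem_center_iff.1 x.2 g, mul_inv_cancel_right]
  have hKQ : K = (Q : Subgroup (center G)) := le_antisymm hQ hQP
  rw [← Q.card_eq_multiplicity, ← hKQ]
  exact Nat.card_congr (subgroupOfEquivOfLe inf_le_left).toEquiv.symm

/-- The elements with class size prime to `p`. -/
def primeToClass (p : ℕ) (G : Type*) [Group G] : Set G :=
  {g | ¬ p ∣ (centralizer ({g} : Set G)).index}

theorem exists_sylow_le_centralizer [Finite G] {p : ℕ} [Fact p.Prime] {g : G}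
    (hg : g ∈ primeToClass p G) :
    ∃ P : Sylow p G, g ∈ centralizer ((P : Subgroup G) : Set G) := by
  obtain ⟨R⟩ := (inferInstance : Nonempty (Sylow p (centralizer ({g} : Set G))))
  obtain ⟨P, hP⟩ := (R.isPGroup'.map (centralizer ({g} : Set G)).subtype).exists_le_sylow
  have hv : ((R : Subgroup _).map (centralizer ({g} : Set G)).subtype) = (P : Subgroup G) := by
    apply eq_of_le_of_card_ge hP
    rw [Sylow.card_eq_multiplicity, card_map_of_injective (subtype_injective _),
      Sylow.card_eq_multiplicity, ← card_mul_index (centralizer ({g} : Set G)),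
      Nat.factorization_mul Nat.card_pos.ne' index_ne_zero_of_finite, Finsupp.add_apply,
      Nat.factorization_eq_zero_of_not_dvd hg, add_zero]
  refine ⟨P, mem_centralizer_iff.2 fun x hx => ?_⟩
  rw [← hv] at hx
  obtain ⟨r, _, rfl⟩ := hx
  exact mem_centralizer_singleton_iff.1 r.2

theorem mem_primeToClass_of_mem_centralizer [Finite G] {p : ℕ} [Fact p.Prime] (P : Sylow p G)
    {g : G} (hg : g ∈ centralizer ((P : Subgroup G) : Set G)) : g ∈ primeToClass p G := by
  intro hd
  refine P.not_dvd_index (hd.trans (index_dvd_of_le ?_))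
  intro x hx
  exact mem_centralizer_singleton_iff.2 (mem_centralizer_iff.1 hg x hx)

/-- In a nilpotent group `|C(P)| |P| = |G| |Z(G)_p|`. -/
theorem card_centralizer_sylow [Finite G] (hG : Group.IsNilpotent G) {p : ℕ} [Fact p.Prime]
    (P : Sylow p G) :
    Nat.card (primeToClass p G) * Nat.card P = Nat.card G * Nat.card (centerPart p P) := by
  haveI := hG
  haveI : (P : Subgroup G).Normal := inferInstance
  haveI := Sylow.unique_of_normal P inferInstance
  have hT : primeToClass p G = (centralizer ((P : Subgroup G) : Set G) : Set G) := by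
    ext g
    refine ⟨fun h => ?_, mem_primeToClass_of_mem_centralizer P⟩
    obtain ⟨P', h'⟩ := exists_sylow_le_centralizer h
    rwa [Subsingleton.elim P' P] at h'
  rw [hT]
  set C := centralizer ((P : Subgroup G) : Set G) with hC
  -- the other Sylow subgroups centralize `P`
  have hother : ∀ (q : ℕ) [Fact q.Prime], q ≠ p → ∀ Q : Sylow q G, (Q : Subgroup G) ≤ C := by
    intro q _ hqp Q x hx
    haveI : (Q : Subgroup G).Normal := inferInstance
    refine mem_centralizer_iff.2 fun y hy => ?_
    exact Subgroup.commute_of_normal_of_disjoint (P : Subgroup G) (Q : Subgroup G) inferInstance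
      inferInstance (IsPGroup.disjoint_of_ne p q hqp.symm _ _ P.isPGroup' Q.isPGroup') y x hy hx
  have hzp : (C ⊓ (P : Subgroup G)) = centerPart p P := by
    refine le_antisymm (fun x ⟨hxC, hxP⟩ => ⟨mem_center_iff.2 ?_, hxP⟩)
      (le_inf (fun x hx => mem_centralizer_iff.2 fun y _ => mem_center_iff.1 hx.1 y) inf_le_right)
    have htop : centralizer ({x} : Set G) = ⊤ := by
      refine index_eq_one.1 (Nat.eq_one_iff_not_exists_prime_dvd.2 fun q hq hd => ?_)
      haveI := Fact.mk hq
      obtain ⟨Q⟩ := (inferInstance : Nonempty (Sylow q G))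
      refine Q.not_dvd_index (hd.trans (index_dvd_of_le ?_))
      intro y hy
      rw [mem_centralizer_singleton_iff]
      by_cases hqp : q = p
      · subst hqp
        rw [Subsingleton.elim Q P] at hy
        exact mem_centralizer_iff.1 hxC y hy
      · exact (mem_centralizer_iff.1 (hother q hqp Q hy) x hxP).symm
    intro y
    exact mem_centralizer_singleton_iff.1 (htop ▸ mem_top y)
  have hsup : C ⊔ (P : Subgroup G) = ⊤ := by
    refine index_eq_one.1 (Nat.eq_one_iff_not_exists_prime_dvd.2 fun q hq hd => ?_)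
    haveI := Fact.mk hq
    obtain ⟨Q⟩ := (inferInstance : Nonempty (Sylow q G))
    refine Q.not_dvd_index (hd.trans (index_dvd_of_le ?_))
    by_cases hqp : q = p
    · subst hqp
      rw [Subsingleton.elim Q P]
      exact le_sup_right
    · exact (hother q hqp Q).trans le_sup_left
  have h1 := card_mul_index C
  have h2 : (P : Subgroup G).relIndex C = (P : Subgroup G).index := by
    rw [← relIndex_sup_right, hsup, relIndex_top_right]
  have h3 : Nat.card C = Nat.card (centerPart p P) * (P : Subgroup G).index := by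
    rw [← hzp, ← h2, ← inf_relIndex_left, ← relIndex_bot_left, ← relIndex_bot_left,
      relIndex_mul_relIndex _ _ _ bot_le inf_le_left]
  calc Nat.card (C : Set G) * Nat.card P
      = Nat.card (centerPart p P) * (P : Subgroup G).index * Nat.card P := by
        rw [SetLike.coe_sort_coe, h3]
    _ = _ := by rw [← card_mul_index (P : Subgroup G)]; ring

/-- The key step: the count forces a normal Sylow subgroup. -/
theorem normal_of_count [Finite G] {p : ℕ} [Fact p.Prime] (P : Sylow p G)
    (h : Nat.card (primeToClass p G) * Nat.card P = Nat.card G * Nat.card (centerPart p P)) :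
    (P : Subgroup G).Normal := by
  have hp : p.Prime := Fact.out
  set Z := centerPart p P with hZdef
  set C := centralizer ((P : Subgroup G) : Set G) with hCdef
  set T := primeToClass p G with hTdef
  have hZC : Z ≤ C := fun x hx => mem_centralizer_iff.2 fun y _ => mem_center_iff.1 hx.1 y
  let π := QuotientGroup.mk' Z
  -- `|T| = |Z| · |G : P|`
  have hTcard : Nat.card T = Nat.card Z * (P : Subgroup G).index := by
    refine Nat.eq_of_mul_eq_mul_right (Nat.card_pos (α := P)) ?_
    rw [h, ← card_mul_index (P : Subgroup G)]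
    ring
  -- `T` is invariant under `Z` and conjugation
  have hcent : ∀ (g : G) (z : G), z ∈ Z →
      centralizer ({g * z} : Set G) = centralizer ({g} : Set G) := fun g z hz => by
    ext x
    rw [mem_centralizer_singleton_iff, mem_centralizer_singleton_iff]
    have hzx : x * z = z * x := mem_center_iff.1 hz.1 x
    constructor
    · intro hx
      apply mul_right_cancel (b := z)
      rw [mul_assoc, hx, mul_assoc, mul_assoc, hzx]
    · intro hx
      rw [← mul_assoc, hx, mul_assoc, hzx, ← mul_assoc]
  have hTmul : ∀ g z : G, z ∈ Z → g ∈ T → g * z ∈ T := fun g z hz hg => by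
    simpa [hTdef, primeToClass, hcent g z hz] using hg
  have hTconj : ∀ g x : G, g ∈ T → x * g * x⁻¹ ∈ T := fun g x hg => by
    obtain ⟨R, hR⟩ := exists_sylow_le_centralizer hg
    refine mem_primeToClass_of_mem_centralizer (x • R) (mem_centralizer_iff.2 fun y hy => ?_)
    rw [Sylow.smul_def, Sylow.pointwise_smul_def] at hy
    obtain ⟨r, hr, rfl⟩ := hy
    have := mem_centralizer_iff.1 hR r hr
    show x * r * x⁻¹ * (x * g * x⁻¹) = x * g * x⁻¹ * (x * r * x⁻¹)
    calc x * r * x⁻¹ * (x * g * x⁻¹) = x * (r * g) * x⁻¹ := by group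
      _ = x * (g * r) * x⁻¹ := by rw [this]
      _ = _ := by group
  -- the action of `P` on `T / Z`
  let TZ : SubMulAction (ConjAct (G ⧸ Z)) (G ⧸ Z) :=
    { carrier := π '' T
      smul_mem' := by
        rintro c _ ⟨g, hg, rfl⟩
        obtain ⟨y, hy⟩ := QuotientGroup.mk'_surjective Z (ConjAct.ofConjAct c)
        refine ⟨y * g * y⁻¹, hTconj g _ hg, ?_⟩
        rw [ConjAct.smul_def, ← hy, map_mul, map_mul, map_inv] }
  have hpre : π ⁻¹' (π '' T) = T := by
    refine subset_antisymm (fun g hg => ?_) (Set.subset_preimage_image _ _)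
    obtain ⟨t, ht, he⟩ := hg
    have hz : t⁻¹ * g ∈ Z := QuotientGroup.eq.1 he
    simpa using hTmul t _ hz ht
  have hcardTZ : Nat.card (π '' T) = (P : Subgroup G).index := by
    have h1 := Nat.card_congr (QuotientGroup.preimageMkEquivSubgroupProdSet Z (π '' T))
    rw [Nat.card_prod] at h1
    change Nat.card (π ⁻¹' (π '' T)) = _ at h1
    rw [hpre, hTcard] at h1
    exact (Nat.eq_of_mul_eq_mul_left Nat.card_pos h1).symm
  have hfix : ∀ g ∈ T, (∀ x ∈ (P : Subgroup G), π (x * g * x⁻¹) = π g) → g ∈ C := by
    intro g hg hx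
    let M : Subgroup G := (centralizer ({π g} : Set (G ⧸ Z))).comap π
    have hMZ : ∀ m : M, g * (m : G) * g⁻¹ * (m : G)⁻¹ ∈ Z := fun m => by
      have hm : (π m) * π g = π g * π m := mem_centralizer_singleton_iff.1 m.2
      rw [← QuotientGroup.eq_one_iff]
      change π (g * (m : G) * g⁻¹ * (m : G)⁻¹) = 1
      simp only [map_mul, map_inv]
      rw [← hm]; group
    let φ : M →* Z := MonoidHom.mk' (fun m => ⟨_, hMZ m⟩) fun a b => by
      apply Subtype.ext
      show g * ((a : G) * b) * g⁻¹ * ((a : G) * b)⁻¹ =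
        g * (a : G) * g⁻¹ * (a : G)⁻¹ * (g * (b : G) * g⁻¹ * (b : G)⁻¹)
      have hc := mem_center_iff.1 (hMZ b).1
      calc g * ((a : G) * b) * g⁻¹ * ((a : G) * b)⁻¹
          = g * a * g⁻¹ * ((g * (b : G) * g⁻¹ * (b : G)⁻¹) * (a : G)⁻¹) := by group
        _ = g * a * g⁻¹ * ((a : G)⁻¹ * (g * (b : G) * g⁻¹ * (b : G)⁻¹)) := by rw [← hc]
        _ = _ := by group
    have hker : φ.ker = (centralizer ({g} : Set G)).subgroupOf M := by
      ext m
      rw [MonoidHom.mem_ker, mem_subgroupOf, mem_centralizer_singleton_iff, Subtype.ext_iff]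
      show g * (m : G) * g⁻¹ * (m : G)⁻¹ = 1 ↔ _
      rw [mul_inv_eq_one, mul_inv_eq_iff_eq_mul]
      exact eq_comm
    have hidx : (centralizer ({g} : Set G)).relIndex M = Nat.card φ.range := by
      rw [relIndex, ← hker, index_ker]
    have hle : centralizer ({g} : Set G) ≤ M := fun m hm => by
      show π m ∈ centralizer ({π g} : Set (G ⧸ Z))
      rw [mem_centralizer_singleton_iff, ← map_mul, mem_centralizer_singleton_iff.1 hm, map_mul]
    have hd : Nat.card φ.range ∣ (centralizer ({g} : Set G)).index := by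
      rw [← hidx]; exact relIndex_dvd_index_of_le hle
    have hrange : IsPGroup p φ.range :=
      ((P.isPGroup'.to_le (inf_le_right : Z ≤ (P : Subgroup G))).to_subgroup _)
    have hone : Nat.card φ.range = 1 := by
      obtain ⟨k, hk⟩ := IsPGroup.iff_card.1 hrange
      rcases Nat.eq_zero_or_pos k with rfl | hk0
      · simpa using hk
      · exact absurd ((dvd_pow_self p hk0.ne').trans (hk ▸ hd)) hg
    refine mem_centralizer_iff.2 fun x hxP => ?_
    have hxM : x ∈ M := by
      show π x ∈ centralizer ({π g} : Set (G ⧸ Z))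
      rw [mem_centralizer_singleton_iff]
      have := hx x hxP
      simp only [map_mul, map_inv] at this
      exact mul_inv_eq_iff_eq_mul.1 this
    exact mem_centralizer_singleton_iff.1
      (relIndex_eq_one.1 (hidx.trans hone) hxM)
  -- fixed point congruence
  let P' : Subgroup (ConjAct (G ⧸ Z)) := ((P : Subgroup G).map π).map
    (ConjAct.toConjAct : (G ⧸ Z) ≃* ConjAct (G ⧸ Z)).toMonoidHom
  have hP' : IsPGroup p P' := (P.isPGroup'.map _).map _
  have hTset : ∀ g : G, g ∈ C → g ∈ T := fun g hg => mem_primeToClass_of_mem_centralizer P hg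
  have hfixset : MulAction.fixedPoints P' TZ ≃ (C.map π : Subgroup (G ⧸ Z)) :=
    { toFun := fun t => ⟨t.1.1, by
        obtain ⟨g, hg, hge⟩ := t.1.2
        refine ⟨g, hfix g hg fun x hx => ?_, hge⟩
        have h2 : ConjAct.toConjAct (π x) • (t.1 : G ⧸ Z) = t.1 :=
          congrArg Subtype.val (t.2 ⟨ConjAct.toConjAct (π x), mem_map_of_mem _ (mem_map_of_mem _ hx)⟩)
        rw [ConjAct.toConjAct_smul, ← hge] at h2
        rw [map_mul, map_mul, map_inv]
        exact h2⟩
      invFun := fun t => ⟨⟨t.1, by
          obtain ⟨g, hg, hge⟩ := t.2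
          exact ⟨g, hTset g hg, hge⟩⟩, by
        rintro ⟨_, _, ⟨x, hx, rfl⟩, rfl⟩
        obtain ⟨g, hg, hge⟩ := t.2
        apply Subtype.ext
        show (ConjAct.toConjAct (π x)) • (t.1 : G ⧸ Z) = t.1
        rw [ConjAct.toConjAct_smul, ← hge, ← map_inv, ← map_mul, ← map_mul,
          mem_centralizer_iff.1 hg x hx, mul_inv_cancel_right]⟩
      left_inv := fun t => rfl
      right_inv := fun t => rfl }
  have hmod := hP'.card_modEq_card_fixedPoints TZ
  rw [Nat.card_congr hfixset, show Nat.card TZ = (P : Subgroup G).index from hcardTZ] at hmod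
  have hnd : ¬ p ∣ Nat.card (C.map π) := fun hd =>
    P.not_dvd_index ((hmod.dvd_iff dvd_rfl).2 hd)
  have hCmap : Nat.card C = Nat.card Z * Nat.card (C.map π) := by
    have hk : (π.domRestrict C).ker = Z.subgroupOf C := by
      rw [MonoidHom.ker_restrict, QuotientGroup.ker_mk']
    rw [← (π.domRestrict C).ker.card_mul_index, index_ker, hk,
      Nat.card_congr (subgroupOfEquivOfLe hZC).toEquiv, MonoidHom.restrict_range]
  have hCP : C ⊓ (P : Subgroup G) = Z := by
    refine (eq_of_le_of_card_ge (le_inf hZC inf_le_right) ?_).symm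
    obtain ⟨a, ha⟩ := IsPGroup.iff_card.1
      (P.isPGroup'.to_le (inf_le_right : C ⊓ (P : Subgroup G) ≤ P))
    have hd : Nat.card (C ⊓ (P : Subgroup G) : Subgroup G) ∣ Nat.card Z := by
      refine Nat.Coprime.dvd_of_dvd_mul_right ?_ (hCmap ▸ card_dvd_of_le inf_le_left)
      rw [ha]
      exact Nat.Coprime.pow_left _ (hp.coprime_iff_not_dvd.2 hnd)
    exact Nat.le_of_dvd Nat.card_pos hd
  -- `C · P` lies in the normalizer
  set N := normalizer ((P : Subgroup G) : Set G) with hN
  have hCN : C ≤ N := centralizer_le_normalizer _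
  have hPN : (P : Subgroup G) ≤ N := le_normalizer
  have hNdvd : Nat.card P * Nat.card (C.map π) ∣ Nat.card N := by
    refine Nat.Coprime.mul_dvd_of_dvd_of_dvd ?_ (card_dvd_of_le hPN) ?_
    · obtain ⟨a, ha⟩ := IsPGroup.iff_card.1 P.isPGroup'
      rw [ha]
      exact Nat.Coprime.pow_left _ (hp.coprime_iff_not_dvd.2 hnd)
    · exact (Dvd.intro_left _ hCmap.symm).trans (card_dvd_of_le hCN)
  -- covering
  classical
  haveI := Fintype.ofFinite G
  haveI := Fintype.ofFinite (Sylow p G)
  let f : Sylow p G → Finset G := fun R =>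
    (Set.toFinite ((centralizer ((R : Subgroup G) : Set G) : Set G) \ (Z : Set G))).toFinset
  have hsub : (Set.toFinite T).toFinset ⊆
      (Set.toFinite (Z : Set G)).toFinset ∪ Finset.univ.biUnion f := by
    intro g hg
    rw [Set.Finite.mem_toFinset] at hg
    by_cases hgZ : g ∈ Z
    · simp [hgZ]
    · obtain ⟨R, hR⟩ := exists_sylow_le_centralizer hg
      simp only [Finset.mem_union, Finset.mem_biUnion, Finset.mem_univ, true_and]
      exact Or.inr ⟨R, (Set.Finite.mem_toFinset _).2 ⟨hR, hgZ⟩⟩
  have hfcard : ∀ R : Sylow p G, (f R).card = Nat.card C - Nat.card Z := fun R => by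
    have hsubR : (Z : Set G) ⊆ (centralizer ((R : Subgroup G) : Set G) : Set G) := fun x hx =>
      mem_centralizer_iff.2 fun y _ => mem_center_iff.1 hx.1 y
    rw [← Set.ncard_eq_toFinset_card, Set.ncard_sdiff hsubR, ← Nat.card_coe_set_eq,
      ← Nat.card_coe_set_eq]
    congr 1
    obtain ⟨c, hc⟩ := MulAction.exists_smul_eq G P R
    have : (R : Subgroup G) = (P : Subgroup G).map (MulAut.conj c).toMonoidHom := by
      rw [← hc]; rfl
    rw [this, coe_map, hCdef]
    refine Nat.card_congr (((MulAut.conj c).subgroupMap _).toEquiv.trans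
      (Equiv.subtypeEquivRight fun x => ?_)).symm
    change x ∈ (centralizer ((P : Subgroup G) : Set G)).map (MulAut.conj c).toMonoidHom ↔ _
    rw [mem_map_equiv, SetLike.mem_coe, mem_centralizer_iff, mem_centralizer_iff]
    constructor
    · intro hx' y hy
      obtain ⟨z, hz, rfl⟩ := hy
      apply (MulAut.conj c).symm.injective
      simpa [mul_assoc] using hx' z hz
    · intro hx' z hz
      have := congrArg (MulAut.conj c).symm (hx' _ ⟨z, hz, rfl⟩)
      simpa [mul_assoc] using this
  have hcount : Nat.card T ≤ Nat.card Z + Nat.card (Sylow p G) * (Nat.card C - Nat.card Z) := by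
    have h1 := (Finset.card_le_card hsub).trans (Finset.card_union_le _ _)
    rw [← Set.ncard_eq_toFinset_card, ← Set.ncard_eq_toFinset_card, ← Nat.card_coe_set_eq,
      ← Nat.card_coe_set_eq] at h1
    refine h1.trans (Nat.add_le_add le_rfl (Finset.card_biUnion_le.trans (le_of_eq ?_)))
    rw [Finset.sum_congr rfl fun R _ => hfcard R, Finset.sum_const, Finset.card_univ,
      smul_eq_mul, ← Nat.card_eq_fintype_card]
  rw [← normalizer_eq_top_iff, ← index_eq_one]
  have hn : Nat.card (Sylow p G) = N.index := Sylow.card_eq_index_normalizer P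
  obtain ⟨w, hw⟩ := hNdvd
  have hPidx : (P : Subgroup G).index = N.index * (Nat.card (C.map π) * w) := by
    refine Nat.eq_of_mul_eq_mul_left (Nat.card_pos (α := P)) ?_
    rw [card_mul_index, ← card_mul_index N, hw]
    ring
  rw [hn, hTcard, hPidx, hCmap] at hcount
  have hw0 : 0 < w := Nat.pos_of_ne_zero fun h0 => Nat.card_pos.ne' (hw.trans (by rw [h0, mul_zero]))
  have hz := Nat.card_pos (α := Z)
  have hm := Nat.card_pos (α := (C.map π : Subgroup (G ⧸ Z)))
  have hi : 0 < N.index := Nat.pos_of_ne_zero index_ne_zero_of_finite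
  obtain ⟨m, hm'⟩ : ∃ m, Nat.card (C.map π) = m + 1 := ⟨_, (Nat.sub_add_cancel hm).symm⟩
  rw [hm', Nat.mul_succ, Nat.add_sub_cancel] at hcount
  have hzi : Nat.card Z * N.index ≤ Nat.card Z * 1 := by
    have h2 : Nat.card Z * (N.index * (m + 1)) ≤ Nat.card Z * (N.index * ((m + 1) * w)) :=
      Nat.mul_le_mul_left _ (Nat.mul_le_mul_left _ (Nat.le_mul_of_pos_right _ hw0))
    nlinarith
  have h1 : N.index ≤ 1 := Nat.le_of_mul_le_mul_left hzi hz
  exact le_antisymm h1 hi

/-- A group with the same multiset of class sizes as a nilpotent group is nilpotent. -/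
theorem isNilpotent_of_card_classes [Finite G] {H : Type*} [Group H] [Finite H]
    (hH : Group.IsNilpotent H)
    (h : ∀ k : ℕ, Nat.card {C : ConjClasses G // Nat.card C.carrier = k} =
      Nat.card {C : ConjClasses H // Nat.card C.carrier = k}) : Group.IsNilpotent G := by
  classical
  have hne : ∀ k, Nonempty ({C : ConjClasses G // Nat.card C.carrier = k} ≃
      {C : ConjClasses H // Nat.card C.carrier = k}) := fun k =>
    Finite.card_eq.1 (h k)
  let ψ : ConjClasses G ≃ ConjClasses H := Equiv.ofFiberEquiv fun k => (hne k).some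
  have hψ : ∀ C, Nat.card (ψ C).carrier = Nat.card C.carrier := fun C =>
    Equiv.ofFiberEquiv_map (f := fun C : ConjClasses G => Nat.card C.carrier)
      (g := fun C : ConjClasses H => Nat.card C.carrier) (fun k => (hne k).some) C
  have hc : ∀ C : ConjClasses G, Nonempty ({x : G // ConjClasses.mk x = C} ≃
      {y : H // ConjClasses.mk y = ψ C}) := fun C => by
    apply Finite.card_eq.1
    rw [← Nat.card_congr (Equiv.subtypeEquivRight fun x : G => ConjClasses.mem_carrier_iff_mk_eq),
      ← Nat.card_congr (Equiv.subtypeEquivRight fun x : H => ConjClasses.mem_carrier_iff_mk_eq)]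
    exact (hψ C).symm
  let e : G ≃ H := (Equiv.sigmaFiberEquiv ConjClasses.mk).symm.trans
    ((Equiv.sigmaCongr ψ fun C => (hc C).some).trans (Equiv.sigmaFiberEquiv ConjClasses.mk))
  have he : ∀ g, (centralizer ({e g} : Set H)).index = (centralizer ({g} : Set G)).index := by
    intro g
    rw [← card_carrier_mk, ← card_carrier_mk]
    have : ConjClasses.mk (e g) = ψ (ConjClasses.mk g) := ((hc (ConjClasses.mk g)).some ⟨g, rfl⟩).2
    rw [this, hψ]
  have hG : Nat.card G = Nat.card H := Nat.card_congr e
  have hmemG : ∀ g : G, g ∈ center G ↔ (centralizer ({g} : Set G)).index = 1 := fun g => by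
    rw [index_eq_one, centralizer_eq_top_iff_subset, Set.singleton_subset_iff, SetLike.mem_coe]
  have hmemH : ∀ g : H, g ∈ center H ↔ (centralizer ({g} : Set H)).index = 1 := fun g => by
    rw [index_eq_one, centralizer_eq_top_iff_subset, Set.singleton_subset_iff, SetLike.mem_coe]
  have hZ : Nat.card (center G) = Nat.card (center H) :=
    Nat.card_congr (e.subtypeEquiv fun g => by rw [hmemG g, ← he g, ← hmemH (e g)])
  refine (Group.isNilpotent_of_finite_tfae (G := G)).out 0 3 rfl rfl |>.2 fun p _ P => ?_
  obtain ⟨Q⟩ := (inferInstance : Nonempty (Sylow p H))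
  apply normal_of_count P
  have hT : Nat.card (primeToClass p G) = Nat.card (primeToClass p H) :=
    Nat.card_congr (e.subtypeEquiv fun g => by
      show (¬ p ∣ _) ↔ (¬ p ∣ _)
      rw [he g])
  have hPQ : Nat.card P = Nat.card Q := by
    rw [Sylow.card_eq_multiplicity, Sylow.card_eq_multiplicity, hG]
  rw [hT, hPQ, hG, card_centerPart P, hZ, ← card_centerPart Q]
  exact card_centralizer_sylow hH Q

end Cfsg.Agent.Hall.ClassSizeNilpotent
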