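import Cfsg.Agent.Hall.Existence
import Cfsg.Agent.Hall.SchurZassenhaus
import Cfsg.Agent.S0205

/-!
Semiregular actions on two abelian groups of coprime prime power order.

If a finite group `W` acts on an abelian `q`-group `T` and on an abelian `s`-group `X` so that, in
each of them, every fixed point of a non-identity element lies in a fixed proper subgroup on which
`W` acts trivially, then `q` and `s` do not both divide the order of `W`.
-/

set_option autoImplicit false
set_option linter.style.haveILetI false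
set_option linter.unusedSectionVars false

namespace Cfsg.Agent.Hall.TwoSizes

/-- `W` fixes `Z` pointwise and no non-identity element fixes a point outside `Z`. -/
def SemiRegOutside {W T : Type*} [Group W] [CommGroup T] (φ : W →* MulAut T) (Z : Subgroup T) :
    Prop :=
  (∀ w : W, ∀ z ∈ Z, φ w z = z) ∧ ∀ w : W, w ≠ 1 → ∀ e : T, φ w e = e → e ∈ Z

variable {W T : Type*} [Group W] [CommGroup T] [Finite W] [Finite T]

theorem mem_of_pow_mem_coprime {Z : Subgroup T} {b : T} {n : ℕ} (h : b ^ n ∈ Z)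
    (hn : n.Coprime (orderOf b)) : b ∈ Z := by
  obtain ⟨m, hm⟩ := exists_pow_eq_self_of_coprime hn
  exact hm ▸ pow_mem h m

theorem exists_fixed_mod {q : ℕ} [Fact q.Prime] (hT : IsPGroup q T) {Z : Subgroup T} (hZ : Z ≠ ⊤)
    {φ : W →* MulAut T} (hS : SemiRegOutside φ Z) {v : W} (hv : ∃ k : ℕ, v ^ q ^ k = 1) :
    ∃ e : T, e ∉ Z ∧ φ v e * e⁻¹ ∈ Z := by
  obtain ⟨k, hk⟩ := hv
  have hmap : ∀ w : W, Z.map (φ w).toMonoidHom = Z := by
    intro w
    ext x
    refine ⟨?_, fun hx => ⟨x, hx, hS.1 w x hx⟩⟩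
    rintro ⟨z, hz, rfl⟩
    exact (hS.1 w z hz).symm ▸ hz
  let act : W →* Equiv.Perm (T ⧸ Z) :=
    { toFun := fun w => (QuotientGroup.congr Z Z (φ w) (hmap w)).toEquiv
      map_one' := by
        refine Equiv.ext fun x => ?_
        induction x using QuotientGroup.induction_on with
        | H x => simp
      map_mul' := fun a b => by
        refine Equiv.ext fun x => ?_
        induction x using QuotientGroup.induction_on with
        | H x =>
          change (↑(φ (a * b) x) : T ⧸ Z) = ↑(φ a (φ b x))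
          rw [map_mul, MulAut.mul_apply] }
  letI : MulAction (Subgroup.zpowers v) (T ⧸ Z) :=
    MulAction.compHom _ (act.comp (Subgroup.zpowers v).subtype)
  have hP : IsPGroup q (Subgroup.zpowers v) := by
    obtain ⟨j, -, hj⟩ := (Nat.dvd_prime_pow Fact.out).mp (orderOf_dvd_of_pow_eq_one hk)
    exact IsPGroup.of_card (n := j) (by rw [Nat.card_zpowers, hj])
  have hdvd : q ∣ Nat.card (T ⧸ Z) := by
    obtain ⟨j, hj⟩ := IsPGroup.iff_card.mp hT
    have h1 : Nat.card (T ⧸ Z) ∣ q ^ j := hj ▸ Subgroup.card_quotient_dvd_card Z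
    obtain ⟨i, -, hi⟩ := (Nat.dvd_prime_pow Fact.out).mp h1
    rcases Nat.eq_zero_or_pos i with h0 | h0
    · exfalso
      rw [h0, pow_zero] at hi
      exact hZ (Subgroup.index_eq_one.mp hi)
    · exact hi ▸ dvd_pow_self q h0.ne'
  have h1 : (1 : T ⧸ Z) ∈ MulAction.fixedPoints (Subgroup.zpowers v) (T ⧸ Z) := fun g => by
    change QuotientGroup.congr Z Z (φ (g : W)) (hmap _) 1 = 1
    exact map_one _
  obtain ⟨b, hb, hne⟩ := hP.exists_fixed_point_of_prime_dvd_card_of_fixed_point _ hdvd h1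
  induction b using QuotientGroup.induction_on with
  | H e =>
    refine ⟨e, fun he => hne ((QuotientGroup.eq_one_iff e).mpr he).symm, ?_⟩
    have h2 : (↑(φ v e) : T ⧸ Z) = (e : T ⧸ Z) := hb ⟨v, Subgroup.mem_zpowers v⟩
    rw [QuotientGroup.eq] at h2
    have h3 : (φ v e * e⁻¹)⁻¹ ∈ Z := by rwa [mul_inv_rev, inv_inv, mul_comm]
    exact inv_mem_iff.mp h3

/-- Two non-trivial commuting elements of coprime orders cannot both act semi-regularly. -/
theorem not_commute {q : ℕ} [Fact q.Prime] (hT : IsPGroup q T) {Z : Subgroup T} (hZ : Z ≠ ⊤)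
    {φ : W →* MulAut T} (hS : SemiRegOutside φ Z) {v h : W} (hv : ∃ k : ℕ, v ^ q ^ k = 1)
    (hv1 : v ≠ 1) (hh1 : h ≠ 1) (hhq : ¬ q ∣ orderOf h) (hc : Commute h v) : False := by
  obtain ⟨e, heZ, hez⟩ := exists_fixed_mod hT hZ hS hv
  set z := φ v e * e⁻¹ with hz
  have hve : φ v e = z * e := by simp [hz]
  have hvh : φ v (φ h e) = z * φ h e := by
    have := congrArg (fun w => φ w e) hc.eq
    simp only [map_mul, MulAut.mul_apply] at this
    rw [← this, hve, map_mul, hS.1 h z hez]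
  set z' := φ h e * e⁻¹ with hz'
  have hz'Z : z' ∈ Z := hS.2 v hv1 z' (by
    rw [hz', map_mul, map_inv, hvh, hve]
    simp [mul_comm, mul_left_comm])
  have hhe : ∀ n : ℕ, φ (h ^ n) e = z' ^ n * e := by
    intro n
    induction n with
    | zero => simp
    | succ n ih =>
      rw [pow_succ', map_mul, MulAut.mul_apply, ih, map_mul, map_pow, hS.1 h z' hz'Z,
        show φ h e = z' * e by simp [hz'], ← mul_assoc, ← pow_succ]
  have h1 : z' ^ orderOf h = 1 := by
    have := hhe (orderOf h)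
    rw [pow_orderOf_eq_one, map_one] at this
    simpa using this.symm
  obtain ⟨k, hk⟩ := hT z'
  have h2 : z' = 1 := by
    have hcop : (orderOf h).Coprime (q ^ k) :=
      ((Fact.out : q.Prime).coprime_iff_not_dvd.mpr hhq).symm.pow_right k
    have := (pow_gcd_eq_one (a := z')).mpr ⟨h1, hk⟩
    rwa [hcop.gcd_eq_one, pow_one] at this
  exact heZ (hS.2 h hh1 e (mul_inv_eq_one.mp h2))

/-- A group `U` normalised fixed-point-freely by an element `t` of prime order cannot act
semi-regularly on a group of order coprime to it. -/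
theorem no_frobenius {Z : Subgroup T} (hZ : Z ≠ ⊤) {φ : W →* MulAut T}
    (hS : SemiRegOutside φ Z) (U : Subgroup W) (hU : U ≠ ⊥)
    (hUT : (Nat.card U).Coprime (Nat.card T)) {t : W} {l : ℕ} (ht : orderOf t = l) (hl : l.Prime)
    (hnorm : ∀ u ∈ U, t * u * t⁻¹ ∈ U)
    (hfpf : ∀ u ∈ U, ∀ i : ℕ, 0 < i → i < l → Commute (t ^ i) u → u = 1) : False := by
  classical
  haveI : Fintype U := Fintype.ofFinite U
  obtain ⟨b, hb⟩ : ∃ b, b ∉ Z := by
    by_contra h
    push Not at h
    exact hZ (eq_top_iff.mpr fun x _ => h x)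
  obtain ⟨u0, hu0, hu1⟩ : ∃ u ∈ U, u ≠ 1 := by
    by_contra h
    push Not at h
    exact hU ((Subgroup.eq_bot_iff_forall U).mpr h)
  have hnormU : ∀ x : T, (∏ u : U, φ (u : W) x) ∈ Z := by
    intro x
    refine hS.2 u0 hu1 _ ?_
    rw [map_prod]
    refine Fintype.prod_equiv (Equiv.mulLeft (⟨u0, hu0⟩ : U)) _ _ fun u => ?_
    simp
  have hnormt : ∀ (w : W), w ≠ 1 → w ^ l = 1 → ∀ x : T,
      (∏ i ∈ Finset.range l, φ (w ^ i) x) ∈ Z := by
    intro w hw hwl x
    refine hS.2 w hw _ ?_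
    obtain ⟨n, rfl⟩ := Nat.exists_eq_succ_of_ne_zero hl.ne_zero
    rw [map_prod, Finset.prod_range_succ, Finset.prod_range_succ']
    simp only [← MulAut.mul_apply, ← map_mul, ← pow_succ', hwl, pow_zero]
  have ht1 : t ≠ 1 := fun h => hl.ne_one (by rw [← ht, h, orderOf_one])
  have hD : (∏ u : U, ∏ i ∈ Finset.range l, φ (((u : W) * t * (u : W)⁻¹) ^ i) b) ∈ Z := by
    refine Subgroup.prod_mem Z fun u _ => hnormt _ ?_ ?_ b
    · intro h
      exact ht1 (by simpa [mul_inv_eq_one] using h)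
    · rw [conj_pow, ← ht, pow_orderOf_eq_one]; group
  rw [Finset.prod_comm] at hD
  rw [← Finset.mul_prod_erase (Finset.range l) _ (Finset.mem_range.mpr hl.pos)] at hD
  have hrest : (∏ i ∈ (Finset.range l).erase 0,
      ∏ u : U, φ (((u : W) * t * (u : W)⁻¹) ^ i) b) ∈ Z := by
    refine Subgroup.prod_mem Z fun i hi => ?_
    rw [Finset.mem_erase, Finset.mem_range] at hi
    have hti : ∀ u ∈ U, t ^ i * u * (t ^ i)⁻¹ ∈ U := by
      intro u hu
      clear hi
      induction i with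
      | zero => simpa
      | succ n ih =>
        have := hnorm _ ih
        rw [pow_succ', mul_inv_rev]
        simpa [mul_assoc] using this
    let ψ : U → U := fun u => ⟨(u : W) * (t ^ i * (u : W)⁻¹ * (t ^ i)⁻¹),
      U.mul_mem u.2 (hti _ (U.inv_mem u.2))⟩
    have hψ : Function.Injective ψ := by
      intro a c hac
      have h1 : (a : W) * (t ^ i * (a : W)⁻¹ * (t ^ i)⁻¹) =
          (c : W) * (t ^ i * (c : W)⁻¹ * (t ^ i)⁻¹) := congrArg Subtype.val hac
      have h2 : Commute (t ^ i) ((c : W)⁻¹ * a) := by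
        change t ^ i * ((c : W)⁻¹ * a) = (c : W)⁻¹ * a * t ^ i
        calc t ^ i * ((c : W)⁻¹ * a)
            = (c : W)⁻¹ * ((c : W) * (t ^ i * (c : W)⁻¹ * (t ^ i)⁻¹)) * (t ^ i * a) := by group
          _ = (c : W)⁻¹ * ((a : W) * (t ^ i * (a : W)⁻¹ * (t ^ i)⁻¹)) * (t ^ i * a) := by rw [h1]
          _ = (c : W)⁻¹ * a * t ^ i := by group
      have h3 := hfpf _ (U.mul_mem (U.inv_mem c.2) a.2) i (Nat.pos_of_ne_zero hi.1) hi.2 h2
      exact Subtype.ext (inv_mul_eq_one.mp h3).symm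
    have heq : (∏ u : U, φ (((u : W) * t * (u : W)⁻¹) ^ i) b) =
        ∏ u : U, φ (u : W) (φ (t ^ i) b) := by
      refine Fintype.prod_equiv (Equiv.ofBijective ψ (Finite.injective_iff_bijective.mp hψ))
        _ _ fun u => ?_
      rw [← MulAut.mul_apply, ← map_mul]
      congr 2
      simp only [Equiv.ofBijective_apply, ψ]
      rw [conj_pow]
      group
    rw [heq]
    exact hnormU _
  have h0 := (Subgroup.mul_mem_cancel_right Z hrest).mp hD
  simp only [pow_zero, map_one, MulAut.one_apply, Finset.prod_const, Finset.card_univ] at h0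
  refine hb (mem_of_pow_mem_coprime h0 ?_)
  rw [← Nat.card_eq_fintype_card]
  exact hUT.coprime_dvd_right (orderOf_dvd_natCard b)

/-- An involution inverts modulo `Z`, so its commutators have exponent dividing the order. -/
theorem involution_conj_pow {Z : Subgroup T} (hZ : Z ≠ ⊤) {φ : W →* MulAut T}
    (hS : SemiRegOutside φ Z) {i : W} (hi : i ^ 2 = 1) (hi1 : i ≠ 1) (g : W) :
    (g * i * g⁻¹ * i) ^ Nat.card T = 1 := by
  obtain ⟨u, hu⟩ : ∃ u, u ∉ Z := by
    by_contra h
    push Not at h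
    exact hZ (eq_top_iff.mpr fun x _ => h x)
  have hinv : ∀ (j : W), j ^ 2 = 1 → j ≠ 1 → ∀ x : T, φ j x * x ∈ Z := by
    intro j hj hj1 x
    refine hS.2 j hj1 _ ?_
    rw [map_mul, ← MulAut.mul_apply, ← map_mul, ← pow_two, hj, map_one, MulAut.one_apply,
      mul_comm]
  set j := g * i * g⁻¹
  have hj2 : j ^ 2 = 1 := by rw [conj_pow, hi]; group
  have hj1 : j ≠ 1 := fun h => hi1 (by simpa [j, mul_inv_eq_one] using h)
  set z := φ (j * i) u * u⁻¹ with hz
  have hzZ : z ∈ Z := by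
    have h2 := hinv j hj2 hj1 (φ i u)
    have h3 := hinv i hi hi1 u
    have : z = φ j (φ i u) * φ i u * (φ i u * u)⁻¹ := by
      rw [hz, map_mul, MulAut.mul_apply]
      simp [mul_comm, mul_left_comm]
    rw [this]
    exact Z.mul_mem h2 (Z.inv_mem h3)
  have hn : ∀ n : ℕ, φ ((j * i) ^ n) u = z ^ n * u := by
    intro n
    induction n with
    | zero => simp
    | succ n ih =>
      rw [pow_succ', map_mul, MulAut.mul_apply, ih, map_mul, map_pow, hS.1 _ z hzZ,
        show φ (j * i) u = z * u by simp [hz], ← mul_assoc, ← pow_succ]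
  by_contra hne
  refine hu (hS.2 _ hne u ?_)
  rw [hn, pow_card_eq_one', one_mul]

variable {X : Type*} [CommGroup X] [Finite X]

theorem no_pair_of_normal {q s : ℕ} [Fact q.Prime] [Fact s.Prime] (hne : q ≠ s)
    (hT : IsPGroup q T) (hX : IsPGroup s X)
    {ZT : Subgroup T} (hZT : ZT ≠ ⊤) {φ : W →* MulAut T} (hφ : SemiRegOutside φ ZT)
    {ZX : Subgroup X} (hZX : ZX ≠ ⊤) {ψ : W →* MulAut X} (hψ : SemiRegOutside ψ ZX)
    (U : Subgroup W) (hU : U ≠ ⊥) (hUq : IsPGroup q U) {t : W} (ht : orderOf t = s)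
    (hnorm : ∀ u ∈ U, t * u * t⁻¹ ∈ U) : False := by
  have hcop : (Nat.card U).Coprime (Nat.card X) := by
    obtain ⟨a, ha⟩ := IsPGroup.iff_card.mp hUq
    obtain ⟨c, hc⟩ := IsPGroup.iff_card.mp hX
    rw [ha, hc]
    exact Nat.coprime_pow_primes _ _ Fact.out Fact.out hne
  refine no_frobenius hZX hψ U hU hcop ht Fact.out hnorm fun u hu i hi0 hil hc => ?_
  by_contra hu1
  obtain ⟨k, hk⟩ := hUq ⟨u, hu⟩
  have hord : orderOf (t ^ i) = s := by
    rw [orderOf_pow' t hi0.ne', ht]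
    have : Nat.gcd s i = 1 :=
      ((Fact.out : s.Prime).coprime_iff_not_dvd.mpr (Nat.not_dvd_of_pos_of_lt hi0 hil))
    rw [this, Nat.div_one]
  refine not_commute hT hZT hφ ⟨k, by simpa using congrArg Subtype.val hk⟩ hu1 ?_ ?_ hc
  · intro h
    rw [h, orderOf_one] at hord
    exact (Fact.out : s.Prime).ne_one hord.symm
  · rw [hord]
    exact fun h => hne ((Nat.prime_dvd_prime_iff_eq Fact.out Fact.out).mp h)

theorem no_even {s : ℕ} [Fact s.Prime] (hs : s ≠ 2) (hT : IsPGroup 2 T) (hX : IsPGroup s X)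
    {ZT : Subgroup T} (hZT : ZT ≠ ⊤) {φ : W →* MulAut T} (hφ : SemiRegOutside φ ZT)
    {ZX : Subgroup X} (hZX : ZX ≠ ⊤) {ψ : W →* MulAut X} (hψ : SemiRegOutside ψ ZX)
    (h2W : 2 ∣ Nat.card W) (hsW : s ∣ Nat.card W) : False := by
  obtain ⟨i, hi⟩ := exists_prime_orderOf_dvd_card' 2 h2W
  obtain ⟨t, ht⟩ := exists_prime_orderOf_dvd_card' s hsW
  have hi1 : i ≠ 1 := fun h => by rw [h, orderOf_one] at hi; omega
  have hi2 : i ^ 2 = 1 := hi ▸ pow_orderOf_eq_one i
  have hii : i⁻¹ = i := inv_eq_of_mul_eq_one_right (by rwa [← pow_two])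
  set c := t * i * t⁻¹ * i with hc
  have hcX : c ^ Nat.card X = 1 := involution_conj_pow hZX hψ hi2 hi1 t
  obtain ⟨a, ha⟩ := IsPGroup.iff_card.mp hX
  by_cases hc1 : c = 1
  · have hcomm : Commute i t := by
      change i * t = t * i
      have h1 : t * i * t⁻¹ = i := by
        rw [hc, mul_eq_one_iff_eq_inv, hii] at hc1
        exact hc1
      calc i * t = t * i * t⁻¹ * t := by rw [h1]
        _ = t * i := by group
    refine not_commute hX hZX hψ ⟨1, by rw [pow_one, ← ht, pow_orderOf_eq_one]⟩ ?_ hi1 ?_ hcomm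
    · intro h; rw [h, orderOf_one] at ht; exact (Fact.out : s.Prime).ne_one ht.symm
    · rw [hi]
      exact fun h => hs ((Nat.prime_dvd_prime_iff_eq Fact.out Nat.prime_two).mp h)
  · have hinv : i * c * i⁻¹ = c⁻¹ := by
      rw [hc]
      simp only [mul_inv_rev, inv_inv, hii, mul_assoc, ← pow_two, hi2, mul_one]
    obtain ⟨T2, hT2⟩ := IsPGroup.iff_card.mp hT
    refine no_frobenius hZT hφ (Subgroup.zpowers c)
      (by simpa [Subgroup.zpowers_eq_bot] using hc1) ?_ hi Nat.prime_two ?_ ?_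
    · rw [Nat.card_zpowers, hT2]
      refine Nat.Coprime.coprime_dvd_left (orderOf_dvd_of_pow_eq_one hcX) ?_
      rw [ha]
      exact Nat.coprime_pow_primes _ _ Fact.out Nat.prime_two hs
    · intro u hu
      obtain ⟨n, rfl⟩ := Subgroup.mem_zpowers_iff.mp hu
      rw [← conj_zpow, hinv, inv_zpow]
      exact Subgroup.inv_mem _ hu
    · intro u hu j hj0 hj2 hcom
      obtain rfl : j = 1 := by omega
      rw [pow_one] at hcom
      obtain ⟨n, rfl⟩ := Subgroup.mem_zpowers_iff.mp hu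
      have h1 : i * c ^ n * i⁻¹ = (c ^ n)⁻¹ := by rw [← conj_zpow, hinv, inv_zpow]
      rw [hcom.eq, mul_inv_cancel_right] at h1
      have h2 : (c ^ n) ^ 2 = 1 := by rw [pow_two]; exact mul_eq_one_iff_eq_inv.mpr h1
      have h3 : (c ^ n) ^ (s ^ a) = 1 := by
        rw [← zpow_natCast (c ^ n), ← zpow_mul, mul_comm, zpow_mul, zpow_natCast, ← ha, hcX,
          one_zpow]
      have h4 := pow_gcd_eq_one.mpr ⟨h2, h3⟩
      rwa [(Nat.coprime_pow_primes 1 a Nat.prime_two Fact.out hs.symm |> fun h => by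
        simpa using h : Nat.gcd 2 (s ^ a) = 1), pow_one] at h4

/-- Main lemma. -/
theorem no_semiRegular {q s : ℕ} [Fact q.Prime] [Fact s.Prime] (hne : q ≠ s)
    (hT : IsPGroup q T) (hX : IsPGroup s X)
    {ZT : Subgroup T} (hZT : ZT ≠ ⊤) {φ : W →* MulAut T} (hφ : SemiRegOutside φ ZT)
    {ZX : Subgroup X} (hZX : ZX ≠ ⊤) {ψ : W →* MulAut X} (hψ : SemiRegOutside ψ ZX)
    (hqW : q ∣ Nat.card W) (hsW : s ∣ Nat.card W) : False := by
  classical
  by_cases h2W : 2 ∣ Nat.card W
  · by_cases hq : q = 2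
    · subst hq
      exact no_even (Ne.symm hne) hT hX hZT hφ hZX hψ h2W hsW
    by_cases hs : s = 2
    · subst hs
      exact no_even hne hX hT hZX hψ hZT hφ h2W hqW
    obtain ⟨i, hi⟩ := exists_prime_orderOf_dvd_card' 2 h2W
    obtain ⟨v, hv⟩ := exists_prime_orderOf_dvd_card' q hqW
    have hi1 : i ≠ 1 := fun h => by rw [h, orderOf_one] at hi; omega
    have hi2 : i ^ 2 = 1 := hi ▸ pow_orderOf_eq_one i
    have hii : i⁻¹ = i := inv_eq_of_mul_eq_one_right (by rwa [← pow_two])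
    have h1 := pow_gcd_eq_one.mpr ⟨involution_conj_pow hZT hφ hi2 hi1 v,
      involution_conj_pow hZX hψ hi2 hi1 v⟩
    obtain ⟨a, ha⟩ := IsPGroup.iff_card.mp hT
    obtain ⟨b, hb⟩ := IsPGroup.iff_card.mp hX
    rw [ha, hb, (Nat.coprime_pow_primes a b Fact.out Fact.out hne).gcd_eq_one, pow_one] at h1
    have hcomm : Commute i v := by
      change i * v = v * i
      rw [mul_eq_one_iff_eq_inv, hii] at h1
      calc i * v = v * i * v⁻¹ * v := by rw [h1]
        _ = v * i := by group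
    refine not_commute hT hZT hφ ⟨1, by rw [pow_one, ← hv, pow_orderOf_eq_one]⟩ ?_ hi1 ?_ hcomm
    · intro h; rw [h, orderOf_one] at hv; exact (Fact.out : q.Prime).ne_one hv.symm
    · rw [hi]
      exact fun h => hq ((Nat.prime_dvd_prime_iff_eq Fact.out Nat.prime_two).mp h)
  · have hodd : Odd (Nat.card W) := by rwa [Nat.odd_iff, ← Nat.two_dvd_ne_zero]
    haveI := Cfsg.Agent.S0205.result hodd
    obtain ⟨H, hH⟩ := (hallDom_of_isSolvable {q, s} W).1
    have hdvdH : ∀ l : ℕ, l.Prime → l ∈ ({q, s} : Set ℕ) → l ∣ Nat.card W → l ∣ Nat.card H := by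
      intro l hl hmem hlW
      rw [← H.card_mul_index] at hlW
      refine (hl.dvd_mul.mp hlW).resolve_right fun h => ?_
      exact (IsPiHall.isPiNumber_index hH) l hl h hmem
    have hqH := hdvdH q Fact.out (by simp) hqW
    have hsH := hdvdH s Fact.out (by simp) hsW
    have hHne : (⊤ : Subgroup H) ≠ ⊥ := by
      intro h
      have := congrArg (fun K : Subgroup H => Nat.card K) h
      simp only [Subgroup.card_top, Subgroup.card_bot] at this
      rw [this] at hqH
      exact (Fact.out : q.Prime).ne_one (Nat.dvd_one.mp hqH)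
    obtain ⟨M, hMn, hM1, -, hMc⟩ := exists_abelian_normal_le (⊤ : Subgroup H) hHne inferInstance
    set l := (Nat.card M).minFac
    have hM1' : Nat.card M ≠ 1 := fun h => hM1 (Subgroup.card_eq_one.mp h)
    have hl : l.Prime := Nat.minFac_prime hM1'
    haveI := Fact.mk hl
    let U : Subgroup W :=
      { carrier := {x : W | ∃ hx : x ∈ H, (⟨x, hx⟩ : H) ∈ M ∧ ∃ k : ℕ, x ^ l ^ k = 1}
        one_mem' := ⟨H.one_mem, M.one_mem, 0, by simp⟩
        mul_mem' := by
          rintro x y ⟨hx, hxM, a, hax⟩ ⟨hy, hyM, b, hby⟩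
          refine ⟨H.mul_mem hx hy, M.mul_mem hxM hyM, a + b, ?_⟩
          have hxy : Commute x y :=
            congrArg Subtype.val (congrArg Subtype.val
              (hMc.is_comm.comm ⟨_, hxM⟩ ⟨_, hyM⟩))
          rw [hxy.mul_pow, pow_add, pow_mul x, hax, one_pow, mul_comm (l ^ a), pow_mul y, hby,
            one_pow, one_mul]
        inv_mem' := by
          rintro x ⟨hx, hxM, a, hax⟩
          exact ⟨H.inv_mem hx, M.inv_mem hxM, a, by rw [inv_pow, hax, inv_one]⟩ }
    have hUl : IsPGroup l U := by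
      rintro ⟨x, hx, hxM, k, hk⟩
      exact ⟨k, Subtype.ext hk⟩
    have hUn : ∀ t ∈ H, ∀ u ∈ U, t * u * t⁻¹ ∈ U := by
      rintro t ht u ⟨hu, huM, k, hk⟩
      refine ⟨H.mul_mem (H.mul_mem ht hu) (H.inv_mem ht), ?_, k, ?_⟩
      · exact hMn.conj_mem ⟨u, hu⟩ huM ⟨t, ht⟩
      · rw [conj_pow, hk]; group
    obtain ⟨x0, hx0⟩ := exists_prime_orderOf_dvd_card' l (Nat.minFac_dvd (Nat.card M))
    have hU : U ≠ ⊥ := by
      intro h
      have hmem : ((x0 : H) : W) ∈ U := by
        refine ⟨(x0 : H).2, x0.2, 1, ?_⟩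
        rw [pow_one, ← hx0, ← Subgroup.orderOf_coe x0, ← Subgroup.orderOf_coe (x0 : H),
          pow_orderOf_eq_one]
      rw [h, Subgroup.mem_bot] at hmem
      have h2 : x0 = 1 := Subtype.ext (Subtype.ext hmem)
      rw [h2, orderOf_one] at hx0
      exact hl.ne_one hx0.symm
    have hlqs : l = q ∨ l = s := by
      have h1 : l ∣ Nat.card H := (Nat.minFac_dvd _).trans M.card_subgroup_dvd_card
      simpa using (IsPiHall.isPiNumber_card hH) l hl h1
    rcases hlqs with h | h
    · obtain ⟨t, ht⟩ := exists_prime_orderOf_dvd_card' (G := H) s hsH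
      exact no_pair_of_normal hne hT hX hZT hφ hZX hψ U hU (h ▸ hUl)
        (t := (t : W)) (by rw [Subgroup.orderOf_coe, ht]) (fun u hu => hUn _ t.2 u hu)
    · obtain ⟨t, ht⟩ := exists_prime_orderOf_dvd_card' (G := H) q hqH
      exact no_pair_of_normal (Ne.symm hne) hX hT hZX hψ hZT hφ U hU (h ▸ hUl)
        (t := (t : W)) (by rw [Subgroup.orderOf_coe, ht]) (fun u hu => hUn _ t.2 u hu)

end Cfsg.Agent.Hall.TwoSizes
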