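import Cfsg.Agent.Hall.ClassSizes
import Cfsg.Agent.Hall.TwoClassSizesAbstract
import Cfsg.Agent.H79.Kazarin

/-!
Two class sizes of `p`-regular elements.

If every `p`-regular element is central or has centralizer of index `m`, and if non-central
elements of two different prime orders (up to powers) prime to `p` exist, then `m` is a power
of `p`.
-/

set_option autoImplicit false
set_option linter.style.haveILetI false
set_option linter.unusedSectionVars false

namespace Cfsg.Agent.Hall.TwoSizes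

open Subgroup
open scoped commutatorElement

variable {G : Type*} [Group G] [Finite G]

/-- `q`-elements. -/
def IsQ (q : ℕ) (x : G) : Prop := ∃ k : ℕ, x ^ q ^ k = 1

/-- There is a non-central `q`-element. -/
def HasNC (q : ℕ) (G : Type*) [Group G] : Prop := ∃ x : G, IsQ q x ∧ x ∉ center G

/-- Every `p`-regular element is central or has class size `m`. -/
structure Setup (p m : ℕ) (G : Type*) [Group G] : Prop where
  hp : p.Prime
  idx : ∀ x : G, (orderOf x).Coprime p →
    x ∈ center G ∨ (centralizer ({x} : Set G)).index = m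

theorem IsQ.orderOf_eq {q : ℕ} (hq : q.Prime) {x : G} (h : IsQ q x) :
    ∃ j, orderOf x = q ^ j := by
  obtain ⟨k, hk⟩ := h
  obtain ⟨j, -, hj⟩ := (Nat.dvd_prime_pow hq).mp (orderOf_dvd_of_pow_eq_one hk)
  exact ⟨j, hj⟩

theorem IsQ.coprime_prime {q r : ℕ} (hq : q.Prime) (hr : r.Prime) (hqr : q ≠ r) {x : G}
    (h : IsQ q x) : (orderOf x).Coprime r := by
  obtain ⟨j, hj⟩ := h.orderOf_eq hq
  rw [hj]
  exact ((Nat.coprime_primes hq hr).mpr hqr).pow_left j

theorem IsQ.coprime {q r : ℕ} (hq : q.Prime) (hr : r.Prime) (hqr : q ≠ r) {x y : G}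
    (hx : IsQ q x) (hy : IsQ r y) : (orderOf x).Coprime (orderOf y) := by
  obtain ⟨j, hj⟩ := hy.orderOf_eq hr
  rw [hj]
  exact (hx.coprime_prime hq hr hqr).pow_right j

theorem IsQ.conj {q : ℕ} {x : G} (h : IsQ q x) (g : G) : IsQ q (g * x * g⁻¹) := by
  obtain ⟨k, hk⟩ := h
  exact ⟨k, by rw [conj_pow, hk]; group⟩

theorem IsQ.inv {q : ℕ} {x : G} (h : IsQ q x) : IsQ q x⁻¹ := by
  obtain ⟨k, hk⟩ := h
  exact ⟨k, by rw [inv_pow, hk, inv_one]⟩

theorem IsQ.mul {q : ℕ} {x y : G} (hx : IsQ q x) (hy : IsQ q y) (hc : Commute x y) :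
    IsQ q (x * y) := by
  obtain ⟨a, hax⟩ := hx
  obtain ⟨b, hby⟩ := hy
  exact ⟨a + b, by rw [hc.mul_pow, pow_add, pow_mul x, hax, one_pow, mul_comm (q ^ a), pow_mul y,
    hby, one_pow, one_mul]⟩

theorem IsQ.of_mem {q : ℕ} {H : Subgroup G} (hH : IsPGroup q H) {x : G} (hx : x ∈ H) :
    IsQ q x := by
  obtain ⟨k, hk⟩ := hH ⟨x, hx⟩
  exact ⟨k, by simpa using congrArg Subtype.val hk⟩

theorem IsQ.eq_one {q r : ℕ} (hq : q.Prime) (hr : r.Prime) (hqr : q ≠ r) {x : G}
    (hx : IsQ q x) {n : ℕ} (hn : x ^ r ^ n = 1) : x = 1 := by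
  have hc := hx.coprime hq hr hqr ⟨n, hn⟩
  exact orderOf_eq_one_iff.mp (Nat.coprime_self _ |>.mp hc)

theorem mem_center_of_conj {v g : G} (h : v * g * v⁻¹ ∈ center G) : g ∈ center G := by
  have h1 := (inferInstance : (center G).Normal).conj_mem _ h v⁻¹
  simpa [mul_assoc] using h1

theorem centralizer_center_mul {c x : G} (hc : c ∈ center G) :
    centralizer ({c * x} : Set G) = centralizer ({x} : Set G) := by
  ext g
  rw [mem_centralizer_singleton_iff, mem_centralizer_singleton_iff, ← mul_assoc,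
    (mem_center_iff.mp hc g), mul_assoc, mul_assoc, mul_right_inj]

theorem conj_mem_centralizer_iff {v g x : G} :
    v * g * v⁻¹ ∈ centralizer ({v * x * v⁻¹} : Set G) ↔ g ∈ centralizer ({x} : Set G) := by
  rw [mem_centralizer_singleton_iff, mem_centralizer_singleton_iff]
  constructor
  · intro h
    have h1 := congrArg (fun z => v⁻¹ * z * v) h
    simpa [mul_assoc] using h1
  · intro h
    calc v * g * v⁻¹ * (v * x * v⁻¹) = v * (g * x) * v⁻¹ := by group
      _ = v * (x * g) * v⁻¹ := by rw [h]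
      _ = v * x * v⁻¹ * (v * g * v⁻¹) := by group

/-- The `q`-elements of the centre. -/
def cenPart (q : ℕ) (G : Type*) [Group G] : Subgroup G where
  carrier := {x | x ∈ center G ∧ ∃ k : ℕ, x ^ q ^ k = 1}
  one_mem' := ⟨one_mem _, 0, by simp⟩
  mul_mem' := by
    rintro x y ⟨hx, a, hax⟩ ⟨hy, b, hby⟩
    have hc : Commute x y := (mem_center_iff.mp hy x)
    exact ⟨mul_mem hx hy, a + b, by rw [hc.mul_pow, pow_add, pow_mul x, hax, one_pow,
      mul_comm (q ^ a), pow_mul y, hby, one_pow, one_mul]⟩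
  inv_mem' := by
    rintro x ⟨hx, a, hax⟩
    exact ⟨inv_mem hx, a, by rw [inv_pow, hax, inv_one]⟩

instance cenPart_normal (q : ℕ) : (cenPart q G).Normal :=
  ⟨fun n hn g => by rw [mem_center_iff.mp hn.1 g, mul_inv_cancel_right]; exact hn⟩

variable {p m : ℕ}

theorem Setup.index_eq (S : Setup p m G) {q : ℕ} (hq : q.Prime) (hqp : q ≠ p) {x : G}
    (hx : IsQ q x) (hxZ : x ∉ center G) : (centralizer ({x} : Set G)).index = m :=
  (S.idx x (hx.coprime_prime hq S.hp hqp)).resolve_left hxZ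

theorem Setup.comm_le (S : Setup p m G) {x y : G} (hxy : Commute x y)
    (hco : (orderOf x).Coprime (orderOf y)) (hx : (orderOf x).Coprime p)
    (hy : (orderOf y).Coprime p) (hxZ : x ∉ center G) :
    centralizer ({x} : Set G) ≤ centralizer ({y} : Set G) := by
  obtain ⟨j, hj⟩ := exists_pow_eq_self_of_coprime (x := x) hco.symm
  have hxpow : ((x * y) ^ orderOf y) ^ j = x := by
    rw [hxy.mul_pow, pow_orderOf_eq_one, mul_one, hj]
  have hle : centralizer ({x * y} : Set G) ≤ centralizer ({x} : Set G) := by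
    intro g hg
    rw [mem_centralizer_singleton_iff] at hg ⊢
    rw [← hxpow]
    exact ((Commute.pow_right hg _).pow_right _).eq
  have hxyZ : x * y ∉ center G := fun h =>
    hxZ (hxpow ▸ pow_mem (pow_mem h _) _)
  have hcp : (orderOf (x * y)).Coprime p := by
    rw [hxy.orderOf_mul_eq_mul_orderOf_of_coprime hco]
    exact Nat.Coprime.mul_left hx hy
  have h1 := (S.idx _ hcp).resolve_left hxyZ
  have h2 := (S.idx _ hx).resolve_left hxZ
  have h3 := relIndex_mul_index hle
  rw [h1, h2] at h3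
  have hm0 : m ≠ 0 := h1 ▸ index_ne_zero_of_finite
  have hge := relIndex_eq_one.mp ((Nat.mul_eq_right hm0).mp h3)
  intro g hg
  have hgxy := mem_centralizer_singleton_iff.mp (hge hg)
  rw [mem_centralizer_singleton_iff] at hg ⊢
  refine mul_left_cancel (a := x) ?_
  calc x * (g * y) = x * g * y := by rw [mul_assoc]
    _ = g * x * y := by rw [hg]
    _ = x * y * g := by rw [mul_assoc, hgxy]
    _ = x * (y * g) := by rw [mul_assoc]

theorem Setup.centralizer_card (S : Setup p m G) {q : ℕ} (hq : q.Prime) (hqp : q ≠ p) {x : G}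
    (hx : IsQ q x) (hxZ : x ∉ center G) :
    Nat.card (centralizer ({x} : Set G)) = Nat.card G / m := by
  have h := (centralizer ({x} : Set G)).card_mul_index
  rw [S.index_eq hq hqp hx hxZ] at h
  rw [← h, Nat.mul_div_cancel _ (Nat.pos_of_ne_zero fun h0 => by
    rw [h0, mul_zero] at h; exact Nat.card_pos.ne h)]

/-- The centralizer of a non-central `q`-element contains non-central `r`-elements. -/
theorem Setup.link (S : Setup p m G) {q r : ℕ} [Fact q.Prime] [Fact r.Prime] (hqp : q ≠ p)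
    (hrp : r ≠ p) (hqr : q ≠ r) (hr : HasNC r G) {x : G} (hx : IsQ q x) (hxZ : x ∉ center G) :
    ∃ u : G, IsQ r u ∧ u ∉ center G ∧
      centralizer ({x} : Set G) = centralizer ({u} : Set G) := by
  have key : ∃ u : G, IsQ r u ∧ u ∉ center G ∧ Commute x u := by
    by_contra hno
    push Not at hno
    obtain ⟨Sy⟩ := (inferInstance : Nonempty (Sylow r (centralizer ({x} : Set G))))
    set R := (Sy : Subgroup (centralizer ({x} : Set G))).map (centralizer ({x} : Set G)).subtype
    have hR : IsPGroup r R := Sy.2.map _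
    have hRZ : R ≤ center G := by
      rintro u ⟨u', hu', rfl⟩
      by_contra huZ
      refine hno _ (IsQ.of_mem hR ⟨u', hu', rfl⟩) huZ ?_
      exact (mem_centralizer_singleton_iff.mp u'.2).symm
    obtain ⟨y, hy, hyZ⟩ := hr
    haveI : R.Normal := ⟨fun n hn g => by
      rw [mem_center_iff.mp (hRZ hn) g, mul_inv_cancel_right]; exact hn⟩
    have hzp : IsPGroup r (zpowers y) := by
      obtain ⟨j, hj⟩ := hy.orderOf_eq (Fact.out : r.Prime)
      exact IsPGroup.of_card (n := j) (by rw [Nat.card_zpowers, hj])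
    have hsup : IsPGroup r (zpowers y ⊔ R : Subgroup G) := IsPGroup.to_sup_of_normal_right hzp hR
    have hle : zpowers y ⊔ R ≤ centralizer ({y} : Set G) := by
      refine sup_le ?_ fun u hu => ?_
      · rw [zpowers_le, mem_centralizer_singleton_iff]
      · rw [mem_centralizer_singleton_iff]
        exact (mem_center_iff.mp (hRZ hu) y).symm
    obtain ⟨j, hj⟩ := IsPGroup.iff_card.mp hsup
    have hdvd : Nat.card (zpowers y ⊔ R : Subgroup G) ∣ Nat.card (centralizer ({x} : Set G)) := by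
      rw [S.centralizer_card Fact.out hqp hx hxZ, ← S.centralizer_card Fact.out hrp hy hyZ]
      exact card_dvd_of_le hle
    rw [hj] at hdvd
    have hle' : Nat.card (zpowers y ⊔ R : Subgroup G) ≤ Nat.card R := by
      rw [hj, card_map_of_injective (subtype_injective _), Sy.card_eq_multiplicity]
      exact Nat.pow_le_pow_right (Fact.out : r.Prime).pos
        (((Fact.out : r.Prime).pow_dvd_iff_le_factorization Nat.card_pos.ne').mp hdvd)
    have heq := Subgroup.eq_of_le_of_card_ge (le_sup_right : R ≤ zpowers y ⊔ R) hle'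
    exact hyZ (hRZ (heq ▸ le_sup_left (α := Subgroup G) (mem_zpowers y)))
  obtain ⟨u, hu, huZ, hc⟩ := key
  have hq' := (Fact.out : q.Prime)
  have hr' := (Fact.out : r.Prime)
  exact ⟨u, hu, huZ, le_antisymm
    (S.comm_le hc (hx.coprime hq' hr' hqr hu) (hx.coprime_prime hq' S.hp hqp)
      (hu.coprime_prime hr' S.hp hrp) hxZ)
    (S.comm_le hc.symm (hu.coprime hr' hq' hqr.symm hx) (hu.coprime_prime hr' S.hp hrp)
      (hx.coprime_prime hq' S.hp hqp) huZ)⟩

/-- `q`-elements centralizing a non-central `q`-element are central in its centralizer. -/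
theorem Setup.central (S : Setup p m G) {q r : ℕ} [Fact q.Prime] [Fact r.Prime] (hqp : q ≠ p)
    (hrp : r ≠ p) (hqr : q ≠ r) (hr : HasNC r G) {w : G} (hw : IsQ q w) (hwZ : w ∉ center G)
    {u : G} (hu : IsQ q u) (huw : u ∈ centralizer ({w} : Set G)) :
    centralizer ({w} : Set G) ≤ centralizer ({u} : Set G) := by
  obtain ⟨x, hx, hxZ, hC⟩ := S.link hqp hrp hqr hr hw hwZ
  rw [hC] at huw ⊢
  exact S.comm_le (mem_centralizer_singleton_iff.mp huw).symm
    (hx.coprime Fact.out Fact.out hqr.symm hu) (hx.coprime_prime Fact.out S.hp hrp)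
    (hu.coprime_prime Fact.out S.hp hqp) hxZ

/-- The data attached to the `q`-elements centralizing a fixed element. -/
structure Part (p m q : ℕ) (w : G) (T : Subgroup G) : Prop where
  mem : ∀ u, u ∈ T ↔ u ∈ centralizer ({w} : Set G) ∧ IsQ q u
  le : ∀ u ∈ T, centralizer ({w} : Set G) ≤ centralizer ({u} : Set G)
  eq : ∀ u ∈ T, u ∉ center G → centralizer ({u} : Set G) = centralizer ({w} : Set G)
  isPGroup : IsPGroup q T
  card : Nat.card T = q ^ (Nat.card G / m).factorization q
  comm : IsMulCommutative T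
  out : ∃ u ∈ T, u ∉ center G

theorem Setup.exists_part (S : Setup p m G) {q r : ℕ} [Fact q.Prime] [Fact r.Prime] (hqp : q ≠ p)
    (hrp : r ≠ p) (hqr : q ≠ r) (hr : HasNC r G) {y : G} (hy : IsQ q y) (hyZ : y ∉ center G) :
    ∃ T : Subgroup G, Part p m q y T := by
  have hcen := fun {u : G} (hu : IsQ q u) (h : u ∈ centralizer ({y} : Set G)) =>
    S.central hqp hrp hqr hr hy hyZ hu h
  let T : Subgroup G :=
    { carrier := {u | u ∈ centralizer ({y} : Set G) ∧ IsQ q u}
      one_mem' := ⟨one_mem _, 0, by simp⟩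
      mul_mem' := fun {a b} ha hb => ⟨mul_mem ha.1 hb.1,
        ha.2.mul hb.2 (mem_centralizer_singleton_iff.mp (hcen hb.2 hb.1 ha.1))⟩
      inv_mem' := fun {a} ha => ⟨inv_mem ha.1, ha.2.inv⟩ }
  have hT : IsPGroup q T := by
    rintro ⟨u, -, k, hk⟩
    exact ⟨k, Subtype.ext hk⟩
  refine ⟨T, ⟨fun u => Iff.rfl, fun u hu => hcen hu.2 hu.1, fun u hu huZ => ?_, hT, ?_, ?_, ?_⟩⟩
  · refine le_antisymm ?_ (hcen hu.2 hu.1)
    exact S.central hqp hrp hqr hr hu.2 huZ hy
      (mem_centralizer_singleton_iff.mpr (mem_centralizer_singleton_iff.mp hu.1).symm)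
  · rw [← S.centralizer_card Fact.out hqp hy hyZ]
    obtain ⟨Sy⟩ := (inferInstance : Nonempty (Sylow q (centralizer ({y} : Set G))))
    have hle : (Sy : Subgroup (centralizer ({y} : Set G))).map
        (centralizer ({y} : Set G)).subtype ≤ T := by
      rintro u ⟨u', hu', rfl⟩
      exact ⟨u'.2, IsQ.of_mem (Sy.2.map _) ⟨u', hu', rfl⟩⟩
    obtain ⟨j, hj⟩ := IsPGroup.iff_card.mp hT
    have hd : q ^ j ∣ Nat.card (centralizer ({y} : Set G)) :=
      hj ▸ card_dvd_of_le (fun u hu => hu.1)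
    refine le_antisymm ?_ ?_
    · rw [hj]
      exact Nat.pow_le_pow_right (Fact.out : q.Prime).pos
        (((Fact.out : q.Prime).pow_dvd_iff_le_factorization Nat.card_pos.ne').mp hd)
    · rw [← Sy.card_eq_multiplicity, ← card_map_of_injective (subtype_injective _)]
      exact card_le_of_le hle
  · exact ⟨⟨fun a b => Subtype.ext
      (mem_centralizer_singleton_iff.mp (hcen b.2.2 b.2.1 a.2.1))⟩⟩
  · exact ⟨y, ⟨mem_centralizer_singleton_iff.mpr rfl, hy⟩, hyZ⟩

/-- Conjugation of a subgroup by a subgroup normalising it. -/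
def conjHom (N T : Subgroup G) (h : ∀ n ∈ N, ∀ u ∈ T, n * u * n⁻¹ ∈ T) : N →* MulAut T where
  toFun n :=
    { toFun := fun u => ⟨n * u * (n : G)⁻¹, h _ n.2 _ u.2⟩
      invFun := fun u => ⟨(n : G)⁻¹ * u * n, by simpa using h _ (N.inv_mem n.2) _ u.2⟩
      left_inv := fun u => Subtype.ext (by simp [mul_assoc])
      right_inv := fun u => Subtype.ext (by simp [mul_assoc])
      map_mul' := fun a b => Subtype.ext (by simp [mul_assoc]) }
  map_one' := by ext u; simp
  map_mul' a b := by ext u; simp [mul_assoc]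

/-- An element of the second centre of a Sylow subgroup outside the centre. -/
theorem exists_second_center {q : ℕ} [Fact q.Prime] (hq : HasNC q G) (Q : Sylow q G) :
    ∃ w ∈ (Q : Subgroup G), w ∉ center G ∧
      ∀ v ∈ (Q : Subgroup G), v * w * v⁻¹ * w⁻¹ ∈ center G := by
  set Zq := (center G).subgroupOf (Q : Subgroup G)
  have hne : Zq ≠ ⊤ := by
    intro h
    obtain ⟨x, hx, hxZ⟩ := hq
    have hP : IsPGroup q (zpowers x) := by
      obtain ⟨j, hj⟩ := hx.orderOf_eq (Fact.out : q.Prime)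
      exact IsPGroup.of_card (n := j) (by rw [Nat.card_zpowers, hj])
    obtain ⟨P, hP'⟩ := hP.exists_le_sylow
    obtain ⟨g, rfl⟩ := MulAction.exists_smul_eq G Q P
    have hxg := hP' (mem_zpowers x)
    rw [Sylow.smul_def, Sylow.pointwise_smul_def, mem_pointwise_smul_iff_inv_smul_mem,
      ← map_inv, MulAut.smul_def, MulAut.conj_apply, inv_inv] at hxg
    have : g⁻¹ * x * g ∈ center G := (h ▸ mem_top (⟨_, hxg⟩ : (Q : Subgroup G)) : _ ∈ Zq)
    exact hxZ (mem_center_of_conj (v := g⁻¹) (by simpa using this))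
  haveI : Nontrivial ((Q : Subgroup G) ⧸ Zq) := by
    rw [← Finite.one_lt_card_iff_nontrivial, ← index_eq_card]
    have h1 : Zq.index ≠ 1 := fun h => hne (index_eq_one.mp h)
    have h0 : Zq.index ≠ 0 := index_ne_zero_of_finite
    omega
  haveI := (Q.2.to_quotient Zq).center_nontrivial
  obtain ⟨z, hz⟩ := exists_ne (1 : center ((Q : Subgroup G) ⧸ Zq))
  obtain ⟨w, hw⟩ := QuotientGroup.mk_surjective (z : (Q : Subgroup G) ⧸ Zq)
  refine ⟨w, w.2, fun h => hz (Subtype.ext ?_), fun v hv => ?_⟩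
  · rw [← hw]
    exact (QuotientGroup.eq_one_iff w).mpr h
  · have hc := mem_center_iff.mp z.2 ((⟨v, hv⟩ : (Q : Subgroup G)) : (Q : Subgroup G) ⧸ Zq)
    rw [← hw] at hc
    have h1 : (⟨v, hv⟩ * w * (⟨v, hv⟩ : (Q : Subgroup G))⁻¹ * w⁻¹) ∈ Zq := by
      rw [← QuotientGroup.eq_one_iff]
      rw [QuotientGroup.mk_mul, QuotientGroup.mk_mul, QuotientGroup.mk_mul, QuotientGroup.mk_inv,
        QuotientGroup.mk_inv, hc]
      group
    exact h1

theorem conj_mem_centralizer {w v g : G} (h : v * w * v⁻¹ * w⁻¹ ∈ center G)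
    (hg : g ∈ centralizer ({w} : Set G)) : v * g * v⁻¹ ∈ centralizer ({w} : Set G) := by
  have h1 := (conj_mem_centralizer_iff (v := v)).mpr hg
  rwa [show v * w * v⁻¹ = (v * w * v⁻¹ * w⁻¹) * w by group, centralizer_center_mul h] at h1

theorem le_normalizer_centralizer {w : G} {Q : Subgroup G}
    (h : ∀ v ∈ Q, v * w * v⁻¹ * w⁻¹ ∈ center G) :
    Q ≤ normalizer (centralizer ({w} : Set G) : Set G) := by
  intro v hv
  rw [mem_normalizer_iff]
  intro g
  refine ⟨fun hg => conj_mem_centralizer (h v hv) hg, fun hg => ?_⟩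
  have := conj_mem_centralizer (h v⁻¹ (Q.inv_mem hv)) hg
  simpa [mul_assoc] using this

theorem part_le_sylow {q : ℕ} [Fact q.Prime] {Q : Sylow q G} {w : G}
    (hw : ∀ v ∈ (Q : Subgroup G), v * w * v⁻¹ * w⁻¹ ∈ center G) {T : Subgroup G}
    (hT : Part p m q w T) : T ≤ (Q : Subgroup G) := by
  have hn : (Q : Subgroup G) ≤ normalizer (T : Set G) := by
    intro v hv
    rw [mem_normalizer_iff]
    intro u
    have key : ∀ v ∈ (Q : Subgroup G), ∀ u ∈ T, v * u * v⁻¹ ∈ T := fun v hv u hu =>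
      (hT.mem _).mpr ⟨conj_mem_centralizer (hw v hv) ((hT.mem u).mp hu).1,
        (((hT.mem u).mp hu).2).conj v⟩
    refine ⟨key v hv u, fun hu => ?_⟩
    have := key v⁻¹ (inv_mem hv) _ hu
    simpa [mul_assoc] using this
  have h := Q.is_maximal' (IsPGroup.to_sup_of_normal_right' Q.2 hT.isPGroup hn) le_sup_left
  exact h ▸ le_sup_right

theorem exists_not_mem_centralizer (S : Setup p m G) {q : ℕ} [Fact q.Prime] (hqp : q ≠ p)
    (hqm : q ∣ m) (Q : Sylow q G) {w : G} (hw : IsQ q w) (hwZ : w ∉ center G) :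
    ∃ v ∈ (Q : Subgroup G), v ∉ centralizer ({w} : Set G) := by
  by_contra h
  push Not at h
  refine Q.not_dvd_index (hqm.trans ?_)
  rw [← S.index_eq Fact.out hqp hw hwZ]
  exact index_dvd_of_le h

theorem orbit_bound (S : Setup p m G) {q s : ℕ} [Fact q.Prime] [Fact s.Prime] (hqp : q ≠ p)
    (hsp : s ≠ p) (hqs : q ≠ s) (hq : HasNC q G) (hs : HasNC s G) (Q : Sylow q G) :
    Nat.card Q * Nat.card (cenPart s G) <
      q ^ (Nat.card G / m).factorization q * s ^ (Nat.card G / m).factorization s := by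
  classical
  obtain ⟨w, hwQ, hwZ, hw⟩ := exists_second_center hq Q
  have hwq := IsQ.of_mem Q.2 hwQ
  obtain ⟨T, hT⟩ := S.exists_part hqp hsp hqs hs hwq hwZ
  have hTQ := part_le_sylow hw hT
  obtain ⟨g, hg, hgZ, hgC⟩ := S.link hqp hsp hqs hs hwq hwZ
  obtain ⟨X, hX⟩ := S.exists_part hsp hqp hqs.symm hq hg hgZ
  have hcp : cenPart s G ≤ X := fun u hu => (hX.mem u).mpr
    ⟨mem_centralizer_singleton_iff.mpr (mem_center_iff.mp hu.1 g).symm, hu.2⟩
  have hconj : ∀ v ∈ (Q : Subgroup G), v * g * v⁻¹ ∈ X := fun v hv => by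
    refine (hX.mem _).mpr ⟨?_, hg.conj v⟩
    rw [← hgC]
    exact conj_mem_centralizer (hw v hv) (hgC ▸ mem_centralizer_singleton_iff.mpr rfl)
  let f : (Q : Subgroup G) ⧸ T.subgroupOf Q → X ⧸ (cenPart s G).subgroupOf X := fun c =>
    QuotientGroup.mk ⟨_, hconj _ c.out.2⟩
  have hinj : Function.Injective f := by
    intro a b hab
    rw [QuotientGroup.eq] at hab
    obtain ⟨hzc, hzs⟩ := hab
    set v := (a.out : G) with hv
    set v' := (b.out : G) with hv'
    change (v * g * v⁻¹)⁻¹ * (v' * g * v'⁻¹) ∈ center G at hzc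
    set z := (v * g * v⁻¹)⁻¹ * (v' * g * v'⁻¹) with hz
    have hzs' : IsQ s z := hzs
    have hd : (v⁻¹ * v') * g * (v⁻¹ * v')⁻¹ = z * g := by
      calc (v⁻¹ * v') * g * (v⁻¹ * v')⁻¹ = g * (v⁻¹ * z * v) := by rw [hz]; group
        _ = g * (v⁻¹ * (v * z)) := by rw [mul_assoc v⁻¹, mem_center_iff.mp hzc v]
        _ = g * z := by group
        _ = z * g := mem_center_iff.mp hzc g
    have hdQ : v⁻¹ * v' ∈ (Q : Subgroup G) := mul_mem (inv_mem a.out.2) b.out.2
    have hz1 : z = 1 := by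
      have hpow : ∀ n : ℕ, (v⁻¹ * v') ^ n * g * ((v⁻¹ * v') ^ n)⁻¹ = z ^ n * g := by
        intro n
        induction n with
        | zero => simp
        | succ n ih =>
          calc (v⁻¹ * v') ^ (n + 1) * g * ((v⁻¹ * v') ^ (n + 1))⁻¹
              = (v⁻¹ * v') * ((v⁻¹ * v') ^ n * g * ((v⁻¹ * v') ^ n)⁻¹) * (v⁻¹ * v')⁻¹ := by
                simp only [pow_succ', mul_inv_rev, mul_assoc]
            _ = (v⁻¹ * v') * (z ^ n * g) * (v⁻¹ * v')⁻¹ := by rw [ih]
            _ = z ^ n * ((v⁻¹ * v') * g * (v⁻¹ * v')⁻¹) := by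
                rw [← mul_assoc, mem_center_iff.mp (pow_mem hzc n) (v⁻¹ * v')]; group
            _ = z ^ (n + 1) * g := by rw [hd, ← mul_assoc, ← pow_succ]
      obtain ⟨k, hk⟩ := IsQ.of_mem Q.2 hdQ
      have h1 := hpow (q ^ k)
      rw [hk, one_mul, inv_one, mul_one, eq_comm, mul_eq_right] at h1
      exact hzs'.eq_one Fact.out Fact.out hqs.symm h1
    rw [hz1, one_mul, mul_inv_eq_iff_eq_mul] at hd
    have hdT : v⁻¹ * v' ∈ T := (hT.mem _).mpr
      ⟨hgC ▸ mem_centralizer_singleton_iff.mpr hd, IsQ.of_mem Q.2 hdQ⟩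
    rw [← a.out_eq', ← b.out_eq', QuotientGroup.eq]
    exact hdT
  have hnot : (1 : X ⧸ (cenPart s G).subgroupOf X) ∉ Set.range f := by
    rintro ⟨c, hc⟩
    exact hgZ (mem_center_of_conj ((QuotientGroup.eq_one_iff _).mp hc).1)
  have hlt : Nat.card ((Q : Subgroup G) ⧸ T.subgroupOf Q) <
      Nat.card (X ⧸ (cenPart s G).subgroupOf X) := by
    haveI := Fintype.ofFinite ((Q : Subgroup G) ⧸ T.subgroupOf Q)
    haveI := Fintype.ofFinite (X ⧸ (cenPart s G).subgroupOf X)
    rw [Nat.card_eq_fintype_card, Nat.card_eq_fintype_card]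
    exact Fintype.card_lt_of_injective_of_notMem f hinj hnot
  have e1 := Subgroup.card_eq_card_quotient_mul_card_subgroup (T.subgroupOf (Q : Subgroup G))
  have e2 := Subgroup.card_eq_card_quotient_mul_card_subgroup ((cenPart s G).subgroupOf X)
  rw [Nat.card_congr (subgroupOfEquivOfLe hTQ).toEquiv, hT.card] at e1
  rw [Nat.card_congr (subgroupOfEquivOfLe hcp).toEquiv, hX.card] at e2
  rw [e1, e2]
  calc _ * q ^ _ * Nat.card (cenPart s G) =
      q ^ (Nat.card G / m).factorization q *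
        (Nat.card ((Q : Subgroup G) ⧸ T.subgroupOf Q) * Nat.card (cenPart s G)) := by ring
    _ < _ := (Nat.mul_lt_mul_left (pow_pos (Fact.out : q.Prime).pos _)).mpr
      ((Nat.mul_lt_mul_right Nat.card_pos).mpr hlt)

/-- If `q`-parts are large, all centralizers of non-central `q`-elements are conjugate, which is
impossible when two primes other than `p` divide `m`. -/
theorem part_bound (S : Setup p m G) {q s : ℕ} [Fact q.Prime] [Fact s.Prime] (hqp : q ≠ p)
    (hsp : s ≠ p) (hqs : q ≠ s) (hq : HasNC q G) (hs : HasNC s G) (hqm : q ∣ m) (hsm : s ∣ m)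
    (Q : Sylow q G) :
    (q ^ (Nat.card G / m).factorization q) * q ^ (Nat.card G / m).factorization q ≤
      Nat.card Q * Nat.card (cenPart q G) := by
  classical
  by_contra hbig
  obtain ⟨w, hwQ, hwZ, hw⟩ := exists_second_center hq Q
  have hwq := IsQ.of_mem Q.2 hwQ
  obtain ⟨T, hT⟩ := S.exists_part hqp hsp hqs hs hwq hwZ
  have hTQ := part_le_sylow hw hT
  -- all centralizers are conjugate
  have hconj : ∀ y : G, IsQ q y → y ∉ center G → ∃ g : G,
      ∀ h, h ∈ centralizer ({y} : Set G) ↔ g * h * g⁻¹ ∈ centralizer ({w} : Set G) := by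
    intro y hy hyZ
    obtain ⟨T0, hT0⟩ := S.exists_part hqp hsp hqs hs hy hyZ
    obtain ⟨P, hP⟩ := hT0.isPGroup.exists_le_sylow
    obtain ⟨g, hg⟩ := MulAction.exists_smul_eq G P Q
    have hy'Z : g * y * g⁻¹ ∉ center G := fun h => hyZ (mem_center_of_conj h)
    obtain ⟨T', hT'⟩ := S.exists_part hqp hsp hqs hs (hy.conj g) hy'Z
    have hT'Q : T' ≤ (Q : Subgroup G) := by
      intro u hu
      obtain ⟨hu1, hu2⟩ := (hT'.mem u).mp hu
      have hu0 : g⁻¹ * u * g ∈ T0 := (hT0.mem _).mpr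
        ⟨(conj_mem_centralizer_iff (v := g)).mp (by simpa [mul_assoc] using hu1),
          by simpa using hu2.conj g⁻¹⟩
      rw [← hg, Sylow.smul_def, Sylow.pointwise_smul_def, mem_pointwise_smul_iff_inv_smul_mem,
        ← map_inv, MulAut.smul_def, MulAut.conj_apply, inv_inv]
      exact hP hu0
    refine ⟨g, fun h => ?_⟩
    rw [← conj_mem_centralizer_iff (v := g) (x := y)]
    suffices centralizer ({g * y * g⁻¹} : Set G) = centralizer ({w} : Set G) by rw [this]
    by_contra hne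
    refine hbig ?_
    have hinf : T' ⊓ T ≤ cenPart q G := by
      rintro u ⟨hu', hu⟩
      refine ⟨?_, ((hT.mem u).mp hu).2⟩
      by_contra huZ
      exact hne ((hT'.eq u hu' huZ).symm.trans (hT.eq u hu huZ))
    have h1 : T'.relIndex T ≤ T'.relIndex (Q : Subgroup G) :=
      relIndex_le_of_le_right hTQ index_ne_zero_of_finite
    have h2 := relIndex_mul_relIndex ⊥ (T' ⊓ T) T bot_le inf_le_right
    rw [relIndex_bot_left, relIndex_bot_left, inf_relIndex_right, hT.card] at h2
    have h3 := relIndex_mul_relIndex ⊥ T' (Q : Subgroup G) bot_le hT'Q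
    rw [relIndex_bot_left, relIndex_bot_left, hT'.card] at h3
    calc q ^ _ * q ^ (Nat.card G / m).factorization q
        = q ^ (Nat.card G / m).factorization q * (Nat.card (T' ⊓ T : Subgroup G) * T'.relIndex T) :=
          by rw [h2]
      _ ≤ q ^ (Nat.card G / m).factorization q *
          (Nat.card (cenPart q G) * T'.relIndex (Q : Subgroup G)) :=
          Nat.mul_le_mul_left _ (Nat.mul_le_mul (card_le_of_le hinf) h1)
      _ = _ := by rw [← h3]; ring
  obtain ⟨g, hg, hgZ, hgC⟩ := S.link hqp hsp hqs hs hwq hwZ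
  obtain ⟨X, hX⟩ := S.exists_part hsp hqp hqs.symm hq hg hgZ
  set M := centralizer ({w} : Set G)
  set N := normalizer (M : Set G)
  haveI hMn : (M.subgroupOf N).Normal := normal_in_normalizer
  letI : CommGroup T := { (inferInstance : Group T) with mul_comm := hT.comm.is_comm.comm }
  letI : CommGroup X := { (inferInstance : Group X) with mul_comm := hX.comm.is_comm.comm }
  have hnT : ∀ n ∈ N, ∀ u ∈ T, n * u * n⁻¹ ∈ T := fun n hn u hu => (hT.mem _).mpr
    ⟨(mem_normalizer_iff.mp hn u).mp ((hT.mem u).mp hu).1, ((hT.mem u).mp hu).2.conj n⟩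
  have hnX : ∀ n ∈ N, ∀ u ∈ X, n * u * n⁻¹ ∈ X := fun n hn u hu => (hX.mem _).mpr
    ⟨hgC ▸ (mem_normalizer_iff.mp hn u).mp (hgC.symm ▸ ((hX.mem u).mp hu).1),
      ((hX.mem u).mp hu).2.conj n⟩
  have hkT : M.subgroupOf N ≤ (conjHom N T hnT).ker := by
    intro n hn
    rw [MonoidHom.mem_ker]
    ext u
    have h1 := mem_centralizer_singleton_iff.mp (hT.le u u.2 hn)
    change (n : G) * u = u * (n : G) at h1
    change (n : G) * u * (n : G)⁻¹ = u
    rw [h1, mul_inv_cancel_right]
  have hkX : M.subgroupOf N ≤ (conjHom N X hnX).ker := by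
    intro n hn
    rw [MonoidHom.mem_ker]
    ext u
    have h1 := mem_centralizer_singleton_iff.mp (hX.le u u.2 (hgC ▸ hn))
    change (n : G) * u = u * (n : G) at h1
    change (n : G) * u * (n : G)⁻¹ = u
    rw [h1, mul_inv_cancel_right]
  let φ := QuotientGroup.lift (M.subgroupOf N) (conjHom N T hnT) hkT
  let ψ := QuotientGroup.lift (M.subgroupOf N) (conjHom N X hnX) hkX
  have hφ : SemiRegOutside φ ((center G).subgroupOf T) := by
    refine ⟨fun c z hz => ?_, fun c hc e he => ?_⟩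
    · induction c using QuotientGroup.induction_on with
      | H n =>
        refine Subtype.ext ?_
        change (n : G) * z * (n : G)⁻¹ = z
        have hz' : (z : G) ∈ center G := hz
        rw [mem_center_iff.mp hz' (n : G), mul_inv_cancel_right]
    · induction c using QuotientGroup.induction_on with
      | H n =>
        by_contra heZ
        refine hc ((QuotientGroup.eq_one_iff n).mpr ?_)
        change (n : G) ∈ M
        rw [show M = _ from (hT.eq e e.2 heZ).symm, mem_centralizer_singleton_iff]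
        exact mul_inv_eq_iff_eq_mul.mp (congrArg Subtype.val he)
  have hψ : SemiRegOutside ψ ((center G).subgroupOf X) := by
    refine ⟨fun c z hz => ?_, fun c hc e he => ?_⟩
    · induction c using QuotientGroup.induction_on with
      | H n =>
        refine Subtype.ext ?_
        change (n : G) * z * (n : G)⁻¹ = z
        have hz' : (z : G) ∈ center G := hz
        rw [mem_center_iff.mp hz' (n : G), mul_inv_cancel_right]
    · induction c using QuotientGroup.induction_on with
      | H n =>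
        by_contra heZ
        refine hc ((QuotientGroup.eq_one_iff n).mpr ?_)
        change (n : G) ∈ M
        rw [show M = centralizer ({g} : Set G) from hgC,
          show centralizer ({g} : Set G) = _ from (hX.eq e e.2 heZ).symm,
          mem_centralizer_singleton_iff]
        exact mul_inv_eq_iff_eq_mul.mp (congrArg Subtype.val he)
  have hZne : ∀ {U : Subgroup G}, (∃ u ∈ U, u ∉ center G) → (center G).subgroupOf U ≠ ⊤ := by
    rintro U ⟨u, hu, huZ⟩ h
    exact huZ (h ▸ mem_top (⟨u, hu⟩ : U) : _ ∈ (center G).subgroupOf U)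
  have hdvd : ∀ l : ℕ, l.Prime → ∀ v : G, IsQ l v → v ∈ N → v ∉ M →
      l ∣ Nat.card (N ⧸ M.subgroupOf N) := by
    intro l hl v hv hvN hvM
    obtain ⟨j, hj⟩ := hv.orderOf_eq hl
    have hd : orderOf ((⟨v, hvN⟩ : N) : N ⧸ M.subgroupOf N) ∣ l ^ j := by
      rw [← hj, ← Subgroup.orderOf_mk v hvN]
      exact orderOf_map_dvd (QuotientGroup.mk' (M.subgroupOf N)) _
    obtain ⟨i, -, hi⟩ := (Nat.dvd_prime_pow hl).mp hd
    have hi0 : i ≠ 0 := by
      rintro rfl
      rw [pow_zero, orderOf_eq_one_iff, QuotientGroup.eq_one_iff] at hi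
      exact hvM hi
    refine (dvd_pow_self l hi0).trans ?_
    rw [← hi]
    exact orderOf_dvd_natCard _
  refine no_semiRegular (W := N ⧸ M.subgroupOf N) hqs hT.isPGroup hX.isPGroup
    (hZne hT.out) hφ (hZne hX.out) hψ ?_ ?_
  · obtain ⟨v, hv, hvM⟩ := exists_not_mem_centralizer S hqp hqm Q hwq hwZ
    exact hdvd q Fact.out v (IsQ.of_mem Q.2 hv) (le_normalizer_centralizer hw hv) hvM
  · obtain ⟨R⟩ := (inferInstance : Nonempty (Sylow s G))
    obtain ⟨w', hw'R, hw'Z, hw'⟩ := exists_second_center hs R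
    have hw's := IsQ.of_mem R.2 hw'R
    obtain ⟨v, hv, hvM⟩ := exists_not_mem_centralizer S hsp hsm R hw's hw'Z
    obtain ⟨u, hu, huZ, huC⟩ := S.link hsp hqp hqs.symm hq hw's hw'Z
    obtain ⟨a, ha⟩ := hconj u hu huZ
    rw [← huC] at ha
    refine hdvd s Fact.out (a * v * a⁻¹) ((IsQ.of_mem R.2 hv).conj a) ?_
      fun h => hvM ((ha v).mpr h)
    rw [mem_normalizer_iff]
    intro h
    have e1 : h ∈ M ↔ a⁻¹ * h * a ∈ centralizer ({w'} : Set G) := by
      rw [ha]; simp [mul_assoc, M]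
    have e2 := mem_normalizer_iff.mp (le_normalizer_centralizer hw' hv) (a⁻¹ * h * a)
    rw [e1, e2, ha]
    simp [mul_assoc, M]

/-- At most one prime other than `p` divides `m`. -/
theorem prime_unique (S : Setup p m G) {q s : ℕ} [Fact q.Prime] [Fact s.Prime] (hqp : q ≠ p)
    (hsp : s ≠ p) (hqs : q ≠ s) (hq : HasNC q G) (hs : HasNC s G) (hqm : q ∣ m) (hsm : s ∣ m) :
    False := by
  obtain ⟨Q⟩ := (inferInstance : Nonempty (Sylow q G))
  obtain ⟨R⟩ := (inferInstance : Nonempty (Sylow s G))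
  have h1 := orbit_bound S hqp hsp hqs hq hs Q
  have h2 := orbit_bound S hsp hqp hqs.symm hs hq R
  have h3 := part_bound S hqp hsp hqs hq hs hqm hsm Q
  have h4 := part_bound S hsp hqp hqs.symm hs hq hsm hqm R
  set a := q ^ (Nat.card G / m).factorization q
  set b := s ^ (Nat.card G / m).factorization s
  have h5 := Nat.mul_lt_mul_of_lt_of_lt h1 h2
  have h6 := Nat.mul_le_mul h3 h4
  nlinarith [h5, h6]

/-- Closure of commuting `q`-elements. -/
theorem isQ_of_closure {q : ℕ} {L : Subgroup G} (hL : IsMulCommutative L) {s : Set G}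
    (hs : ∀ x ∈ s, IsQ q x) (hsL : closure s ≤ L) {x : G} (hx : x ∈ closure s) : IsQ q x := by
  induction hx using Subgroup.closure_induction with
  | mem x hx => exact hs x hx
  | one => exact ⟨0, by simp⟩
  | mul x y hx hy ihx ihy =>
    exact ihx.mul ihy (congrArg Subtype.val (hL.is_comm.comm ⟨x, hsL hx⟩ ⟨y, hsL hy⟩))
  | inv x _ ih => exact ih.inv

/-- If two primes other than `p` have non-central elements, then `m` is a power of `p`. -/
theorem not_dvd_of_two (S : Setup p m G) {q r : ℕ} [Fact q.Prime] [Fact r.Prime] (hqp : q ≠ p)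
    (hrp : r ≠ p) (hqr : q ≠ r) (hq : HasNC q G) (hr : HasNC r G)
    (hNC : ∀ l : ℕ, l.Prime → l ≠ p → l ∣ m → HasNC l G) : ¬ q ∣ m := by
  intro hqm
  haveI := Fact.mk S.hp
  obtain ⟨Q⟩ := (inferInstance : Nonempty (Sylow q G))
  obtain ⟨w, hwQ, hwZ, hw⟩ := exists_second_center hq Q
  have hwq := IsQ.of_mem Q.2 hwQ
  obtain ⟨y, hyQ, hyw⟩ := exists_not_mem_centralizer S hqp hqm Q hwq hwZ
  have hyq := IsQ.of_mem Q.2 hyQ
  have hyZ : y ∉ center G := fun h => hyw (mem_centralizer_singleton_iff.mpr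
    (mem_center_iff.mp h w).symm)
  obtain ⟨g, hg, hgZ, hgC⟩ := S.link hqp hrp hqr hr hyq hyZ
  have hgw : ¬ g * w * g⁻¹ * w⁻¹ = 1 := by
    intro h
    rw [mul_inv_eq_one, mul_inv_eq_iff_eq_mul] at h
    have hc : Commute g w := h
    have hgw' : centralizer ({g} : Set G) ≤ centralizer ({w} : Set G) :=
      S.comm_le hc (hg.coprime Fact.out Fact.out hqr.symm hwq) (hg.coprime_prime Fact.out S.hp hrp)
        (hwq.coprime_prime Fact.out S.hp hqp) hgZ
    exact hyw (hgw' (hgC ▸ mem_centralizer_singleton_iff.mpr rfl))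
  -- the commutator is an `r`-element
  have hyc : w * y * w⁻¹ * y⁻¹ ∈ center G := by
    have h1 := inv_mem (hw y hyQ)
    have h2 : (y * w * y⁻¹ * w⁻¹)⁻¹ = w * y * w⁻¹ * y⁻¹ := by group
    rwa [h2] at h1
  have hh : w * g⁻¹ * w⁻¹ ∈ centralizer ({g} : Set G) := by
    rw [← hgC]
    exact conj_mem_centralizer hyc (hgC ▸ inv_mem (mem_centralizer_singleton_iff.mpr rfl))
  have hcr : IsQ r (g * w * g⁻¹ * w⁻¹) := by
    rw [show g * w * g⁻¹ * w⁻¹ = g * (w * g⁻¹ * w⁻¹) by group]
    exact hg.mul (hg.inv.conj w) (mem_centralizer_singleton_iff.mp hh).symm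
  -- Kazarin in the central quotient
  set f := QuotientGroup.mk' (center G) with hf
  have hfs : Function.Surjective f := QuotientGroup.mk'_surjective _
  have hmap : ∀ K : Subgroup G, (∀ k ∈ K, k * w * k⁻¹ * w⁻¹ ∈ center G) →
      K.map f ≤ centralizer ({f w} : Set (G ⧸ center G)) := by
    rintro K hK _ ⟨k, hk, rfl⟩
    rw [mem_centralizer_singleton_iff]
    have h1 : f (k * w * k⁻¹ * w⁻¹) = 1 := (QuotientGroup.eq_one_iff _).mpr (hK k hk)
    simp only [map_mul, map_inv] at h1
    rwa [mul_inv_eq_one, mul_inv_eq_iff_eq_mul] at h1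
  have hd1 : (centralizer ({f w} : Set (G ⧸ center G))).index ∣ m := by
    rw [← S.index_eq Fact.out hqp hwq hwZ]
    refine (index_dvd_of_le (hmap _ fun k hk => ?_)).trans (index_map_dvd _ hfs)
    rw [mem_centralizer_singleton_iff] at hk
    rw [hk, mul_inv_cancel_right, mul_inv_cancel]
    exact one_mem _
  have hd2 : ¬ q ∣ (centralizer ({f w} : Set (G ⧸ center G))).index := fun h =>
    Q.not_dvd_index ((h.trans (index_dvd_of_le (hmap _ hw))).trans (index_map_dvd _ hfs))
  obtain ⟨a, ha⟩ : ∃ a, (centralizer ({f w} : Set (G ⧸ center G))).index = p ^ a := by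
    refine ⟨_, Nat.eq_prime_pow_of_unique_prime_dvd index_ne_zero_of_finite
      fun {l} hl hld => ?_⟩
    by_contra hlp
    haveI := Fact.mk hl
    have hlm := hld.trans hd1
    by_cases hlq : l = q
    · exact hd2 (hlq ▸ hld)
    · exact prime_unique S hqp hlp (Ne.symm hlq) hq (hNC l hl hlp hlm) hqm hlm
  have hK := H79.Kazarin.commutator_normalClosure_le S.hp ha
  set L := normalClosure ({f w} : Set (G ⧸ center G)) with hLdef
  set O := Cfsg.pCore p (G ⧸ center G) with hO
  set f2 := QuotientGroup.mk' O with hf2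
  have hcL : f (g * w * g⁻¹ * w⁻¹) ∈ L := by
    simp only [map_mul, map_inv]
    have hwL : f w ∈ L := subset_normalClosure rfl
    exact mul_mem ((normalClosure_normal (s := ({f w} : Set (G ⧸ center G)))).conj_mem _ hwL _)
      (inv_mem hwL)
  have hab : IsMulCommutative (L.map f2) := by
    refine ⟨⟨?_⟩⟩
    rintro ⟨_, a, ha, rfl⟩ ⟨_, b, hb, rfl⟩
    refine Subtype.ext ?_
    change f2 a * f2 b = f2 b * f2 a
    have h1 : f2 ⁅a, b⁆ = 1 :=
      (QuotientGroup.eq_one_iff _).mpr (hK (Subgroup.commutator_mem_commutator ha hb))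
    rw [map_commutatorElement, commutatorElement_eq_one_iff_mul_comm] at h1
    exact h1
  have hL2 : L.map f2 = closure (f2 '' Group.conjugatesOfSet ({f w} : Set (G ⧸ center G))) :=
    (MonoidHom.map_closure f2 _)
  have hQ : IsQ q (f2 (f (g * w * g⁻¹ * w⁻¹))) := by
    refine isQ_of_closure hab ?_ (hL2 ▸ le_rfl) (hL2 ▸ mem_map_of_mem f2 hcL)
    rintro _ ⟨x, hx, rfl⟩
    obtain ⟨_, rfl, hxw⟩ := Group.mem_conjugatesOfSet_iff.mp hx
    obtain ⟨c, rfl⟩ := isConj_iff.mp hxw
    obtain ⟨k, hk⟩ := hwq.conj 1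
    refine ⟨k, ?_⟩
    rw [one_mul, inv_one, mul_one] at hk
    rw [← map_pow, conj_pow, ← map_pow, hk, map_one, mul_one, mul_inv_cancel, map_one]
  obtain ⟨n, hn⟩ := hcr
  have hone : f2 (f (g * w * g⁻¹ * w⁻¹)) = 1 :=
    hQ.eq_one Fact.out Fact.out hqr (n := n) (by rw [← map_pow, ← map_pow, hn, map_one, map_one])
  obtain ⟨k, hk⟩ := Cores.pCore_isPGroup (p := p) (G := G ⧸ center G)
    ⟨_, (QuotientGroup.eq_one_iff _).mp hone⟩
  have hfc : f (g * w * g⁻¹ * w⁻¹) = 1 := by
    refine IsQ.eq_one (q := r) (r := p) Fact.out S.hp hrp ⟨n, by rw [← map_pow, hn, map_one]⟩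
      (n := k) ?_
    simpa using congrArg Subtype.val hk
  have hcZ := (QuotientGroup.eq_one_iff _).mp hfc
  set c := g * w * g⁻¹ * w⁻¹ with hc
  obtain ⟨k', hk'⟩ := hwq
  have hcq : c ^ q ^ k' = 1 := by
    have h1 : g * w * g⁻¹ = c * w := by rw [hc]; group
    have h2 := congrArg (· ^ q ^ k') h1
    have hcomm : Commute c w := (mem_center_iff.mp hcZ w).symm
    simp only [conj_pow, hcomm.mul_pow, hk', mul_one, mul_inv_cancel] at h2
    exact h2.symm
  exact hgw (IsQ.eq_one (x := c) Fact.out Fact.out hqr.symm ⟨n, hn⟩ hcq)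

end Cfsg.Agent.Hall.TwoSizes
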