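import Cfsg.Agent.Hall.FourSizesBasic

/-!
In a group with class sizes `{1, n, m, nm}` (`n`, `m` coprime) `n` and `m` are prime powers.
-/

set_option autoImplicit false
set_option linter.style.haveILetI false
set_option linter.unusedSectionVars false

namespace Cfsg.Agent.Hall.FourSizes

open Subgroup TwoSizes

variable {G : Type*} [Group G] [Finite G] {n m : ℕ}

local notation "C[" g "]" => centralizer ({g} : Set _)

theorem eq_of_index_eq {H K : Subgroup G} (hle : H ≤ K) (h : H.index = K.index) : H = K := by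
  refine le_antisymm hle (relIndex_eq_one.mp ?_)
  have h2 := relIndex_mul_index hle
  rw [h] at h2
  exact (Nat.mul_eq_right index_ne_zero_of_finite).mp h2

theorem Four.not_le_bound (F : Four n m G) :
    ¬ Nat.card G ≤ Nat.card (center G) * (n * m) := by
  intro h
  obtain ⟨w, hw⟩ := F.exnm
  have hn := F.hn
  have hm := F.hm
  have h1 := (C[w]).card_mul_index
  rw [hw] at h1
  have h2 : Nat.card C[w] ≤ Nat.card (center G) :=
    Nat.le_of_mul_le_mul_right (h1 ▸ h) (by positivity)
  have h3 := eq_of_le_of_card_ge (center_le_C w) h2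
  have h4 : w ∈ center G := h3 ▸ self_mem_C w
  rw [index_C_eq_one.mpr h4] at hw
  nlinarith

theorem card_le_of_inf {H K : Subgroup G} (h : H ⊓ K ≤ center G) :
    Nat.card H ≤ Nat.card (center G) * K.index := by
  have h1 := relIndex_mul_relIndex ⊥ (K ⊓ H) H bot_le inf_le_right
  rw [relIndex_bot_left, relIndex_bot_left, inf_relIndex_right] at h1
  rw [← h1]
  refine Nat.mul_le_mul (card_le_of_le (inf_comm H K ▸ h)) ?_
  rw [← relIndex_top_right]
  exact relIndex_le_of_le_right le_top (by rw [relIndex_top_right]; exact index_ne_zero_of_finite)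

theorem Four.index_commute (F : Four n m G) {t z : G} (hc : Commute t z)
    (hco : (orderOf t).Coprime (orderOf z)) (ht : (C[t]).index = m)
    (hm : ∀ w, w ∉ center G → Commute t w → (C[w]).index = m) :
    C[t * z] = C[t] ∧ C[t] ≤ C[z] := by
  have hle : C[t * z] ≤ C[t] := C_mul_eq hc hco ▸ inf_le_left
  have hne : t * z ∉ center G := fun h => by
    have h1 := index_dvd_of_le hle
    rw [index_C_eq_one.mpr h, ht, Nat.dvd_one] at h1
    exact absurd h1 (Nat.ne_of_gt F.hm)
  have heq := eq_of_index_eq hle ((hm _ hne ((Commute.refl t).mul_right hc)).trans ht.symm)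
  exact ⟨heq, heq ▸ C_mul_eq hc hco ▸ inf_le_right⟩

/-- The centralizer of an element of index `n` contains non-central `r`-elements for `r ∣ n`. -/
theorem Four.link (F : Four n m G) {x : G} (hx : (C[x]).index = n) {r : ℕ} [Fact r.Prime]
    (hr : r ∣ n) : ∃ u ∈ C[x], IsQ r u ∧ u ∉ center G := by
  refine exists_nc_of_lt (not_le.mp fun hsmall => ?_)
  obtain ⟨t, htq, htZ⟩ := hasNC_of_dvd (hx ▸ hr)
  have hidx : ∀ w, w ∉ center G → ∀ t' : G, IsQ r t' → t' ∉ center G → Commute t' w →
      (C[w]).index = m := by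
    intro w hw t' ht' ht'Z hc
    have h1 := lt_of_nc (center_le_C w) (mem_C.mpr hc) ht' ht'Z
    rcases F.idx w with h | h | h | h
    · exact absurd h hw
    · exact absurd (lp_le_of_index_dvd (Fact.out : r.Prime) (K := C[x]) (L := C[w]) (by rw [hx, h]))
        (by omega)
    · exact h
    · exact absurd (lp_le_of_index_dvd (Fact.out : r.Prime) (K := C[x]) (L := C[w])
        (by rw [hx, h]; exact dvd_mul_right _ _)) (by omega)
  have htm := hidx t htZ t htq htZ (Commute.refl t)
  have hcz : ∀ w, w ∉ center G → Commute t w → (C[w]).index = m :=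
    fun w hw hc => hidx w hw t htq htZ hc
  have hn := F.hn
  by_cases hA : ∃ (l : ℕ) (_ : l.Prime) (u : G), l ≠ r ∧ u ∈ C[t] ∧ IsQ l u ∧ u ∉ center G
  · obtain ⟨l, hl, u, hlr, huC, huq, huZ⟩ := hA
    have hctu : Commute t u := (mem_C.mp huC).symm
    obtain ⟨-, htu⟩ := F.index_commute hctu (htq.coprime Fact.out hl hlr.symm huq) htm hcz
    have hCu : C[t] = C[u] := eq_of_index_eq htu (htm.trans (hcz u huZ hctu).symm)
    have hab : C[t] ≤ centralizer (C[t] : Set G) := by
      refine le_of_primary fun l' hl' z hz hzq => ?_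
      suffices C[t] ≤ C[z] from
        mem_centralizer_iff.mpr fun g hg => (mem_C.mp (this hg)).eq
      have hctz : Commute t z := (mem_C.mp hz).symm
      by_cases hzZ : z ∈ center G
      · intro g _
        exact mem_C.mpr (mem_center_iff.mp hzZ g)
      by_cases hlr' : l' = r
      · subst hlr'
        have hzu : z ∈ C[u] := hCu ▸ hz
        obtain ⟨-, hzu'⟩ := F.index_commute (mem_C.mp hzu) (hzq.coprime Fact.out hl hlr.symm huq)
          (hcz z hzZ hctz) fun w hw hc => hidx w hw z hzq hzZ hc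
        have h2 : C[z] = C[u] := eq_of_index_eq hzu' ((hcz z hzZ hctz).trans (hcz u huZ hctu).symm)
        rw [h2, hCu]
      · exact (F.index_commute hctz (htq.coprime Fact.out hl' (Ne.symm hlr') hzq) htm hcz).2
    refine F.not_le_bound ?_
    have hinf : C[t] ⊓ C[x] ≤ center G := by
      intro w hw
      obtain ⟨hw1, hw2⟩ := mem_inf.mp hw
      by_contra hwZ
      have hle : C[t] ≤ C[w] := fun g hg =>
        mem_C.mpr (mem_centralizer_iff.mp (hab hw1) g hg)
      have h1 := eq_of_index_eq hle (htm.trans (hcz w hwZ (mem_C.mp hw1).symm).symm)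
      have hxt : x ∈ C[t] := h1 ▸ mem_C.mpr (mem_C.mp hw2).symm
      have h2 := hcz x (F.not_center_n hx) (mem_C.mp hxt).symm
      rw [hx] at h2
      have := F.cop
      rw [← h2, Nat.coprime_self] at this
      omega
    have h1 := card_le_of_inf hinf
    rw [hx] at h1
    calc Nat.card G = Nat.card C[t] * m := by rw [← htm, card_mul_index]
      _ ≤ Nat.card (center G) * n * m := Nat.mul_le_mul_right _ h1
      _ = _ := by ring
  · push Not at hA
    obtain ⟨w, hw⟩ := F.exnm
    have hwZ : w ∈ center G := by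
      refine le_of_primary (K := C[w]) (fun l hl y hy hyq => ?_) (self_mem_C w)
      by_contra hyZ
      haveI := Fact.mk hl
      have h1 := lt_of_nc (center_le_C w) hy hyq hyZ
      by_cases hlr : l = r
      · subst hlr
        have h2 := lp_le_of_index_dvd hl (K := C[x]) (L := C[w])
          (by rw [hx, hw]; exact dvd_mul_right _ _)
        omega
      · obtain ⟨u, hu, huq, huZ⟩ := exists_nc_of_lt (lt_of_lt_of_le h1
          (lp_le_of_index_dvd hl (K := C[t]) (L := C[w]) (by rw [htm, hw]; exact dvd_mul_left _ _)))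
        exact huZ (hA l hl u hlr hu huq)
    rw [index_C_eq_one.mpr hwZ] at hw
    have := F.hm
    nlinarith

/-- `m` is a prime power. -/
theorem Four.exists_prime_pow (F : Four n m G) :
    ∃ (s a : ℕ), s.Prime ∧ 0 < a ∧ m = s ^ a := by
  classical
  have hm := F.hm
  have hn := F.hn
  obtain ⟨q1, hq1, hq1m⟩ := Nat.exists_prime_and_dvd (by omega : m ≠ 1)
  by_cases huniq : ∀ l : ℕ, l.Prime → l ∣ m → l = q1
  · have h := Nat.eq_prime_pow_of_unique_prime_dvd (by omega : m ≠ 0) fun {l} hl hld =>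
      huniq l hl hld
    refine ⟨q1, _, hq1, Nat.pos_of_ne_zero fun h0 => ?_, h⟩
    rw [h0, pow_zero] at h
    omega
  exfalso
  push Not at huniq
  obtain ⟨q2, hq2, hq2m, hq21⟩ := huniq
  haveI := Fact.mk hq1
  haveI := Fact.mk hq2
  obtain ⟨p, hp, x, hxq, hx⟩ := F.exists_primary
  set H := C[x]
  -- bases
  have hSetup : ∀ (l : ℕ) (b : G), l.Prime → IsQ l b → C[b] = H → Setup l m H := by
    intro l b hl hb hbH
    refine ⟨hl, fun z hz => ?_⟩
    have hbn : (C[b]).index = n := hbH ▸ hx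
    have hc : Commute b (z : G) := (mem_C.mp (hbH.symm ▸ z.2 : (z : G) ∈ C[b])).symm
    have hco : (orderOf b).Coprime (orderOf (z : G)) := by
      obtain ⟨j, hj⟩ := hb.orderOf_eq hl
      rw [hj, Subgroup.orderOf_coe]
      exact (hz.pow_right j).symm
    have h1 := index_mul hc hco
    rw [hbn, hbH] at h1
    rcases (F.cases_of_dvd (g := b * z) (h1 ▸ dvd_mul_left _ _)).2 with h | h
    · left
      rw [h] at h1
      rw [← index_C_eq_one, index_C_subtype]
      exact (Nat.mul_eq_right (by omega)).mp h1.symm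
    · right
      rw [h, mul_comm n m] at h1
      rw [index_C_subtype]
      exact (Nat.eq_of_mul_eq_mul_right (by omega) h1).symm
  have hdich : ∀ (l : ℕ) (u : G), IsQ l u → u ∈ H → u ∉ center G →
      HasNC l H ∨ C[u] = H := by
    intro l u hu huH huZ
    by_cases h : (⟨u, huH⟩ : H) ∈ center H
    · right
      have hle : H ≤ C[u] := fun g hg => mem_C.mpr
        (congrArg Subtype.val (mem_center_iff.mp h ⟨g, hg⟩) : g * u = u * g)
      refine (eq_of_index_eq hle (hx.trans (F.eq_of_dvd huZ ?_).symm)).symm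
      exact hx ▸ index_dvd_of_le hle
    · obtain ⟨k, hk⟩ := hu
      exact Or.inl ⟨⟨u, huH⟩, ⟨k, Subtype.ext hk⟩, h⟩
  have hNCm : ∀ (r : ℕ) (b : G), r.Prime → IsQ r b → C[b] = H → ∀ q : ℕ, q.Prime → q ≠ r →
      HasNC q H → ∀ l : ℕ, l.Prime → l ≠ r → l ∣ m → HasNC l H := by
    intro r b hr hb hbH q hq hqr hqNC l hl hlr hlm
    obtain ⟨z, hzq, hzZ⟩ := hqNC
    haveI := Fact.mk hl
    exact hasNC_of_dvd (((hSetup r b hr hb hbH).idx z
      (hzq.coprime_prime hq hr hqr)).resolve_left hzZ ▸ hlm)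
  have hkey : ∀ (r : ℕ) (b : G), r.Prime → IsQ r b → C[b] = H → ∀ q q' : ℕ, q.Prime → q'.Prime →
      q ≠ r → q' ≠ r → q ≠ q' → HasNC q H → HasNC q' H → ¬ q ∣ m := by
    intro r b hr hb hbH q q' hq hq' hqr hq'r hqq' hqNC hq'NC
    haveI := Fact.mk hq
    haveI := Fact.mk hq'
    exact not_dvd_of_two (hSetup r b hr hb hbH) hqr hq'r hqq' hqNC hq'NC
      (hNCm r b hr hb hbH q hq hqr hqNC)
  have hm_nc : ∀ l : ℕ, l.Prime → l ∣ m → ∃ u ∈ H, IsQ l u ∧ u ∉ center G := by
    intro l hl hlm
    haveI := Fact.mk hl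
    refine exists_nc_of_lt (lt_of_lt_of_le (b := lp l (⊤ : Subgroup G)) ?_ (le_of_eq ?_))
    · obtain ⟨g, hg⟩ := F.exm
      obtain ⟨u, huq, huZ⟩ := hasNC_of_dvd (hg ▸ hlm)
      exact lt_of_nc (K := ⊤) le_top (mem_top u) huq huZ
    · have h1 := lp_mul hl H
      have h2 := lp_mul hl (⊤ : Subgroup G)
      rw [hx, Nat.factorization_eq_zero_of_not_dvd (fun h => by
        have h3 : l ∣ 1 := F.cop ▸ Nat.dvd_gcd h hlm
        exact hl.ne_one (Nat.dvd_one.mp h3)), pow_zero, mul_one] at h1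
      rw [index_top, Nat.factorization_one, Finsupp.zero_apply, pow_zero, mul_one] at h2
      exact h2.trans h1.symm
  obtain ⟨r, hr, hrn⟩ := Nat.exists_prime_and_dvd (by omega : n ≠ 1)
  have hrm : ∀ l : ℕ, l ∣ m → r ≠ l := by
    intro l hl he
    have h3 : r ∣ 1 := F.cop ▸ Nat.dvd_gcd hrn (he ▸ hl)
    exact hr.ne_one (Nat.dvd_one.mp h3)
  haveI := Fact.mk hr
  obtain ⟨ur, hurH, hurq, hurZ⟩ := F.link hx hrn
  by_cases hcase : ∃ q : ℕ, q.Prime ∧ q ∣ m ∧ q ≠ p ∧ HasNC q H
  · obtain ⟨q, hq, hqm, hqp, hqNC⟩ := hcase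
    -- the other prime of `m`
    obtain ⟨q', hq', hq'm, hq'q⟩ : ∃ q' : ℕ, q'.Prime ∧ q' ∣ m ∧ q' ≠ q := by
      by_cases h : q1 = q
      · exact ⟨q2, hq2, hq2m, fun h' => hq21 (h'.trans h.symm)⟩
      · exact ⟨q1, hq1, hq1m, h⟩
    have hq'p : q' = p := by
      by_contra h
      exact hkey p x hp.out hxq rfl q q' hq hq' hqp h hq'q.symm hqNC
        (hNCm p x hp.out hxq rfl q hq hqp hqNC q' hq' h hq'm) hqm
    have hrp : r ≠ p := hq'p ▸ hrm q' hq'm
    rcases hdich r ur hurq hurH hurZ with hrNC | hbase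
    · exact hkey p x hp.out hxq rfl q r hq hr hqp hrp (hrm q hqm).symm hqNC hrNC hqm
    · exact hkey r ur hr hurq hbase q q' hq hq' (hrm q hqm).symm (hrm q' hq'm).symm hq'q.symm hqNC
        (hNCm r ur hr hurq hbase q hq (hrm q hqm).symm hqNC q' hq' (hrm q' hq'm).symm hq'm) hqm
  · push Not at hcase
    obtain ⟨q, hq, hqm, hqp⟩ : ∃ q : ℕ, q.Prime ∧ q ∣ m ∧ q ≠ p := by
      by_cases h : q1 = p
      · exact ⟨q2, hq2, hq2m, fun h' => hq21 (h'.trans h.symm)⟩
      · exact ⟨q1, hq1, hq1m, h⟩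
    obtain ⟨q', hq', hq'm, hq'q⟩ : ∃ q' : ℕ, q'.Prime ∧ q' ∣ m ∧ q' ≠ q := by
      by_cases h : q1 = q
      · exact ⟨q2, hq2, hq2m, fun h' => hq21 (h'.trans h.symm)⟩
      · exact ⟨q1, hq1, hq1m, h⟩
    obtain ⟨uq, huqH, huqq, huqZ⟩ := hm_nc q hq hqm
    have hqbase : C[uq] = H :=
      (hdich q uq huqq huqH huqZ).resolve_left (hcase q hq hqm hqp)
    by_cases hother : ∃ l : ℕ, l.Prime ∧ l ≠ q ∧ HasNC l H
    · obtain ⟨l, hl, hlq, hlNC⟩ := hother
      have hq'NC := hNCm q uq hq huqq hqbase l hl hlq hlNC q' hq' hq'q hq'm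
      rcases hdich r ur hurq hurH hurZ with hrNC | hbase
      · exact hkey q uq hq huqq hqbase q' r hq' hr hq'q (hrm q hqm) (hrm q' hq'm).symm hq'NC hrNC
          hq'm
      · exact hcase q hq hqm hqp
          (hNCm r ur hr hurq hbase q' hq' (hrm q' hq'm).symm hq'NC q hq (hrm q hqm).symm hqm)
    · push Not at hother
      -- the centralizer of `x` is abelian
      have hqNC := hcase q hq hqm hqp
      have hab : ∀ a ∈ H, H ≤ C[a] := by
        intro a ha g hg
        have : (⟨a, ha⟩ : H) ∈ center H := by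
          refine mem_of_primary fun l hl y _ hy => ?_
          by_contra hyZ
          by_cases hlq : l = q
          · exact hqNC (hlq ▸ ⟨y, hy, hyZ⟩)
          · exact hother l hl hlq ⟨y, hy, hyZ⟩
        exact mem_C.mpr (congrArg Subtype.val (mem_center_iff.mp this ⟨g, hg⟩) : g * a = a * g)
      obtain ⟨y, hy⟩ := F.exm
      have hinf : H ⊓ C[y] ≤ center G := by
        intro u hu
        obtain ⟨hu1, hu2⟩ := mem_inf.mp hu
        by_contra huZ
        have h1 := F.eq_of_dvd huZ (hx ▸ index_dvd_of_le (hab u hu1))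
        have h2 := eq_of_index_eq (hab u hu1) (hx.trans h1.symm)
        have hyH : y ∈ H := h2 ▸ mem_C.mpr (mem_C.mp hu2).symm
        have h3 := hx ▸ index_dvd_of_le (hab y hyH)
        rw [hy] at h3
        have h4 : m ∣ 1 := F.cop ▸ Nat.dvd_gcd h3 dvd_rfl
        have := Nat.dvd_one.mp h4
        omega
      refine F.not_le_bound ?_
      have h1 := card_le_of_inf hinf
      rw [hy] at h1
      calc Nat.card G = Nat.card H * n := by rw [← hx, card_mul_index]
        _ ≤ Nat.card (center G) * m * n := Nat.mul_le_mul_right _ h1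
        _ = _ := by ring

end Cfsg.Agent.Hall.FourSizes
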