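import Cfsg.Agent.Hall.FourSizesBasic
import Cfsg.Agent.Hall.FourSizesPrimePow
import Cfsg.Agent.Hall.ClassSizeNilpotent
import Cfsg.Agent.S0144

/-!
Groups with class sizes `{1, r^b, s^a, r^b s^a}` are nilpotent.
-/

set_option autoImplicit false
set_option linter.style.haveILetI false
set_option linter.unusedSectionVars false

namespace Cfsg.Agent.Hall.FourSizes

open Subgroup TwoSizes
open scoped Pointwise

variable {G : Type*} [Group G] [Finite G] {r s n m : ℕ}

local notation "C[" g "]" => centralizer ({g} : Set _)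

/-- Class sizes `{1, n, m, nm}` with `n` a power of `r` and `m` a power of `s`. -/
structure TP (r s n m : ℕ) (G : Type*) [Group G] : Prop where
  four : Four n m G
  hr : r.Prime
  hs : s.Prime
  hrs : r ≠ s
  hn : ∃ b, n = r ^ b
  hm : ∃ a, m = s ^ a

theorem TP.symm (T : TP r s n m G) : TP s r m n G :=
  ⟨T.four.symm, T.hs, T.hr, T.hrs.symm, T.hm, T.hn⟩

theorem TP.dvd_n (T : TP r s n m G) : r ∣ n := by
  obtain ⟨b, rfl⟩ := T.hn
  refine dvd_pow_self r fun h => ?_
  have := T.four.hn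
  rw [h, pow_zero] at this
  omega

theorem TP.not_dvd_n (T : TP r s n m G) {l : ℕ} (hl : l.Prime) (hlr : l ≠ r) : ¬ l ∣ n := by
  obtain ⟨b, rfl⟩ := T.hn
  exact fun h => hlr ((Nat.prime_dvd_prime_iff_eq hl T.hr).mp (hl.dvd_of_dvd_pow h))

theorem TP.factor_n (T : TP r s n m G) : r ^ n.factorization r = n ∧ r ^ (n * m).factorization r = n := by
  have h1 : r ^ n.factorization r = n := by
    obtain ⟨b, rfl⟩ := T.hn
    rw [T.hr.factorization_pow, Finsupp.single_eq_same]
  refine ⟨h1, ?_⟩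
  rw [Nat.factorization_mul (by have := T.four.hn; omega) (by have := T.four.hm; omega),
    Finsupp.add_apply, Nat.factorization_eq_zero_of_not_dvd (T.symm.not_dvd_n T.hr T.hrs), add_zero,
    h1]

/-- Elements of order prime to `rs` are central. -/
theorem TP.central (T : TP r s n m G) {l : ℕ} (hl : l.Prime) (hlr : l ≠ r) (hls : l ≠ s) {u : G}
    (hu : IsQ l u) : u ∈ center G := by
  haveI := Fact.mk hl
  have hnd : ∀ g : G, ¬ l ∣ (C[g]).index := fun g h => by
    rcases hl.dvd_mul.mp (h.trans (T.four.index_dvd_nm g)) with h' | h'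
    · exact T.not_dvd_n hl hlr h'
    · exact T.symm.not_dvd_n hl hls h'
  rw [← index_C_eq_one]
  by_contra hne
  obtain ⟨q, hq, hqd⟩ := Nat.exists_prime_and_dvd hne
  haveI := Fact.mk hq
  obtain ⟨P⟩ := (inferInstance : Nonempty (Sylow q G))
  have hql : q ≠ l := fun h => hnd u (h ▸ hqd)
  refine P.not_dvd_index (hqd.trans (index_dvd_of_le fun b hb => mem_C.mpr ?_))
  exact (commute_of_regular (fun b _ => hnd b) hu
    ((IsQ.of_mem P.2 hb).coprime_prime hq hl hql)).symm

theorem TP.index_ne_of_isQ (T : TP r s n m G) {l : ℕ} (hl : l.Prime) {u : G} (hu : IsQ l u)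
    (h : u ∉ center G) : l = r ∨ l = s := by
  by_contra hne
  push Not at hne
  exact h (T.central hl hne.1 hne.2 hu)

theorem TP.isSolvable (T : TP r s n m G) : Group.IsSolvable G := by
  rw [Group.isSolvable_iff_subgroup_quotient (center G)]
  refine ⟨Group.isSolvable_of_comm fun a b => Subtype.ext (mem_center_iff.mp b.2 a.1), ?_⟩
  set N := Nat.card (G ⧸ center G)
  refine S0144.result r s (N.factorization r) (N.factorization s) T.hr T.hs ?_
  refine Nat.dvd_antisymm ?_ ?_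
  · rw [Nat.dvd_iff_prime_pow_dvd_dvd]
    intro l k hl hlk
    rcases Nat.eq_zero_or_pos k with hk | hk
    · simp [hk]
    have hlN : l ∣ (center G).index := (dvd_pow_self l hk.ne').trans (index_eq_card (center G) ▸ hlk)
    haveI := Fact.mk hl
    have hnc : HasNC l G := by
      by_contra hno
      obtain ⟨P⟩ := (inferInstance : Nonempty (Sylow l G))
      refine P.not_dvd_index (hlN.trans (index_dvd_of_le fun u hu => ?_))
      by_contra huZ
      exact hno ⟨u, IsQ.of_mem P.2 hu, huZ⟩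
    obtain ⟨u, hu, huZ⟩ := hnc
    have hk' := (hl.pow_dvd_iff_le_factorization Nat.card_pos.ne').mp hlk
    rcases T.index_ne_of_isQ hl hu huZ with h | h <;> subst h
    · exact (pow_dvd_pow l hk').trans (dvd_mul_right _ _)
    · exact (pow_dvd_pow l hk').trans (dvd_mul_left _ _)
  · exact Nat.Coprime.mul_dvd_of_dvd_of_dvd (Nat.coprime_pow_primes _ _ T.hr T.hs T.hrs)
      (Nat.ordProj_dvd _ _) (Nat.ordProj_dvd _ _)

theorem isQ_of_mem_pCore {p : ℕ} {u : G} (h : u ∈ Cfsg.pCore p G) : IsQ p u :=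
  IsQ.of_mem Cores.pCore_isPGroup h

theorem TP.mem_pCore (T : TP r s n m G) {u : G} (hu : IsQ s u)
    (h1 : ∀ e ∈ Cfsg.pCore r G, Commute u e) (h2 : ∀ e ∈ Cfsg.pCore s G, Commute u e) :
    u ∈ Cfsg.pCore s G := by
  haveI := T.isSolvable
  haveI := Fact.mk T.hs
  have hF : u ∈ Cfsg.fittingSubgroup G := by
    refine Cores.centralizer_fittingSubgroup_le ?_
    rw [mem_centralizer_iff]
    have hle : Cfsg.fittingSubgroup G ≤ C[u] := by
      rw [Cores.iSup_pCore_eq_fittingSubgroup]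
      refine iSup_le fun l e he => ?_
      by_cases hlr : (l : ℕ) = r
      · exact mem_C.mpr (h1 e (hlr ▸ he)).symm
      by_cases hls : (l : ℕ) = s
      · exact mem_C.mpr (h2 e (hls ▸ he)).symm
      exact center_le_C u (T.central l.2 hlr hls (isQ_of_mem_pCore he))
    exact fun e he => mem_C.mp (hle he)
  have hzp : IsPGroup s (zpowers u) := by
    obtain ⟨j, hj⟩ := hu.orderOf_eq T.hs
    exact IsPGroup.of_card (n := j) (by rw [Nat.card_zpowers, hj])
  refine Cores.le_pCore_of_le_sup hzp ?_ (mem_zpowers u)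
  rw [zpowers_le]
  exact Cores.iSup_pCore_le_sup s (Cores.iSup_pCore_eq_fittingSubgroup (G := G) ▸ hF)

theorem commute_pCore_of_not_dvd {p : ℕ} [Fact p.Prime] {g : G} (h : ¬ p ∣ (C[g]).index)
    {e : G} (he : e ∈ Cfsg.pCore p G) : Commute g e := by
  obtain ⟨P, hP⟩ := ClassSizeNilpotent.exists_sylow_le_centralizer (p := p) h
  exact (mem_centralizer_iff.mp hP e (Cores.pCore_le_sylow P he)).symm

theorem mem_sylow_of_centralizes {p : ℕ} [Fact p.Prime] (P : Sylow p G) {g : G} (hg : IsQ p g)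
    (h : g ∈ centralizer ((P : Subgroup G) : Set G)) : g ∈ (P : Subgroup G) := by
  have hzp : IsPGroup p (zpowers g) := by
    obtain ⟨j, hj⟩ := hg.orderOf_eq (Fact.out : p.Prime)
    exact IsPGroup.of_card (n := j) (by rw [Nat.card_zpowers, hj])
  have hn : zpowers g ≤ normalizer ((P : Subgroup G) : Set G) :=
    (zpowers_le.mpr h).trans (centralizer_le_normalizer _)
  exact P.is_maximal' (IsPGroup.to_sup_of_normal_right' hzp P.2 hn) le_sup_right ▸
    mem_sup_left (mem_zpowers g)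

theorem index_C_conj (g x : G) : (C[g * x * g⁻¹]).index = (C[x]).index := by
  have : C[g * x * g⁻¹] = MulAut.conj g • C[x] := by
    ext h
    rw [mem_pointwise_smul_iff_inv_smul_mem, ← map_inv, MulAut.smul_def, MulAut.conj_apply,
      inv_inv, ← conj_mem_centralizer_iff (v := g) (g := g⁻¹ * h * g)]
    simp [mul_assoc]
  rw [this, index_conj_smul]

/-- A conjugate of `x` is centralized by a given Sylow subgroup. -/
theorem exists_conj_centralizes {p : ℕ} [Fact p.Prime] {x : G} (h : ¬ p ∣ (C[x]).index)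
    (P : Sylow p G) : ∃ g : G, g * x * g⁻¹ ∈ centralizer ((P : Subgroup G) : Set G) := by
  obtain ⟨P0, hP0⟩ := ClassSizeNilpotent.exists_sylow_le_centralizer (p := p) h
  obtain ⟨g, hg⟩ := MulAction.exists_smul_eq G P0 P
  refine ⟨g, mem_centralizer_iff.mpr fun y hy => ?_⟩
  rw [SetLike.mem_coe, ← hg, Sylow.smul_def, Sylow.pointwise_smul_def,
    mem_pointwise_smul_iff_inv_smul_mem, ← map_inv, MulAut.smul_def, MulAut.conj_apply,
    inv_inv] at hy
  have hc := mem_centralizer_iff.mp hP0 _ hy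
  calc y * (g * x * g⁻¹) = g * ((g⁻¹ * y * g) * x) * g⁻¹ := by group
    _ = g * (x * (g⁻¹ * y * g)) * g⁻¹ := by rw [hc]
    _ = g * x * g⁻¹ * y := by group

/-- The `s`-elements of the centralizer of an `s`-element of index `m` commute with the
`s`-regular ones. -/
theorem TP.good_commute (T : TP r s n m G) {y : G} (hy : IsQ s y) (hym : (C[y]).index = m)
    {u b : G} (hu : u ∈ C[y]) (hb : b ∈ C[y]) (huq : IsQ s u) (hbs : (orderOf b).Coprime s) :
    Commute u b := by
  haveI := Fact.mk T.hs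
  have hreg : ∀ c : C[y], (orderOf c).Coprime s → ¬ s ∣ (centralizer ({c} : Set C[y])).index := by
    intro c hc
    rw [index_C_subtype]
    obtain ⟨j, hj⟩ := hy.orderOf_eq T.hs
    have h1 := index_mul (x := y) (b := (c : G)) (mem_C.mp c.2).symm (by
      rw [hj, Subgroup.orderOf_coe]; exact (hc.pow_right j).symm)
    rw [hym] at h1
    rcases (T.four.symm.cases_of_dvd (g := y * c) (h1 ▸ dvd_mul_left _ _)).2 with h | h
    · rw [h] at h1
      rw [(Nat.mul_eq_right (by have := T.four.hm; omega)).mp h1.symm]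
      exact fun h' => T.hs.ne_one (Nat.dvd_one.mp h')
    · rw [h, mul_comm m n] at h1
      rw [← Nat.eq_of_mul_eq_mul_right (by have := T.four.hm; omega) h1]
      exact T.not_dvd_n T.hs T.hrs.symm
  obtain ⟨k, hk⟩ := huq
  have hc := commute_of_regular (G := C[y]) hreg (u := ⟨u, hu⟩) (b := ⟨b, hb⟩)
    ⟨k, Subtype.ext hk⟩ (by rwa [Subgroup.orderOf_mk])
  exact congrArg Subtype.val hc.eq

theorem TP.no_bad_of_good (T : TP r s n m G) {y : G} (hy : IsQ s y) (hym : (C[y]).index = m)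
    {x : G} (hx : IsQ s x) : (C[x]).index ≠ n := by
  intro hxn
  haveI := Fact.mk T.hr
  haveI := Fact.mk T.hs
  obtain ⟨P1, hP1⟩ := ClassSizeNilpotent.exists_sylow_le_centralizer (p := s) (g := x)
    (show ¬ s ∣ (C[x]).index from hxn ▸ T.not_dvd_n T.hs T.hrs.symm)
  have hzp : IsPGroup s (zpowers y) := by
    obtain ⟨j, hj⟩ := hy.orderOf_eq T.hs
    exact IsPGroup.of_card (n := j) (by rw [Nat.card_zpowers, hj])
  obtain ⟨P2, hP2⟩ := hzp.exists_le_sylow
  obtain ⟨g, hg⟩ := MulAction.exists_smul_eq G P2 P1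
  have hy'P : g * y * g⁻¹ ∈ (P1 : Subgroup G) := by
    rw [← hg, Sylow.smul_def, Sylow.pointwise_smul_def, mem_pointwise_smul_iff_inv_smul_mem,
      ← map_inv, MulAut.smul_def, MulAut.conj_apply, inv_inv]
    simpa [mul_assoc] using hP2 (mem_zpowers y)
  have hy'm : (C[g * y * g⁻¹]).index = m := (index_C_conj g y).trans hym
  have hxy : x ∈ C[g * y * g⁻¹] := mem_C.mpr (mem_centralizer_iff.mp hP1 _ hy'P).symm
  obtain ⟨R, hR⟩ := ClassSizeNilpotent.exists_sylow_le_centralizer (p := r) (g := g * y * g⁻¹)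
    (show ¬ r ∣ (C[g * y * g⁻¹]).index from hy'm ▸ T.symm.not_dvd_n T.hr T.hrs)
  refine R.not_dvd_index ((hxn ▸ T.dvd_n : r ∣ (C[x]).index).trans
    (index_dvd_of_le fun e he => mem_C.mpr ?_))
  exact (T.good_commute (hy.conj g) hy'm hxy (mem_C.mpr (mem_centralizer_iff.mp hR e he)) hx
    ((IsQ.of_mem R.2 he).coprime_prime T.hr T.hs T.hrs)).symm

theorem TP.exists_primary (T : TP r s n m G) :
    ∃ x : G, (IsQ r x ∨ IsQ s x) ∧ (C[x]).index = n := by
  obtain ⟨l, hl, x, hx, hxn⟩ := T.four.exists_primary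
  rcases T.index_ne_of_isQ hl.out hx (T.four.not_center_n hxn) with h | h <;> subst h
  · exact ⟨x, Or.inl hx, hxn⟩
  · exact ⟨x, Or.inr hx, hxn⟩

theorem TP.good_centralizes (T : TP r s n m G) {y : G} (hy : IsQ s y) (hym : (C[y]).index = m)
    {h : G} (hh : IsQ r h) : ∀ e ∈ Cfsg.pCore s G, Commute h e := by
  haveI := Fact.mk T.hr
  haveI := Fact.mk T.hs
  have hzp : IsPGroup r (zpowers h) := by
    obtain ⟨j, hj⟩ := hh.orderOf_eq T.hr
    exact IsPGroup.of_card (n := j) (by rw [Nat.card_zpowers, hj])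
  obtain ⟨P, hP⟩ := hzp.exists_le_sylow
  obtain ⟨g, hg⟩ := exists_conj_centralizes (x := y)
    (hym ▸ T.symm.not_dvd_n T.hr T.hrs : ¬ r ∣ (C[y]).index) P
  set y' := g * y * g⁻¹
  have hy' : IsQ s y' := hy.conj g
  have hy'm : (C[y']).index = m := (index_C_conj g y).trans hym
  have hc : Commute h y' := mem_centralizer_iff.mp hg h (hP (mem_zpowers h))
  have hyp : IsPGroup s (zpowers y') := by
    obtain ⟨j, hj⟩ := hy'.orderOf_eq T.hs
    exact IsPGroup.of_card (n := j) (by rw [Nat.card_zpowers, hj])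
  have hax := Coprime.thompson_AxB (P := zpowers y') (Q := zpowers h) hyp
    (by rw [Nat.card_zpowers]; exact hh.coprime_prime T.hr T.hs T.hrs) ?_
    (Cfsg.pCore s G) Cores.pCore_isPGroup (normalizer_eq_top (Cfsg.pCore s G) ▸ le_top)
    (normalizer_eq_top (Cfsg.pCore s G) ▸ le_top) ?_
  · intro e he
    exact (mem_centralizer_iff.mp (hax (mem_zpowers h)) e he).symm
  · rw [zpowers_le, mem_centralizer_iff]
    rintro _ ⟨i, rfl⟩
    exact (hc.zpow_left i).eq
  · rintro u ⟨hu, huy⟩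
    rw [mem_centralizer_iff]
    rintro _ ⟨i, rfl⟩
    have huC : u ∈ C[y'] := mem_C.mpr (mem_centralizer_iff.mp huy y' (mem_zpowers y')).symm
    exact ((T.good_commute hy' hy'm huC (mem_C.mpr hc) (isQ_of_mem_pCore hu)
      (hh.coprime_prime T.hr T.hs T.hrs)).symm.zpow_left i).eq

theorem TP.mem_fitting_of_good (T : TP r s n m G) {y : G} (hy : IsQ s y) (hym : (C[y]).index = m)
    {x : G} (hx : IsQ r x) (hxn : (C[x]).index = n) {h : G} (hh : IsQ r h) :
    h ∈ Cfsg.fittingSubgroup G := by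
  haveI := Fact.mk T.hr
  haveI := Fact.mk T.hs
  set K := centralizer ((Cfsg.pCore s G : Subgroup G) : Set G)
  have hrK : ∀ h : G, IsQ r h → h ∈ K := fun h hh => mem_centralizer_iff.mpr fun e he =>
    (T.good_centralizes hy hym hh e he).symm
  have hsK : ∀ u ∈ K, IsQ s u → ∀ k ∈ K, Commute u k := by
    intro u hu huq k hk
    have := T.mem_pCore huq (fun e he => T.symm.good_centralizes hx hxn huq e he)
      (fun e he => (mem_centralizer_iff.mp hu e he).symm)
    exact mem_centralizer_iff.mp hk u this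
  have hnil : Group.IsNilpotent K := by
    refine Group.of_quotient_center_nilpotent ?_
    refine IsPGroup.isNilpotent (p := r) fun c => ?_
    induction c using QuotientGroup.induction_on with
    | H k =>
      obtain ⟨u, b, ⟨i, hi⟩, hb, hub, -, hbz⟩ := exists_decomp T.hr k
      refine ⟨i, ?_⟩
      have hbc : b ∈ center K := by
        refine mem_of_primary fun l hl v hv hvq => ?_
        rw [mem_center_iff]
        intro g
        have hvG : IsQ l (v : G) := by
          obtain ⟨j, hj⟩ := hvq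
          exact ⟨j, by rw [← Subgroup.coe_pow, hj, Subgroup.coe_one]⟩
        by_cases hlr : l = r
        · obtain ⟨j, hj⟩ := hvq.orderOf_eq hl
          have hd : orderOf v ∣ orderOf b := by
            obtain ⟨i, rfl⟩ := mem_zpowers_iff.mp hv
            exact orderOf_dvd_of_mem_zpowers (zpow_mem (mem_zpowers b) i)
          have h1 := hb.coprime_dvd_left hd
          rw [hj, hlr] at h1
          have : v = 1 := orderOf_eq_one_iff.mp (by
            rw [hj, hlr]
            rcases Nat.eq_zero_or_pos j with h0 | h0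
            · rw [h0, pow_zero]
            · exact absurd (Nat.dvd_one.mp
                (h1 ▸ Nat.dvd_gcd (dvd_pow_self r h0.ne') dvd_rfl)) T.hr.ne_one)
          rw [this]; simp
        by_cases hls : l = s
        · exact Subtype.ext (hsK v v.2 (hls ▸ hvG) g g.2).symm.eq
        exact Subtype.ext (mem_center_iff.mp (T.central hl hlr hls hvG) g)
      rw [← QuotientGroup.mk_pow, QuotientGroup.eq_one_iff, ← hub]
      have hcomm : Commute u b := (mem_center_iff.mp hbc u)
      rw [hcomm.mul_pow, hi, one_mul]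
      exact pow_mem hbc _
  exact Cores.le_fittingSubgroup (N := K) hnil (hrK h hh)

theorem TP.nilpotent_of_good (T : TP r s n m G) {y : G} (hy : IsQ s y)
    (hym : (C[y]).index = m) : Group.IsNilpotent G := by
  obtain ⟨x, hx, hxn⟩ := T.exists_primary
  have hxr : IsQ r x := hx.resolve_right fun h => T.no_bad_of_good hy hym h hxn
  rw [← Cores.fittingSubgroup_eq_top_iff, eq_top_iff]
  refine le_of_primary fun l hl u _ hu => ?_
  by_cases hlr : l = r
  · subst hlr; exact T.mem_fitting_of_good hy hym hxr hxn hu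
  by_cases hls : l = s
  · subst hls; exact T.symm.mem_fitting_of_good hxr hxn hy hym hu
  refine Cores.le_fittingSubgroup (N := center G) ?_ (T.central hl hlr hls hu)
  open scoped IsMulCommutative in infer_instance

/-! ### The remaining configuration, which does not occur -/

/-- All primary elements of class size `n` are `s`-elements and conversely. -/
def TP.Bad (_T : TP r s n m G) : Prop :=
  (∀ u : G, IsQ s u → (centralizer ({u} : Set G)).index ≠ m) ∧
    ∀ u : G, IsQ r u → (centralizer ({u} : Set G)).index ≠ n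

theorem TP.bad_symm {T : TP r s n m G} (h : T.Bad) : T.symm.Bad := ⟨h.2, h.1⟩

/-- There is an element of index `n` in `O_s(G)`. -/
def TP.HasX (_T : TP r s n m G) : Prop :=
  ∃ x ∈ Cfsg.pCore s G, (centralizer ({x} : Set G)).index = n

theorem lp_le_of_forall {p : ℕ} [Fact p.Prime] {K W : Subgroup G}
    (h : ∀ u ∈ K, IsQ p u → u ∈ W) : lp p K ≤ Nat.card W := by
  obtain ⟨P⟩ := (inferInstance : Nonempty (Sylow p K))
  rw [lp, ← P.card_eq_multiplicity, ← card_map_of_injective (subtype_injective K)]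
  refine card_le_of_le ?_
  rintro u ⟨u', hu', rfl⟩
  exact h _ u'.2 (IsQ.of_mem (P.2.map K.subtype) (mem_map_of_mem K.subtype hu'))

theorem card_le_lp {p : ℕ} [Fact p.Prime] {K W : Subgroup G} (hW : IsPGroup p W) (hle : W ≤ K) :
    Nat.card W ≤ lp p K := by
  obtain ⟨j, hj⟩ := IsPGroup.iff_card.mp hW
  rw [hj]
  exact Nat.pow_le_pow_right (Fact.out : p.Prime).pos
    (((Fact.out : p.Prime).pow_dvd_iff_le_factorization Nat.card_pos.ne').mp
      (hj ▸ card_dvd_of_le hle))

theorem TP.lp_r (T : TP r s n m G) {K : Subgroup G} (hK : K.index = n ∨ K.index = n * m) :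
    lp r K * n = r ^ (Nat.card G).factorization r := by
  rw [← lp_mul T.hr K]
  rcases hK with h | h <;> rw [h]
  · rw [T.factor_n.1]
  · rw [T.factor_n.2]

theorem TP.card_inf_sylow (T : TP r s n m G) [Fact r.Prime] (R : Sylow r G) {K : Subgroup G}
    (hK : K.index = n ∨ K.index = n * m) (hrel : K.relIndex (R : Subgroup G) ≤ n) :
    Nat.card ((R : Subgroup G) ⊓ K : Subgroup G) * n = Nat.card (R : Subgroup G) := by
  refine le_antisymm ?_ ?_
  · rw [R.card_eq_multiplicity, ← T.lp_r hK]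
    exact Nat.mul_le_mul_right _ (card_le_lp (R.2.to_le inf_le_left) inf_le_right)
  · have h1 := relIndex_mul_relIndex ⊥ (K ⊓ (R : Subgroup G)) (R : Subgroup G) bot_le inf_le_right
    rw [relIndex_bot_left, relIndex_bot_left, inf_relIndex_right] at h1
    rw [← h1, inf_comm]
    exact Nat.mul_le_mul_left _ hrel

/-- A central element of a subgroup with equal stabilisers that fixes a non-central element of an
abelian normal `s`-subgroup fixes that subgroup. -/
theorem commute_of_equal_stab {s r : ℕ} (hs : s.Prime) (hr : r.Prime) (hsr : s ≠ r)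
    {V : Subgroup G} [hVn : V.Normal] (hV : IsPGroup s V) (hab : ∀ a ∈ V, ∀ b ∈ V, Commute a b)
    {R : Subgroup G} {z : G} (hz : IsQ r z) (hzR : z ∈ R) (hzc : ∀ ρ ∈ R, Commute ρ z)
    (hN : ∀ v ∈ V, v ∉ center G → ∀ v' ∈ V, v' ∉ center G →
      Nat.card (R ⊓ C[v] : Subgroup G) = Nat.card (R ⊓ C[v'] : Subgroup G))
    {w : G} (hw : w ∈ V) (hwZ : w ∉ center G) (hzw : Commute z w) :
    ∀ v ∈ V, Commute z v := by
  intro v0 hv0
  by_contra hne
  set δ : G → G := fun v => z * v * z⁻¹ * v⁻¹ with hδ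
  have hδV : ∀ v ∈ V, δ v ∈ V := fun v hv => mul_mem (hVn.conj_mem v hv z) (inv_mem hv)
  have hδmul : ∀ a ∈ V, ∀ b ∈ V, δ (a * b) = δ a * δ b := by
    intro a ha b hb
    have h1 : Commute a⁻¹ (z * b * z⁻¹ * b⁻¹) := (hab a ha _ (hδV b hb)).inv_left
    calc δ (a * b) = z * a * z⁻¹ * ((z * b * z⁻¹ * b⁻¹) * a⁻¹) := by simp only [hδ]; group
      _ = z * a * z⁻¹ * (a⁻¹ * (z * b * z⁻¹ * b⁻¹)) := by rw [h1.eq]
      _ = δ a * δ b := by simp only [hδ]; group
  have hδone : ∀ {v : G}, δ v = 1 ↔ Commute z v := by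
    intro v
    change z * v * z⁻¹ * v⁻¹ = 1 ↔ _
    rw [mul_inv_eq_one, mul_inv_eq_iff_eq_mul]
    rfl
  have hδc : ∀ ρ ∈ R, ∀ v : G, ρ * δ v * ρ⁻¹ = δ (ρ * v * ρ⁻¹) := by
    intro ρ hρ v
    have h1 : ρ * z * ρ⁻¹ = z := by rw [(hzc ρ hρ).eq, mul_inv_cancel_right]
    simp only [hδ]
    calc ρ * (z * v * z⁻¹ * v⁻¹) * ρ⁻¹
        = (ρ * z * ρ⁻¹) * (ρ * v * ρ⁻¹) * (ρ * z * ρ⁻¹)⁻¹ * (ρ * v * ρ⁻¹)⁻¹ := by group
      _ = z * (ρ * v * ρ⁻¹) * z⁻¹ * (ρ * v * ρ⁻¹)⁻¹ := by rw [h1]
  have hker : ∀ v ∈ V, Commute z (δ v) → δ v = 1 := by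
    intro v hv hc
    have hpow : ∀ k : ℕ, z ^ k * v * (z ^ k)⁻¹ = δ v ^ k * v := by
      intro k
      induction k with
      | zero => simp
      | succ k ih =>
        calc z ^ (k + 1) * v * (z ^ (k + 1))⁻¹ = z * (z ^ k * v * (z ^ k)⁻¹) * z⁻¹ := by
              simp only [pow_succ', mul_inv_rev, mul_assoc]
          _ = z * δ v ^ k * (v * z⁻¹) := by rw [ih]; simp only [mul_assoc]
          _ = δ v ^ k * (z * v * z⁻¹) := by rw [(hc.pow_right k).eq]; simp only [mul_assoc]
          _ = δ v ^ (k + 1) * v := by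
              rw [pow_succ]; simp only [hδ]; group
    obtain ⟨i, hi⟩ := hz
    have h1 := hpow (r ^ i)
    rw [hi, one_mul, inv_one, mul_one, eq_comm, mul_eq_right] at h1
    exact (IsQ.of_mem hV (hδV v hv)).eq_one hs hr hsr h1
  set e := δ v0 with he
  have heV : e ∈ V := hδV v0 hv0
  have he1 : ¬ Commute z e := fun h => hne (hδone.mp (hker v0 hv0 h))
  have heZ : e ∉ center G := fun h => he1 (mem_center_iff.mp h z)
  have hw1 : δ w = 1 := hδone.mpr hzw
  have hew : δ (e * w) = δ e := by rw [hδmul e heV w hw, hw1, mul_one]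
  have hewZ : e * w ∉ center G := fun h => he1 (hδone.mp (hew ▸ hδone.mpr (mem_center_iff.mp h z)))
  have hsub : R ⊓ C[e * w] ≤ R ⊓ C[e] := by
    intro ρ hρ
    obtain ⟨hρR, hρC⟩ := mem_inf.mp hρ
    refine mem_inf.mpr ⟨hρR, mem_C.mpr ?_⟩
    have h1 : ρ * (e * w) * ρ⁻¹ = e * w := by rw [(mem_C.mp hρC).eq, mul_inv_cancel_right]
    have h2 : δ (ρ * e * ρ⁻¹) = δ e := by rw [← hδc ρ hρR, ← hew, hδc ρ hρR, h1]
    set v1 := ρ * v0 * ρ⁻¹ * v0⁻¹
    have hv1 : v1 ∈ V := mul_mem (hVn.conj_mem v0 hv0 ρ) (inv_mem hv0)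
    have hv0' : ρ * v0 * ρ⁻¹ = v1 * v0 := by simp [v1]
    have hδ1 : ρ * e * ρ⁻¹ = δ v1 * e := by rw [he, hδc ρ hρR, hv0', hδmul v1 hv1 v0 hv0]
    have h3 : δ (δ v1) = 1 := by
      rw [hδ1, hδmul _ (hδV v1 hv1) e heV] at h2
      exact mul_eq_right.mp h2
    rw [hker v1 hv1 (hδone.mp h3), one_mul, mul_inv_eq_iff_eq_mul] at hδ1
    exact hδ1
  have heq : R ⊓ C[e * w] = R ⊓ C[e] :=
    eq_of_le_of_card_ge hsub (hN _ (mul_mem heV hw) hewZ e heV heZ).ge
  have hle : R ⊓ C[e] ≤ R ⊓ C[w] := by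
    intro ρ hρ
    obtain ⟨hρR, hρC⟩ := mem_inf.mp hρ
    refine mem_inf.mpr ⟨hρR, mem_C.mpr ?_⟩
    have h1 : Commute ρ (e * w) := mem_C.mp (mem_inf.mp (heq ▸ hρ)).2
    have h2 := ((mem_C.mp hρC).inv_right).mul_right h1
    rwa [inv_mul_cancel_left] at h2
  have heq2 := eq_of_le_of_card_ge hle (hN w hw hwZ e heV heZ).le
  exact he1 (mem_C.mp (mem_inf.mp
    (heq2.symm ▸ mem_inf.mpr ⟨hzR, mem_C.mpr hzw⟩ : z ∈ R ⊓ C[e])).2)

variable {T : TP r s n m G}

theorem TP.commute_pCore_r (hT : T.Bad) (hX : ¬ T.HasX) {h : G} (hh : IsQ r h) :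
    ∀ e ∈ Cfsg.pCore r G, Commute h e := by
  haveI := Fact.mk T.hr
  haveI := Fact.mk T.hs
  rcases T.four.idx h with hi | hi | hi | hi
  · exact fun e _ => (mem_center_iff.mp hi e).symm
  · exact absurd hi (hT.2 h hh)
  · exact fun e he => commute_pCore_of_not_dvd (hi ▸ T.symm.not_dvd_n T.hr T.hrs) he
  obtain ⟨y, hy⟩ := T.four.exm
  obtain ⟨v, hv, hvq, hvZ⟩ := T.four.symm.link hy (r := s) T.symm.dvd_n
  have h1 := lt_of_nc (center_le_C y) hv hvq hvZ
  have hlp : lp s C[y] = lp s C[h] := by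
    refine Nat.eq_of_mul_eq_mul_right (pow_pos T.hs.pos (m.factorization s))
      (((hy ▸ lp_mul T.hs C[y]).trans (hi ▸ lp_mul T.hs C[h]).symm).trans ?_)
    congr 2
    rw [Nat.factorization_mul (by have := T.four.hn; omega) (by have := T.four.hm; omega),
      Finsupp.add_apply, Nat.factorization_eq_zero_of_not_dvd (T.not_dvd_n T.hs T.hrs.symm),
      zero_add]
  obtain ⟨u, hu, huq, huZ⟩ := exists_nc_of_lt (hlp ▸ h1)
  have hhu : Commute h u := (mem_C.mp hu).symm
  have hco := hh.coprime T.hr T.hs T.hrs huq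
  have hle : C[h] ≤ C[u] := by
    have h2 : C[h * u] = C[h] := eq_of_index_eq (C_mul_eq hhu hco ▸ inf_le_left) (by
      refine Nat.dvd_antisymm (hi.symm ▸ T.four.index_dvd_nm _) ?_
      exact index_dvd_of_le (C_mul_eq hhu hco ▸ inf_le_left))
    exact h2 ▸ C_mul_eq hhu hco ▸ inf_le_right
  have hcent : ∀ e ∈ Cfsg.pCore r G, Commute u e := by
    have hhp : IsPGroup r (zpowers h) := by
      obtain ⟨j, hj⟩ := hh.orderOf_eq T.hr
      exact IsPGroup.of_card (n := j) (by rw [Nat.card_zpowers, hj])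
    have hax := Coprime.thompson_AxB (P := zpowers h) (Q := zpowers u) hhp
      (by rw [Nat.card_zpowers]; exact huq.coprime_prime T.hs T.hr T.hrs.symm) ?_
      (Cfsg.pCore r G) Cores.pCore_isPGroup (normalizer_eq_top (Cfsg.pCore r G) ▸ le_top)
      (normalizer_eq_top (Cfsg.pCore r G) ▸ le_top) ?_
    · exact fun e he => (mem_centralizer_iff.mp (hax (mem_zpowers u)) e he).symm
    · rw [zpowers_le, mem_centralizer_iff]
      rintro _ ⟨i, rfl⟩
      exact (hhu.symm.zpow_left i).eq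
    · rintro e ⟨-, he⟩
      rw [mem_centralizer_iff]
      rintro _ ⟨i, rfl⟩
      have heh : e ∈ C[h] := mem_C.mpr (mem_centralizer_iff.mp he h (mem_zpowers h)).symm
      exact ((mem_C.mp (hle heh)).symm.zpow_left i).eq
  rcases T.four.idx u with hiu | hiu | hiu | hiu
  · exact absurd hiu huZ
  · refine absurd ⟨u, T.mem_pCore huq hcent (fun e he => commute_pCore_of_not_dvd
      (hiu ▸ T.not_dvd_n T.hs T.hrs.symm) he), hiu⟩ hX
  · exact absurd hiu (hT.1 u huq)
  · intro e he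
    have heq := eq_of_index_eq hle (hi.trans hiu.symm)
    have : e ∈ C[u] := mem_C.mpr (hcent e he).symm
    exact (mem_C.mp (heq.symm ▸ this : e ∈ C[h])).symm

theorem TP.pCore_abelian_of_not_hasX (hT : T.Bad) (hX : ¬ T.HasX) :
    ∀ a ∈ Cfsg.pCore r G, ∀ b ∈ Cfsg.pCore r G, Commute a b :=
  fun a ha b hb => TP.commute_pCore_r hT hX (isQ_of_mem_pCore ha) b hb

theorem TP.not_both_lacking (hT : T.Bad) (hX : ¬ T.HasX) (hY : ¬ T.symm.HasX) : False := by
  haveI := Fact.mk T.hr
  haveI := Fact.mk T.hs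
  haveI := T.isSolvable
  have key : ∀ {r s n m : ℕ} {T : TP r s n m G}, T.Bad → ¬ T.HasX → ¬ T.symm.HasX →
      Cfsg.pCore r G ≤ center G := by
    intro r s n m T hT hX hY e he
    haveI := Fact.mk T.hr
    by_contra heZ
    have hnd : ¬ r ∣ (C[e]).index := by
      intro hd
      obtain ⟨P⟩ := (inferInstance : Nonempty (Sylow r G))
      refine P.not_dvd_index (hd.trans (index_dvd_of_le fun ρ hρ => mem_C.mpr ?_))
      exact TP.commute_pCore_r hT hX (IsQ.of_mem P.2 hρ) e he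
    rcases T.four.idx e with h | h | h | h
    · exact heZ h
    · exact hnd (h ▸ T.dvd_n)
    · exact hY ⟨e, he, h⟩
    · exact hnd (h ▸ T.dvd_n.mul_right m)
  have hFZ : Cfsg.fittingSubgroup G ≤ center G := by
    rw [Cores.iSup_pCore_eq_fittingSubgroup]
    refine iSup_le fun l e he => ?_
    by_cases hlr : (l : ℕ) = r
    · exact key hT hX hY (hlr ▸ he)
    by_cases hls : (l : ℕ) = s
    · exact key (TP.bad_symm hT) hY hX (hls ▸ he)
    exact T.central l.2 hlr hls (isQ_of_mem_pCore he)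
  obtain ⟨g, hg⟩ := T.four.exn
  refine T.four.not_center_n hg (hFZ (Cores.centralizer_fittingSubgroup_le ?_))
  exact mem_centralizer_iff.mpr fun e he => (mem_center_iff.mp (hFZ he) g).symm

theorem exists_conj_center_sylow {p : ℕ} [Fact p.Prime] {x : G} (hxq : IsQ p x)
    (h : ¬ p ∣ (C[x]).index) (P : Sylow p G) :
    ∃ g : G, g * x * g⁻¹ ∈ (P : Subgroup G) ∧ ∀ ρ ∈ (P : Subgroup G), Commute ρ (g * x * g⁻¹) := by
  obtain ⟨g, hg⟩ := exists_conj_centralizes h P
  exact ⟨g, mem_sylow_of_centralizes P (hxq.conj g) hg, fun ρ hρ => mem_centralizer_iff.mp hg ρ hρ⟩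

theorem TP.not_X_only (hT : T.Bad) (hX : T.HasX) (hY : ¬ T.symm.HasX) : False := by
  haveI := Fact.mk T.hr
  haveI := Fact.mk T.hs
  obtain ⟨x, hxV, hxn⟩ := hX
  have hxZ := T.four.not_center_n hxn
  have hxq : IsQ s x := isQ_of_mem_pCore hxV
  have hS : ∀ u : G, IsQ s u → ∀ e ∈ Cfsg.pCore s G, Commute u e :=
    fun u hu => TP.commute_pCore_r (TP.bad_symm hT) hY hu
  have hab : ∀ a ∈ Cfsg.pCore s G, ∀ b ∈ Cfsg.pCore s G, Commute a b :=
    fun a ha b hb => hS a (isQ_of_mem_pCore ha) b hb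
  have hidx : ∀ v ∈ Cfsg.pCore s G, v ∉ center G → (C[v]).index = n := by
    intro v hv hvZ
    refine T.four.eq_of_dvd hvZ ?_
    have hnd : ¬ s ∣ (C[v]).index := by
      intro hd
      obtain ⟨P⟩ := (inferInstance : Nonempty (Sylow s G))
      exact P.not_dvd_index (hd.trans (index_dvd_of_le fun u hu => mem_C.mpr
        (hS u (IsQ.of_mem P.2 hu) v hv)))
    obtain ⟨a, ha⟩ := T.hm
    refine Nat.Coprime.dvd_of_dvd_mul_right ?_ (T.four.index_dvd_nm v)
    rw [ha]
    exact ((T.hs.coprime_iff_not_dvd.mpr hnd).pow_left a).symm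
  have hstab : ∀ (R : Sylow r G), ∀ v ∈ Cfsg.pCore s G, v ∉ center G →
      ∀ v' ∈ Cfsg.pCore s G, v' ∉ center G →
      Nat.card ((R : Subgroup G) ⊓ C[v] : Subgroup G) =
        Nat.card ((R : Subgroup G) ⊓ C[v'] : Subgroup G) := by
    intro R v hv hvZ v' hv' hv'Z
    have h : ∀ v ∈ Cfsg.pCore s G, v ∉ center G →
        Nat.card ((R : Subgroup G) ⊓ C[v] : Subgroup G) * n = Nat.card (R : Subgroup G) := by
      intro v hv hvZ
      refine T.card_inf_sylow R (Or.inl (hidx v hv hvZ)) ?_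
      rw [← hidx v hv hvZ, ← relIndex_top_right]
      exact relIndex_le_of_le_right le_top
        (by rw [relIndex_top_right]; exact index_ne_zero_of_finite)
    exact Nat.eq_of_mul_eq_mul_right (by have := T.four.hn; omega)
      ((h v hv hvZ).trans (h v' hv' hv'Z).symm)
  have hfinal : ∀ z : G, IsQ r z → (C[z]).index = m → Commute z x → ∀ R : Sylow r G,
      z ∈ (R : Subgroup G) → (∀ ρ ∈ (R : Subgroup G), Commute ρ z) → False := by
    intro z hzq hzm hzx R hzR hzc
    refine hY ⟨z, ?_, hzm⟩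
    refine T.symm.mem_pCore hzq (fun e he => ?_) fun e he => commute_pCore_of_not_dvd
      (hzm ▸ T.symm.not_dvd_n T.hr T.hrs) he
    exact commute_of_equal_stab T.hs T.hr T.hrs.symm Cores.pCore_isPGroup hab hzq hzR hzc
      (hstab R) hxV hxZ hzx e he
  obtain ⟨t, htx, htq, htZ⟩ := T.four.link hxn T.dvd_n
  rcases T.four.idx t with h | h | h | h
  · exact htZ h
  · exact hT.2 t htq h
  · obtain ⟨R, hR⟩ := ClassSizeNilpotent.exists_sylow_le_centralizer (p := r) (g := t)
      (show ¬ r ∣ (C[t]).index from h ▸ T.symm.not_dvd_n T.hr T.hrs)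
    exact hfinal t htq h (mem_C.mp htx) R (mem_sylow_of_centralizes R htq hR)
      fun ρ hρ => mem_centralizer_iff.mp hR ρ hρ
  · have hle : C[t] ≤ C[x] := by
      have hc : Commute t x := mem_C.mp htx
      have hco := htq.coprime T.hr T.hs T.hrs hxq
      have h2 : C[t * x] = C[t] := eq_of_index_eq (C_mul_eq hc hco ▸ inf_le_left) (by
        refine Nat.dvd_antisymm (h.symm ▸ T.four.index_dvd_nm _) ?_
        exact index_dvd_of_le (C_mul_eq hc hco ▸ inf_le_left))
      exact h2 ▸ C_mul_eq hc hco ▸ inf_le_right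
    have hzp : IsPGroup r (zpowers t) := by
      obtain ⟨j, hj⟩ := htq.orderOf_eq T.hr
      exact IsPGroup.of_card (n := j) (by rw [Nat.card_zpowers, hj])
    obtain ⟨R, hR⟩ := hzp.exists_le_sylow
    obtain ⟨y, hy, hym⟩ := T.symm.exists_primary
    have hyr : IsQ r y := hy.resolve_left fun h' => hT.1 y h' hym
    obtain ⟨g, hgR, hgc⟩ := exists_conj_center_sylow hyr
      (hym ▸ T.symm.not_dvd_n T.hr T.hrs : ¬ r ∣ (C[y]).index) R
    have hyt : g * y * g⁻¹ ∈ C[t] := mem_C.mpr (hgc t (hR (mem_zpowers t))).symm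
    exact hfinal _ (hyr.conj g) ((index_C_conj g y).trans hym) (mem_C.mp (hle hyt)) R hgR hgc

/-- An `r`-subgroup centralizing an `s`-element of index `n` is abelian. -/
theorem TP.abelian_rgroup (T : TP r s n m G) {x : G} (hx : IsQ s x) (hxn : (C[x]).index = n)
    {L : Subgroup G} (hL : IsPGroup r L) (hLx : L ≤ C[x]) : ∀ a ∈ L, ∀ b ∈ L, Commute a b := by
  haveI := Fact.mk T.hr
  have hreg : RegularClassesPPower s C[x] := by
    intro c hc
    rw [index_C_subtype]
    obtain ⟨j, hj⟩ := hx.orderOf_eq T.hs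
    have h1 := index_mul (x := x) (b := (c : G)) (mem_C.mp c.2).symm (by
      rw [hj, Subgroup.orderOf_coe]; exact (hc.pow_right j).symm)
    rw [hxn] at h1
    obtain ⟨a, ha⟩ := T.hm
    rcases (T.four.cases_of_dvd (g := x * c) (h1 ▸ dvd_mul_left _ _)).2 with h | h
    · rw [h] at h1
      exact ⟨0, by rw [pow_zero]; exact (Nat.mul_eq_right (by have := T.four.hn; omega)).mp h1.symm⟩
    · rw [h, mul_comm n m] at h1
      exact ⟨a, ha ▸ (Nat.eq_of_mul_eq_mul_right (by have := T.four.hn; omega) h1).symm⟩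
  obtain ⟨H0, hH0, -, k, hk⟩ := exists_abelian_complement T.hs hreg
  obtain ⟨P0⟩ := (inferInstance : Nonempty (Sylow r H0))
  obtain ⟨P, hP⟩ := (P0.isPGroup'.map H0.subtype).exists_le_sylow
  have hv : (P0 : Subgroup H0).map H0.subtype = (P : Subgroup C[x]) := by
    apply eq_of_le_of_card_ge hP
    rw [Sylow.card_eq_multiplicity, card_map_of_injective (subtype_injective _),
      Sylow.card_eq_multiplicity, ← card_mul_index H0,
      Nat.factorization_mul Nat.card_pos.ne' index_ne_zero_of_finite, Finsupp.add_apply,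
      Nat.factorization_eq_zero_of_not_dvd (n := H0.index) (fun h => ?_), add_zero]
    rw [hk] at h
    exact T.hrs ((Nat.prime_dvd_prime_iff_eq T.hr T.hs).mp (T.hr.dvd_of_dvd_pow h))
  have hL' : IsPGroup r (L.subgroupOf C[x]) := hL.of_equiv (subgroupOfEquivOfLe hLx).symm
  obtain ⟨P', hP'⟩ := hL'.exists_le_sylow
  obtain ⟨g, hg⟩ := MulAction.exists_smul_eq C[x] P' P
  intro a ha b hb
  have hmem : ∀ {c : G} (hc : c ∈ L), g * ⟨c, hLx hc⟩ * g⁻¹ ∈ H0 := by
    intro c hc
    have h1 : (⟨c, hLx hc⟩ : C[x]) ∈ (P' : Subgroup C[x]) := hP' hc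
    have h2 : g * ⟨c, hLx hc⟩ * g⁻¹ ∈ (P : Subgroup C[x]) := by
      rw [← hg, Sylow.smul_def, Sylow.pointwise_smul_def, mem_pointwise_smul_iff_inv_smul_mem,
        ← map_inv, MulAut.smul_def, MulAut.conj_apply, inv_inv]
      simpa [mul_assoc] using h1
    rw [← hv] at h2
    obtain ⟨d, -, hd⟩ := h2
    exact hd ▸ d.2
  have h3 : g * ⟨a, hLx ha⟩ * g⁻¹ * (g * ⟨b, hLx hb⟩ * g⁻¹) =
      g * ⟨b, hLx hb⟩ * g⁻¹ * (g * ⟨a, hLx ha⟩ * g⁻¹) :=
    congrArg Subtype.val (hH0.is_comm.comm ⟨_, hmem ha⟩ ⟨_, hmem hb⟩)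
  have h4 : (⟨a, hLx ha⟩ * ⟨b, hLx hb⟩ : C[x]) = ⟨b, hLx hb⟩ * ⟨a, hLx ha⟩ := by
    refine (MulAut.conj g).injective ?_
    simp only [map_mul, MulAut.conj_apply]
    exact h3
  exact congrArg Subtype.val h4

theorem commute_pCores {p q : ℕ} (hp : p.Prime) (hq : q.Prime) (hpq : p ≠ q) {a b : G}
    (ha : a ∈ Cfsg.pCore p G) (hb : b ∈ Cfsg.pCore q G) : Commute a b := by
  haveI := Fact.mk hp
  haveI := Fact.mk hq
  refine commute_of_normal_of_disjoint _ _ inferInstance inferInstance ?_ a b ha hb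
  exact disjoint_iff.mpr (inf_bot_of_coprime (IsPGroup.coprime_card_of_ne p q hpq _ _
    Cores.pCore_isPGroup Cores.pCore_isPGroup))

/-- Data of the last case. -/
structure TP.Pair (T : TP r s n m G) (x y : G) : Prop where
  bad : T.Bad
  hx : x ∈ Cfsg.pCore s G
  hxn : (centralizer ({x} : Set G)).index = n
  hy : y ∈ Cfsg.pCore r G
  hym : (centralizer ({y} : Set G)).index = m

theorem TP.Pair.symm {x y : G} (P : T.Pair x y) : T.symm.Pair y x :=
  ⟨TP.bad_symm P.bad, P.hy, P.hym, P.hx, P.hxn⟩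

theorem TP.Pair.W_le {x y : G} (P : T.Pair x y) : Cfsg.pCore r G ≤ C[x] := fun _e he =>
  mem_C.mpr (commute_pCores T.hr T.hs T.hrs he P.hx)

theorem TP.Pair.W_abelian {x y : G} (P : T.Pair x y) :
    ∀ a ∈ Cfsg.pCore r G, ∀ b ∈ Cfsg.pCore r G, Commute a b :=
  T.abelian_rgroup (isQ_of_mem_pCore P.hx) P.hxn Cores.pCore_isPGroup P.W_le

theorem TP.Pair.index_mul_pair {x y : G} (P : T.Pair x y) {v w : G} (hv : v ∈ Cfsg.pCore s G)
    (hvZ : v ∉ center G) (hw : w ∈ Cfsg.pCore r G) (hwZ : w ∉ center G) :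
    (C[v] ⊓ C[w]).index = n * m := by
  have hc : Commute v w := commute_pCores T.hs T.hr T.hrs.symm hv hw
  have hvq : IsQ s v := isQ_of_mem_pCore hv
  have hwq : IsQ r w := isQ_of_mem_pCore hw
  rw [← C_mul_eq hc (hvq.coprime T.hs T.hr T.hrs.symm hwq)]
  have h1 : (C[v]).index ∣ (C[v * w]).index := index_dvd_of_le
    (C_mul_eq hc (hvq.coprime T.hs T.hr T.hrs.symm hwq) ▸ inf_le_left)
  have h2 : (C[w]).index ∣ (C[v * w]).index := index_dvd_of_le
    (C_mul_eq hc (hvq.coprime T.hs T.hr T.hrs.symm hwq) ▸ inf_le_right)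
  have hn : n ∣ (C[v * w]).index := by
    rcases T.four.idx v with h | h | h | h
    · exact absurd h hvZ
    · exact h ▸ h1
    · exact absurd h (P.bad.1 v hvq)
    · exact (dvd_mul_right n m).trans (h ▸ h1)
  have hm : m ∣ (C[v * w]).index := by
    rcases T.four.idx w with h | h | h | h
    · exact absurd h hwZ
    · exact absurd h (P.bad.2 w hwq)
    · exact h ▸ h2
    · exact (dvd_mul_left m n).trans (h ▸ h2)
  exact Nat.dvd_antisymm (T.four.index_dvd_nm _) (T.four.cop.mul_dvd_of_dvd_of_dvd hn hm)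

theorem TP.Pair.stab {x y : G} (P : T.Pair x y) [Fact r.Prime] (R : Sylow r G)
    (hR : ∀ ρ ∈ (R : Subgroup G), Commute ρ y) {v : G} (hv : v ∈ Cfsg.pCore s G)
    (hvZ : v ∉ center G) :
    Nat.card ((R : Subgroup G) ⊓ C[v] : Subgroup G) * n = Nat.card (R : Subgroup G) := by
  have hyZ : y ∉ center G := T.symm.four.not_center_n P.hym
  have hidx := P.index_mul_pair hv hvZ P.hy hyZ
  have hRy : (R : Subgroup G) ≤ C[y] := fun ρ hρ => mem_C.mpr (hR ρ hρ)
  have heq : (R : Subgroup G) ⊓ C[v] = (R : Subgroup G) ⊓ (C[v] ⊓ C[y]) := by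
    rw [← inf_assoc, inf_eq_left.mpr (inf_le_left.trans hRy)]
  rw [heq]
  refine T.card_inf_sylow R (Or.inr hidx) ?_
  have h1 := relIndex_mul_index (inf_le_right : C[v] ⊓ C[y] ≤ C[y])
  rw [P.hym, hidx] at h1
  rw [← Nat.eq_of_mul_eq_mul_right (by have := T.four.hm; omega) h1]
  exact relIndex_le_of_le_right hRy (Nat.pos_iff_ne_zero.mp (by
    rw [Nat.eq_of_mul_eq_mul_right (by have := T.four.hm; omega) h1]; have := T.four.hn; omega))

theorem TP.Pair.mem_W {x y : G} (P : T.Pair x y) {z : G} (hz : IsQ r z) (hzx : z ∈ C[x])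
    (hzy : z ∈ C[y]) : z ∈ Cfsg.pCore r G := by
  haveI := Fact.mk T.hr
  haveI := Fact.mk T.hs
  have hxq : IsQ s x := isQ_of_mem_pCore P.hx
  have hW : ∀ u : G, IsQ r u → u ∈ C[x] → ∀ e ∈ Cfsg.pCore r G, Commute u e := by
    intro u hu hux e he
    have hzp : IsPGroup r (zpowers u) := by
      obtain ⟨j, hj⟩ := hu.orderOf_eq T.hr
      exact IsPGroup.of_card (n := j) (by rw [Nat.card_zpowers, hj])
    exact T.abelian_rgroup hxq P.hxn
      (IsPGroup.to_sup_of_normal_right hzp Cores.pCore_isPGroup)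
      (sup_le (zpowers_le.mpr hux) P.W_le) u (mem_sup_left (mem_zpowers u)) e (mem_sup_right he)
  refine T.symm.mem_pCore hz ?_ (hW z hz hzx)
  by_cases hzZ : z ∈ center G
  · exact fun e _ => (mem_center_iff.mp hzZ e).symm
  rcases T.four.idx z with h | h | h | h
  · exact absurd h hzZ
  · exact absurd h (P.bad.2 z hz)
  · obtain ⟨R, hR⟩ := ClassSizeNilpotent.exists_sylow_le_centralizer (p := r) (g := z)
      (show ¬ r ∣ (C[z]).index from h ▸ T.symm.not_dvd_n T.hr T.hrs)
    obtain ⟨g, hg⟩ := exists_conj_centralizes (x := y)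
      (P.hym ▸ T.symm.not_dvd_n T.hr T.hrs : ¬ r ∣ (C[y]).index) R
    have P' : T.Pair x (g * y * g⁻¹) := ⟨P.bad, P.hx, P.hxn,
      (inferInstance : (Cfsg.pCore r G).Normal).conj_mem y P.hy g,
      (index_C_conj g y).trans P.hym⟩
    have hN : ∀ v ∈ Cfsg.pCore s G, v ∉ center G → ∀ v' ∈ Cfsg.pCore s G, v' ∉ center G →
        Nat.card ((R : Subgroup G) ⊓ C[v] : Subgroup G) =
          Nat.card ((R : Subgroup G) ⊓ C[v'] : Subgroup G) := by
      intro v hv hvZ v' hv' hv'Z
      have hc : ∀ ρ ∈ (R : Subgroup G), Commute ρ (g * y * g⁻¹) := fun ρ hρ =>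
        mem_centralizer_iff.mp hg ρ hρ
      exact Nat.eq_of_mul_eq_mul_right (by have := T.four.hn; omega)
        ((P'.stab R hc hv hvZ).trans (P'.stab R hc hv' hv'Z).symm)
    exact fun e he => commute_of_equal_stab T.hs T.hr T.hrs.symm Cores.pCore_isPGroup
      P.symm.W_abelian hz (mem_sylow_of_centralizes R hz hR)
      (fun ρ hρ => mem_centralizer_iff.mp hR ρ hρ) hN P.hx (T.four.not_center_n P.hxn)
      (mem_C.mp hzx) e he
  · -- the centralizer of `z` is that of `xy`
    have hc : Commute z x := mem_C.mp hzx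
    have hco := hz.coprime T.hr T.hs T.hrs hxq
    have hle : C[z] ≤ C[x] := by
      have h2 : C[z * x] = C[z] := eq_of_index_eq (C_mul_eq hc hco ▸ inf_le_left) (by
        refine Nat.dvd_antisymm (h.symm ▸ T.four.index_dvd_nm _) ?_
        exact index_dvd_of_le (C_mul_eq hc hco ▸ inf_le_left))
      exact h2 ▸ C_mul_eq hc hco ▸ inf_le_right
    have hley : C[z] ≤ C[y] := by
      refine le_of_primary fun l hl u hu huq => ?_
      by_cases huZ : u ∈ center G
      · exact center_le_C y huZ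
      rcases T.index_ne_of_isQ hl huq huZ with rfl | rfl
      · exact mem_C.mpr (hW u huq (hle hu) y P.hy)
      · have hcu : Commute z u := (mem_C.mp hu).symm
        have hcou := hz.coprime T.hr T.hs T.hrs huq
        have h2 : C[z * u] = C[z] := eq_of_index_eq (C_mul_eq hcu hcou ▸ inf_le_left) (by
          refine Nat.dvd_antisymm (h.symm ▸ T.four.index_dvd_nm _) ?_
          exact index_dvd_of_le (C_mul_eq hcu hcou ▸ inf_le_left))
        have h3 : C[z] ≤ C[u] := h2 ▸ C_mul_eq hcu hcou ▸ inf_le_right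
        exact mem_C.mpr (mem_C.mp (h3 (mem_C.mpr (mem_C.mp hzy).symm))).symm
    have heq : C[z] = C[x] ⊓ C[y] := eq_of_index_eq (le_inf hle hley) (h.trans
      (P.index_mul_pair P.hx (T.four.not_center_n P.hxn) P.hy
        (T.symm.four.not_center_n P.hym)).symm)
    intro e he
    have : e ∈ C[z] := by
      rw [heq]
      exact mem_inf.mpr ⟨mem_C.mpr (P.symm.W_abelian e he x P.hx),
        mem_C.mpr (commute_pCores T.hs T.hr T.hrs.symm he P.hy)⟩
    exact (mem_C.mp this).symm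

theorem TP.Pair.card_W {x y : G} (P : T.Pair x y) [Fact r.Prime] (R : Sylow r G) :
    Nat.card (Cfsg.pCore r G) * n = Nat.card (R : Subgroup G) := by
  have hlp := T.lp_r (K := C[x] ⊓ C[y]) (Or.inr (P.index_mul_pair P.hx
    (T.four.not_center_n P.hxn) P.hy (T.symm.four.not_center_n P.hym)))
  rw [R.card_eq_multiplicity, ← hlp]
  congr 1
  refine le_antisymm (card_le_lp Cores.pCore_isPGroup (le_inf P.W_le fun e he =>
    mem_C.mpr (P.W_abelian e he y P.hy))) ?_
  exact lp_le_of_forall fun u hu huq =>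
    P.mem_W huq (mem_inf.mp hu).1 (mem_inf.mp hu).2

/-- `r`-elements fixing a non-central element of `O_s` lie in `O_r`. -/
theorem TP.Pair.mem_W_of_commute {x y : G} (P : T.Pair x y) {v t : G}
    (hv : v ∈ Cfsg.pCore s G) (hvZ : v ∉ center G) (ht : IsQ r t) (htv : Commute t v) :
    t ∈ Cfsg.pCore r G := by
  haveI := Fact.mk T.hr
  have hzp : IsPGroup r (zpowers t) := by
    obtain ⟨j, hj⟩ := ht.orderOf_eq T.hr
    exact IsPGroup.of_card (n := j) (by rw [Nat.card_zpowers, hj])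
  obtain ⟨R, hR⟩ := hzp.exists_le_sylow
  obtain ⟨g, hg⟩ := exists_conj_centralizes (x := y)
    (P.hym ▸ T.symm.not_dvd_n T.hr T.hrs : ¬ r ∣ (C[y]).index) R
  have P' : T.Pair x (g * y * g⁻¹) := ⟨P.bad, P.hx, P.hxn,
    (inferInstance : (Cfsg.pCore r G).Normal).conj_mem y P.hy g,
    (index_C_conj g y).trans P.hym⟩
  have h1 := P'.stab R (fun ρ hρ => mem_centralizer_iff.mp hg ρ hρ) hv hvZ
  rw [← P.card_W R] at h1
  have h2 : Cfsg.pCore r G = (R : Subgroup G) ⊓ C[v] := by
    refine eq_of_le_of_card_ge (le_inf (Cores.pCore_le_sylow R) fun e he =>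
      mem_C.mpr (commute_pCores T.hr T.hs T.hrs he hv)) ?_
    exact (Nat.eq_of_mul_eq_mul_right (by have := T.four.hn; omega) h1).le
  rw [h2]
  exact mem_inf.mpr ⟨hR (mem_zpowers t), mem_C.mpr htv⟩

theorem TP.Pair.orbit {x y : G} (P : T.Pair x y) :
    n * Nat.card (cenPart s G) < Nat.card (Cfsg.pCore s G) := by
  classical
  haveI := Fact.mk T.hr
  haveI := Fact.mk T.hs
  set V := Cfsg.pCore s G with hV
  set W := Cfsg.pCore r G with hW
  obtain ⟨R⟩ := (inferInstance : Nonempty (Sylow r G))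
  have hcp : cenPart s G ≤ V := Cores.le_pCore (by
    rintro ⟨u, -, k, hk⟩
    exact ⟨k, Subtype.ext hk⟩)
  let f : (R : Subgroup G) ⧸ W.subgroupOf R → V ⧸ (cenPart s G).subgroupOf V := fun c =>
    QuotientGroup.mk ⟨(c.out : G) * x * (c.out : G)⁻¹,
      (inferInstance : V.Normal).conj_mem x P.hx c.out⟩
  have hxZ := T.four.not_center_n P.hxn
  have hinj : Function.Injective f := by
    intro a b hab
    rw [QuotientGroup.eq] at hab
    obtain ⟨hzc, hzs⟩ := hab
    set v := (a.out : G) with hv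
    set v' := (b.out : G) with hv'
    change (v * x * v⁻¹)⁻¹ * (v' * x * v'⁻¹) ∈ center G at hzc
    set z := (v * x * v⁻¹)⁻¹ * (v' * x * v'⁻¹) with hz
    have hzs' : IsQ s z := hzs
    have hd : (v⁻¹ * v') * x * (v⁻¹ * v')⁻¹ = z * x := by
      calc (v⁻¹ * v') * x * (v⁻¹ * v')⁻¹ = x * (v⁻¹ * z * v) := by rw [hz]; group
        _ = x * (v⁻¹ * (v * z)) := by rw [mul_assoc v⁻¹, mem_center_iff.mp hzc v]
        _ = x * z := by group
        _ = z * x := mem_center_iff.mp hzc x
    have hdR : v⁻¹ * v' ∈ (R : Subgroup G) := mul_mem (inv_mem a.out.2) b.out.2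
    have hpow : ∀ k : ℕ, (v⁻¹ * v') ^ k * x * ((v⁻¹ * v') ^ k)⁻¹ = z ^ k * x := by
      intro k
      induction k with
      | zero => simp
      | succ k ih =>
        calc (v⁻¹ * v') ^ (k + 1) * x * ((v⁻¹ * v') ^ (k + 1))⁻¹
            = (v⁻¹ * v') * ((v⁻¹ * v') ^ k * x * ((v⁻¹ * v') ^ k)⁻¹) * (v⁻¹ * v')⁻¹ := by
              simp only [pow_succ', mul_inv_rev, mul_assoc]
          _ = (v⁻¹ * v') * (z ^ k * x) * (v⁻¹ * v')⁻¹ := by rw [ih]
          _ = z ^ k * ((v⁻¹ * v') * x * (v⁻¹ * v')⁻¹) := by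
              rw [← mul_assoc, mem_center_iff.mp (pow_mem hzc k) (v⁻¹ * v')]; group
          _ = z ^ (k + 1) * x := by rw [hd, ← mul_assoc, ← pow_succ]
    have hz1 : z = 1 := by
      obtain ⟨k, hk⟩ := IsQ.of_mem R.2 hdR
      have h1 := hpow (r ^ k)
      rw [hk, one_mul, inv_one, mul_one, eq_comm, mul_eq_right] at h1
      exact hzs'.eq_one T.hs T.hr T.hrs.symm h1
    rw [hz1, one_mul, mul_inv_eq_iff_eq_mul] at hd
    rw [← a.out_eq', ← b.out_eq', QuotientGroup.eq]
    exact P.mem_W_of_commute P.hx hxZ (IsQ.of_mem R.2 hdR) hd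
  have hnot : (1 : V ⧸ (cenPart s G).subgroupOf V) ∉ Set.range f := by
    rintro ⟨c, hc⟩
    have h : (⟨(c.out : G) * x * (c.out : G)⁻¹,
        (inferInstance : V.Normal).conj_mem x P.hx c.out⟩ : V) ∈ (cenPart s G).subgroupOf V :=
      (QuotientGroup.eq_one_iff _).mp hc
    exact hxZ (mem_center_of_conj h.1)
  have hlt : Nat.card ((R : Subgroup G) ⧸ W.subgroupOf R) <
      Nat.card (V ⧸ (cenPart s G).subgroupOf V) := by
    haveI := Fintype.ofFinite ((R : Subgroup G) ⧸ W.subgroupOf R)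
    haveI := Fintype.ofFinite (V ⧸ (cenPart s G).subgroupOf V)
    rw [Nat.card_eq_fintype_card, Nat.card_eq_fintype_card]
    exact Fintype.card_lt_of_injective_of_notMem f hinj hnot
  have e1 := card_eq_card_quotient_mul_card_subgroup (W.subgroupOf (R : Subgroup G))
  have e2 := card_eq_card_quotient_mul_card_subgroup ((cenPart s G).subgroupOf V)
  rw [Nat.card_congr (subgroupOfEquivOfLe (Cores.pCore_le_sylow R)).toEquiv, ← P.card_W R,
    mul_comm (Nat.card ((R : Subgroup G) ⧸ _))] at e1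
  rw [Nat.card_congr (subgroupOfEquivOfLe hcp).toEquiv] at e2
  rw [e2]
  refine Nat.mul_lt_mul_of_lt_of_le ?_ le_rfl Nat.card_pos
  rw [Nat.eq_of_mul_eq_mul_left Nat.card_pos e1]
  exact hlt

theorem TP.Pair.intersect {x y : G} (P : T.Pair x y) :
    Nat.card (Cfsg.pCore r G) ≤ n * Nat.card (cenPart r G) := by
  haveI := Fact.mk T.hr
  haveI := Fact.mk T.hs
  obtain ⟨S⟩ := (inferInstance : Nonempty (Sylow s G))
  have hSV : ¬ (S : Subgroup G) ≤ Cfsg.pCore s G := by
    intro hle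
    have h1 := P.symm.card_W S
    have h2 := card_le_of_le hle
    have := T.four.hm
    have : 0 < Nat.card (Cfsg.pCore s G) := Nat.card_pos
    nlinarith
  obtain ⟨u, huS, huV⟩ := SetLike.not_le_iff_exists.mp hSV
  have huq : IsQ s u := IsQ.of_mem S.2 huS
  have huZ : u ∉ center G := fun h => huV (Cores.le_pCore (N := cenPart s G) (by
    rintro ⟨u, -, k, hk⟩
    exact ⟨k, Subtype.ext hk⟩) ⟨h, huq⟩)
  have hui : (C[u]).index = n ∨ (C[u]).index = n * m := by
    rcases T.four.idx u with h | h | h | h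
    · exact absurd h huZ
    · exact Or.inl h
    · exact absurd h (P.bad.1 u huq)
    · exact Or.inr h
  obtain ⟨Pu⟩ := (inferInstance : Nonempty (Sylow r C[u]))
  set L := (Pu : Subgroup C[u]).map (C[u]).subtype
  have hLu : L ≤ C[u] := map_subtype_le _
  have hLp : IsPGroup r L := Pu.2.map _
  obtain ⟨R, hR⟩ := hLp.exists_le_sylow
  have hLc : Nat.card L * n = Nat.card (R : Subgroup G) := by
    rw [card_map_of_injective (subtype_injective _), Pu.card_eq_multiplicity,
      R.card_eq_multiplicity]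
    exact T.lp_r hui
  have hinf : L ⊓ Cfsg.pCore r G ≤ cenPart r G := by
    rintro w ⟨hw1, hw2⟩
    refine ⟨by_contra fun hwZ => huV ?_, isQ_of_mem_pCore hw2⟩
    exact P.symm.mem_W_of_commute hw2 hwZ huq (mem_C.mp (hLu hw1)).symm
  have hrel : L.relIndex (R : Subgroup G) = n := by
    have h := relIndex_mul_relIndex ⊥ L (R : Subgroup G) bot_le hR
    rw [relIndex_bot_left, relIndex_bot_left, ← hLc] at h
    exact Nat.eq_of_mul_eq_mul_left Nat.card_pos h
  have h1 := relIndex_mul_relIndex ⊥ (L ⊓ Cfsg.pCore r G) (Cfsg.pCore r G) bot_le inf_le_right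
  rw [relIndex_bot_left, relIndex_bot_left, inf_relIndex_right] at h1
  rw [← h1, mul_comm n]
  refine Nat.mul_le_mul (card_le_of_le hinf) (hrel ▸ ?_)
  exact relIndex_le_of_le_right (Cores.pCore_le_sylow R) (by
    rw [hrel]; have := T.four.hn; omega)

theorem TP.nilpotent (T : TP r s n m G) : Group.IsNilpotent G := by
  by_cases hgood : ∃ y : G, IsQ s y ∧ (C[y]).index = m
  · obtain ⟨y, hy, hym⟩ := hgood
    exact T.nilpotent_of_good hy hym
  by_cases hgood' : ∃ x : G, IsQ r x ∧ (C[x]).index = n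
  · obtain ⟨x, hx, hxn⟩ := hgood'
    exact T.symm.nilpotent_of_good hx hxn
  exfalso
  push Not at hgood hgood'
  have hT : T.Bad := ⟨hgood, hgood'⟩
  by_cases hX : T.HasX
  · by_cases hY : T.symm.HasX
    · obtain ⟨x, hx, hxn⟩ := hX
      obtain ⟨y, hy, hym⟩ := hY
      have P : T.Pair x y := ⟨hT, hx, hxn, hy, hym⟩
      have h1 := P.orbit
      have h2 := P.intersect
      have h3 := P.symm.orbit
      have h4 := P.symm.intersect
      have h5 : n < m := Nat.lt_of_mul_lt_mul_right (a := Nat.card (cenPart s G))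
        (lt_of_lt_of_le h1 h4)
      have h6 : m < n := Nat.lt_of_mul_lt_mul_right (a := Nat.card (cenPart r G))
        (lt_of_lt_of_le h3 h2)
      omega
    · exact TP.not_X_only hT hX hY
  · by_cases hY : T.symm.HasX
    · exact TP.not_X_only (TP.bad_symm hT) hY hX
    · exact TP.not_both_lacking hT hX hY

end Cfsg.Agent.Hall.FourSizes
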