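import Cfsg.Agent.Hall.Systems
import Cfsg.Agent.Hall.Wielandt
import Cfsg.Agent.H24.Carter
import Cfsg.Agent.H30.ComplementSystem
import Cfsg.Agent.Hall.FocalIterate

/-!
System normalizers and Carter subgroups.
-/

set_option autoImplicit false

open scoped Pointwise

namespace Cfsg.Agent.Hall

variable {G : Type*} [Group G]

/-- The system `K` reduces into `C`. -/
def Reduces (K : Nat.Primes → Subgroup G) (C : Subgroup G) : Prop :=
  ∀ p : Nat.Primes, ∃ k : ℕ, (K p).relIndex C = (p : ℕ) ^ k

theorem exists_pow_of_dvd {p n k : ℕ} (hp : p.Prime) (h : n ∣ p ^ k) : ∃ j, n = p ^ j :=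
  ((Nat.dvd_prime_pow hp).mp h).imp fun _ h => h.2

theorem index_eq_of_isPiHall [Finite G] {p : ℕ} (hp : p.Prime) {H : Subgroup G}
    (h : Cfsg.IsPiHall {q | q ≠ p} H) : H.index = p ^ (Nat.card G).factorization p := by
  obtain ⟨hc, k, hk⟩ := (isPiHall_ne_iff hp).mp h
  rw [← H.card_mul_index, hk, Nat.factorization_mul Nat.card_pos.ne' (pow_ne_zero _ hp.ne_zero),
    Finsupp.add_apply,
    Nat.factorization_eq_zero_of_not_dvd (hp.coprime_iff_not_dvd.mp hc.symm),
    Nat.factorization_pow, Finsupp.smul_apply, hp.factorization_self]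
  simp

theorem isComplementSystem_subgroupOf [Finite G] {K : Nat.Primes → Subgroup G}
    (hK : Cfsg.IsComplementSystem K) {C : Subgroup G} (h : Reduces K C) :
    Cfsg.IsComplementSystem (fun p => (K p).subgroupOf C) := by
  intro p
  refine index_eq_of_isPiHall p.2 ((isPiHall_ne_iff p.2).mpr ⟨?_, h p⟩)
  have hcop := ((isPiHall_ne_iff p.2).mp (complementSystem_isPiHall hK p)).1
  exact hcop.coprime_dvd_left (Subgroup.card_comap_dvd_of_injective _ _ C.subtype_injective)

theorem exists_reducing_system [Finite G] [Group.IsSolvable G] (C : Subgroup G) :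
    ∃ K : Nat.Primes → Subgroup G, Cfsg.IsComplementSystem K ∧ Reduces K C := by
  have key : ∀ p : Nat.Primes, ∃ L : Subgroup G, Cfsg.IsPiHall {q | q ≠ (p : ℕ)} L ∧
      ∃ k : ℕ, L.relIndex C = (p : ℕ) ^ k := by
    intro p
    obtain ⟨X, hX⟩ := (hallDom_of_isSolvable {q | q ≠ (p : ℕ)} C).1
    obtain ⟨hXc, k, hk⟩ := (isPiHall_ne_iff p.2).mp hX
    obtain ⟨L, hL, hXL⟩ := (hallDom_of_isSolvable {q | q ≠ (p : ℕ)} G).exists_le
      (U := X.map C.subtype) (by
        rw [isPiNumber_ne_iff p.2, Subgroup.card_map_of_injective C.subtype_injective]; exact hXc)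
    refine ⟨L, hL, exists_pow_of_dvd p.2 (k := k) ?_⟩
    rw [← hk]
    exact Subgroup.index_dvd_of_le fun x hx => hXL (Subgroup.mem_map_of_mem C.subtype hx)
  choose K hK hKi using key
  exact ⟨K, fun p => index_eq_of_isPiHall p.2 (hK p), hKi⟩

theorem reduces_conj {K : Nat.Primes → Subgroup G} {C : Subgroup G} (h : Reduces K C) (g : G) :
    Reduces (fun p => MulAut.conj g • K p) (MulAut.conj g • C) := fun p =>
  (h p).imp fun k hk => by rw [Subgroup.relIndex_pointwise_smul, hk]

theorem mem_systemNormalizer_conj {K : Nat.Primes → Subgroup G} {g x : G}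
    (h : x ∈ Cfsg.systemNormalizer (fun p => MulAut.conj g • K p)) :
    g⁻¹ * x * g ∈ Cfsg.systemNormalizer K := by
  rw [mem_systemNormalizer] at h ⊢
  intro p
  rw [conj_mul_smul, conj_mul_smul, h p, conj_inv_smul_conj_smul]

/-- `(X ⊔ N).relIndex (C ⊔ N)` divides `X.relIndex C`. -/
theorem relIndex_sup_dvd [Finite G] (N : Subgroup G) [N.Normal] {X C : Subgroup G} (h : X ≤ C) :
    (N ⊔ X).relIndex (N ⊔ C) ∣ X.relIndex C := by
  refine Dvd.intro ((N ⊓ X).relIndex (N ⊓ C)) ?_
  have h1 := Subgroup.relIndex_mul_relIndex ⊥ (N ⊔ X) (N ⊔ C) bot_le (sup_le_sup_left h N)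
  have h2 := Subgroup.relIndex_mul_relIndex ⊥ X C bot_le h
  have h3 := Subgroup.relIndex_mul_relIndex ⊥ (N ⊓ X) (N ⊓ C) bot_le (inf_le_inf_left N h)
  have h4 := card_sup_mul_card_inf N X
  have h5 := card_sup_mul_card_inf N C
  simp only [Subgroup.relIndex_bot_left] at h1 h2 h3
  rw [← h1, ← h3, ← h2] at h5
  have hpos : 0 < Nat.card (N ⊔ X : Subgroup G) * Nat.card (N ⊓ X : Subgroup G) :=
    mul_pos Nat.card_pos Nat.card_pos
  apply Nat.eq_of_mul_eq_mul_left hpos
  linear_combination h5 - (X.relIndex C) * h4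

theorem relIndex_sup_normal [Finite G] (M K : Subgroup G) [M.Normal] :
    K.relIndex (M ⊔ K) = K.relIndex M := by
  have h1 := Subgroup.relIndex_mul_relIndex ⊥ K (M ⊔ K) bot_le le_sup_right
  have h2 := Subgroup.relIndex_mul_relIndex ⊥ (K ⊓ M) M bot_le inf_le_right
  have h3 := card_sup_mul_card_inf M K
  rw [Subgroup.relIndex_bot_left, Subgroup.relIndex_bot_left] at h1 h2
  rw [Subgroup.inf_relIndex_right, inf_comm] at h2
  apply Nat.eq_of_mul_eq_mul_left
    (mul_pos (Nat.card_pos (α := K)) (Nat.card_pos (α := (M ⊓ K : Subgroup G))))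
  linear_combination (Nat.card (M ⊓ K : Subgroup G)) * h1 - (Nat.card K) * h2 + h3

/-- In a nilpotent subgroup a `p`-complement is normal. -/
theorem le_normalizer_of_nilpotent [Finite G] {C X : Subgroup G} (hC : Group.IsNilpotent C)
    (hXC : X ≤ C) {p : ℕ} (hp : p.Prime) (hX : (Nat.card X).Coprime p) {k : ℕ}
    (hk : X.relIndex C = p ^ k) : C ≤ Subgroup.normalizer (X : Set G) := by
  obtain ⟨S, R, hS, hR, hsup, hSp, hRp, hcard, hcomm⟩ := exists_nilpotent_split C hC hp
  have hnor : C ≤ Subgroup.normalizer (R : Set G) := by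
    rw [← hsup]
    refine sup_le (fun s hs => Subgroup.centralizer_le_normalizer _ ?_) Subgroup.le_normalizer
    exact Subgroup.mem_centralizer_iff.mpr fun r hr => (hcomm s hs r hr).symm
  have : (R.subgroupOf C).Normal := (Subgroup.normal_subgroupOf_iff_le_normalizer hR).mpr hnor
  have : Fact p.Prime := ⟨hp⟩
  obtain ⟨j, hj⟩ := IsPGroup.iff_card.mp hSp
  have hidx : (R.subgroupOf C).index = p ^ j := by
    have h := (R.subgroupOf C).card_mul_index
    rw [card_subgroupOf_of_le hR, ← hcard, hj, mul_comm (p ^ j)] at h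
    exact Nat.eq_of_mul_eq_mul_left Nat.card_pos h
  have hle : X ≤ R := fun x hx => mem_of_coprime_index (R.subgroupOf C) (x := ⟨x, hXC hx⟩) (by
    rw [hidx, ← Subgroup.orderOf_coe]
    exact (hX.coprime_dvd_left (X.orderOf_dvd_natCard hx)).pow_right j)
  have hXR : X = R := by
    refine Subgroup.eq_of_le_of_card_ge hle ?_
    have hd : Nat.card R ∣ Nat.card X := by
      refine (((hp.coprime_iff_not_dvd.mpr hRp).pow_left k).symm).dvd_of_dvd_mul_right ?_
      have h := (X.subgroupOf C).card_mul_index
      rw [card_subgroupOf_of_le hXC] at h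
      rw [← hk]
      change Nat.card R ∣ Nat.card X * (X.subgroupOf C).index
      rw [h]
      exact Subgroup.card_dvd_of_le hR
    exact Nat.le_of_dvd Nat.card_pos hd
  rw [hXR]; exact hnor

universe u

theorem systemNormalizer_le_aux (n : ℕ) :
    ∀ (G : Type u) [Group G] [Finite G] [Group.IsSolvable G], Nat.card G ≤ n →
      ∀ (C : Subgroup G) (K : Nat.Primes → Subgroup G), H24.Carter.IsCarter C →
        Cfsg.IsComplementSystem K → Reduces K C → Cfsg.systemNormalizer K ≤ C := by
  induction n with
  | zero => intro G _ _ _ h; exact absurd h (not_le.mpr Nat.card_pos)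
  | succ n ih =>
    intro G _ _ _ hG C K hC hK hred
    rcases subsingleton_or_nontrivial G with h | h
    · exact fun x _ => Subsingleton.elim 1 x ▸ one_mem _
    obtain ⟨N, r, hNn, hN, hr, hNr, hNc, hmin⟩ := exists_minimal_normal_pgroup (G := G)
    have : Fact r.Prime := ⟨hr⟩
    obtain ⟨e, he⟩ := IsPGroup.iff_card.mp hNr
    set L := N ⊔ C with hL
    set f := QuotientGroup.mk' N
    have hsurj : Function.Surjective f := QuotientGroup.mk'_surjective N
    have hlt := card_quotient_lt N hN
    have hred' : Reduces (fun p => (K p).map f) (C.map f) := by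
      intro p
      obtain ⟨k, hk⟩ := hred p
      rw [Subgroup.relIndex_map_map, QuotientGroup.ker_mk', sup_comm (K p), sup_comm C]
      refine exists_pow_of_dvd p.2 (k := k) ?_
      refine (Subgroup.relIndex_dvd_of_le_left _
        (sup_le_sup_left (inf_le_left : K p ⊓ C ≤ K p) N)).trans ?_
      refine (relIndex_sup_dvd N inf_le_right).trans ?_
      rw [Subgroup.inf_relIndex_right, hk]
    have hDL : Cfsg.systemNormalizer K ≤ L := by
      intro d hd
      have h1 := ih (G ⧸ N) (by omega) (C.map f) _ (H24.Carter.isCarter_map hC hsurj)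
        (H30.system_map_isComplementSystem hK N) hred'
      have h2 : f d ∈ C.map f := h1 (by
        rw [mem_systemNormalizer] at hd ⊢
        intro p
        rw [← map_conj_smul, hd p])
      rw [hL, ← comap_map_mk']
      exact h2
    -- `K` reduces into `L`
    have hKN : ∀ p : Nat.Primes, (p : ℕ) ≠ r → N ≤ K p := fun p hp => by
      refine IsPiHall.normal_le (complementSystem_isPiHall hK p) ?_
      rw [he]
      exact isPiNumber_pow_of_prime_mem hr (show r ≠ (p : ℕ) from fun h => hp h.symm) e
    have hredL : Reduces K L := by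
      intro p
      obtain ⟨k, hk⟩ := hred p
      rcases eq_or_ne (p : ℕ) r with hp | hp
      · have h1 : C.relIndex L ∣ r ^ e := by
          rw [hL, relIndex_sup_normal, ← he]
          exact Subgroup.relIndex_dvd_card C N
        obtain ⟨j, hj⟩ := exists_pow_of_dvd hr h1
        refine exists_pow_of_dvd p.2 (k := k + j) ?_
        refine (Subgroup.relIndex_dvd_of_le_left L (inf_le_left : K p ⊓ C ≤ K p)).trans ?_
        rw [← Subgroup.relIndex_mul_relIndex _ C L inf_le_right le_sup_right,
          Subgroup.inf_relIndex_right, hk, hj, pow_add, hp]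
      · refine exists_pow_of_dvd p.2 (k := k) ?_
        refine (Subgroup.relIndex_dvd_of_le_left L
          (sup_le (hKN p hp) inf_le_left : N ⊔ (K p ⊓ C) ≤ K p)).trans ?_
        refine (relIndex_sup_dvd N inf_le_right).trans ?_
        rw [Subgroup.inf_relIndex_right, hk]
    by_cases hLtop : L = ⊤
    swap
    · have hLc : Nat.card L < Nat.card G := H24.Carter.card_lt hLtop
      have hredC : Reduces (fun p => (K p).subgroupOf L) (C.subgroupOf L) := fun p =>
        (hred p).imp fun k hk => by rw [Subgroup.relIndex_subgroupOf le_sup_right, hk]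
      have h1 := ih L (by omega) (C.subgroupOf L) _ (H24.Carter.isCarter_subgroupOf le_sup_right hC)
        (isComplementSystem_subgroupOf hK hredL) hredC
      intro d hd
      refine h1 (x := ⟨d, hDL hd⟩) ?_
      rw [mem_systemNormalizer] at hd ⊢
      intro p
      ext x
      have h3 := congrArg (fun H : Subgroup G => (x : G) ∈ H) (hd p)
      simp only [mem_conj_smul, eq_iff_iff] at h3
      rw [mem_conj_smul, Subgroup.mem_subgroupOf, Subgroup.mem_subgroupOf]
      exact h3
    -- now `G = N C`
    intro d hd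
    obtain ⟨x, hx, c, hc, rfl⟩ := Subgroup.mem_sup_of_normal_left.mp
      (show d ∈ N ⊔ C from hL ▸ hLtop ▸ Subgroup.mem_top d)
    by_cases hcen : N ≤ Subgroup.center G
    · have hNC : N ≤ C := fun y hy => by
        rw [← hC.2]
        exact Subgroup.centralizer_le_normalizer _ (Subgroup.center_le_centralizer _ (hcen hy))
      exact C.mul_mem (hNC hx) hc
    have hcfix : ∀ p : Nat.Primes, MulAut.conj c • K p = K p := by
      intro p
      obtain ⟨k, hk⟩ := hred p
      have hcop := ((isPiHall_ne_iff p.2).mp (complementSystem_isPiHall hK p)).1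
      have hX := le_normalizer_of_nilpotent hC.1 (inf_le_right : K p ⊓ C ≤ C) p.2
        (hcop.coprime_dvd_left (Subgroup.card_dvd_of_le inf_le_left))
        (k := k) (by rw [Subgroup.inf_relIndex_right, hk])
      rcases eq_or_ne (p : ℕ) r with hp | hp
      · have h1 : K p ⊓ C = K p := by
          refine IsPiHall.eq_of_le ?_ inf_le_left
            (IsPiHall.isPiNumber_card (complementSystem_isPiHall hK p))
          refine (isPiHall_ne_iff p.2).mpr
            ⟨hcop.coprime_dvd_left (Subgroup.card_dvd_of_le inf_le_left), ?_⟩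
          have h2 : C.index ∣ r ^ e := by
            rw [← Subgroup.relIndex_top_right, ← hLtop, hL, relIndex_sup_normal, ← he]
            exact Subgroup.relIndex_dvd_card C N
          obtain ⟨j, hj⟩ := exists_pow_of_dvd hr h2
          exact ⟨k + j, by
            rw [← Subgroup.relIndex_mul_index inf_le_right, Subgroup.inf_relIndex_right, hk, hj,
              pow_add, hp]⟩
        rw [← h1]
        exact conj_smul_of_le_normalizer hX hc
      · have h1 : K p = N ⊔ (K p ⊓ C) :=
          dedekind_normal (hKN p hp) (by rw [← hL, hLtop]; exact le_top)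
        rw [h1, Subgroup.smul_sup, conj_smul_of_normal c N, conj_smul_of_le_normalizer hX hc]
    have hxfix : ∀ p : Nat.Primes, MulAut.conj x • K p = K p := fun p => by
      have h1 := mem_systemNormalizer.mp hd p
      rwa [conj_mul_smul, hcfix p] at h1
    have hbot := inf_normalizer_eq_bot hmin hr hNr (complementSystem_isPiHall hK ⟨r, hr⟩) hcen
    have hx1 : x ∈ N ⊓ Subgroup.normalizer ((K ⟨r, hr⟩ : Subgroup G) : Set G) :=
      ⟨hx, H30.conj_smul_eq_iff_mem_normalizer.mp (hxfix ⟨r, hr⟩)⟩
    rw [hbot, Subgroup.mem_bot] at hx1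
    rw [hx1, one_mul]
    exact hc

/-- A system normalizer of a system reducing into a Carter subgroup lies in it. -/
theorem systemNormalizer_le_of_reduces {G : Type*} [Group G] [Finite G] [Group.IsSolvable G]
    {C : Subgroup G} {K : Nat.Primes → Subgroup G} (hC : H24.Carter.IsCarter C)
    (hK : Cfsg.IsComplementSystem K) (hred : Reduces K C) : Cfsg.systemNormalizer K ≤ C :=
  systemNormalizer_le_aux _ G le_rfl C K hC hK hred

/-- Every complement system reduces into some Carter subgroup. -/
theorem exists_carter_reduces [Finite G] [Group.IsSolvable G] {K : Nat.Primes → Subgroup G}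
    (hK : Cfsg.IsComplementSystem K) :
    ∃ C : Subgroup G, H24.Carter.IsCarter C ∧ Reduces K C := by
  obtain ⟨C, hC⟩ := H24.Carter.exists_carter _ G rfl
  obtain ⟨K', hK', hred⟩ := exists_reducing_system C
  obtain ⟨g, hg⟩ := H30.system_conj hK' hK
  refine ⟨MulAut.conj g • C, H24.Carter.isCarter_smul hC g, ?_⟩
  have h := reduces_conj hred g
  simp only [hg] at h
  exact h

/-- Nilpotent length two: Carter subgroups are system normalizers. -/
theorem eq_systemNormalizer_of_reduces [Finite G] [Group.IsSolvable G] (F : Subgroup G) [F.Normal]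
    (hF : Group.IsNilpotent F) (hGF : Group.IsNilpotent (G ⧸ F)) {C : Subgroup G}
    {K : Nat.Primes → Subgroup G} (hC : H24.Carter.IsCarter C) (hK : Cfsg.IsComplementSystem K)
    (hred : Reduces K C) : C = Cfsg.systemNormalizer K := by
  refine le_antisymm (fun c hc => ?_) (systemNormalizer_le_of_reduces hC hK hred)
  have htop : F ⊔ C = ⊤ := by
    rw [← comap_map_mk', H24.Carter.eq_top_of_isCarter (hG := hGF)
      (H24.Carter.isCarter_map hC (QuotientGroup.mk'_surjective F)), Subgroup.comap_top]
  rw [mem_systemNormalizer]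
  intro p
  obtain ⟨k, hk⟩ := hred p
  have hKp := complementSystem_isPiHall hK p
  obtain ⟨S, R, hS, hR, hsup, hSp, hRp, hcard, hcomm⟩ := exists_nilpotent_split F hF p.2
  have hnorF : F ≤ Subgroup.normalizer (R : Set G) := by
    rw [← hsup]
    refine sup_le (fun s hs => Subgroup.centralizer_le_normalizer _ ?_) Subgroup.le_normalizer
    exact Subgroup.mem_centralizer_iff.mpr fun r hr => (hcomm s hs r hr).symm
  have : (R.subgroupOf F).Normal := (Subgroup.normal_subgroupOf_iff_le_normalizer hR).mpr hnorF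
  have : Fact (p : ℕ).Prime := ⟨p.2⟩
  obtain ⟨j, hj⟩ := IsPGroup.iff_card.mp hSp
  have hidx : (R.subgroupOf F).index = (p : ℕ) ^ j := by
    have h := (R.subgroupOf F).card_mul_index
    rw [card_subgroupOf_of_le hR, ← hcard, hj, mul_comm ((p : ℕ) ^ j)] at h
    exact Nat.eq_of_mul_eq_mul_left Nat.card_pos h
  have hRn : R.Normal := by
    refine ⟨fun y hy g => ?_⟩
    have hgy : g * y * g⁻¹ ∈ F := ‹F.Normal›.conj_mem y (hR hy) g
    refine mem_of_coprime_index (R.subgroupOf F)
      (x := ⟨_, hgy⟩) ?_
    rw [hidx, ← Subgroup.orderOf_coe]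
    change (orderOf (MulAut.conj g y)).Coprime _
    rw [MulEquiv.orderOf_eq]
    exact ((p.2.coprime_iff_not_dvd.mpr hRp).symm.coprime_dvd_left
      (R.orderOf_dvd_natCard hy)).pow_right j
  have hRK : R ≤ K p := IsPiHall.normal_le hKp
    ((isPiNumber_ne_iff p.2).mpr (p.2.coprime_iff_not_dvd.mpr hRp).symm)
  have hcop := ((isPiHall_ne_iff p.2).mp hKp).1
  have hX := le_normalizer_of_nilpotent hC.1 (inf_le_right : K p ⊓ C ≤ C) p.2
    (hcop.coprime_dvd_left (Subgroup.card_dvd_of_le inf_le_left))
    (k := k) (by rw [Subgroup.inf_relIndex_right, hk])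
  have hY : R ⊔ (K p ⊓ C) = K p := by
    refine IsPiHall.eq_of_le ?_ (sup_le hRK inf_le_left) (IsPiHall.isPiNumber_card hKp)
    refine (isPiHall_ne_iff p.2).mpr
      ⟨hcop.coprime_dvd_left (Subgroup.card_dvd_of_le (sup_le hRK inf_le_left)), ?_⟩
    refine exists_pow_of_dvd p.2 (k := k + j) ?_
    rw [← Subgroup.relIndex_mul_index
      (sup_le_sup_left (inf_le_right : K p ⊓ C ≤ C) R), pow_add]
    refine Nat.mul_dvd_mul ?_ ?_
    · refine (relIndex_sup_dvd R inf_le_right).trans ?_
      rw [Subgroup.inf_relIndex_right, hk]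
    · have h1 : F ⊔ (R ⊔ C) = ⊤ := top_le_iff.mp (htop ▸ sup_le_sup_left le_sup_right F)
      rw [← Subgroup.relIndex_top_right, ← h1, relIndex_sup_normal]
      exact (Subgroup.relIndex_dvd_of_le_left F le_sup_left).trans (dvd_of_eq hidx)
  rw [← hY, Subgroup.smul_sup, conj_smul_of_normal, conj_smul_of_le_normalizer hX hc]

end Cfsg.Agent.Hall
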