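import Cfsg.Agent.Coprime.External
import Mathlib.GroupTheory.Abelianization.Defs

/-!
Basic objects for Flavell's fixed-point lemma (S3816): an automorphism `φ` with `φ ^ p = 1` acting on
a group, the subgroups `[h, φ]` and `[M, φ]`, and the subgroup generated by the fixed points in the
`[h, φ]`.
-/

namespace Cfsg.Agent.Hall.Flavell

open Subgroup

set_option linter.unusedSectionVars false

variable {H : Type*} [Group H]

/-- The fixed points of `φ`. -/
abbrev fx (φ : MulAut H) : Subgroup H := (φ : H →* H).eqLocus (MonoidHom.id H)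

theorem mem_fx {φ : MulAut H} {c : H} : c ∈ fx φ ↔ φ c = c := Iff.rfl

/-- The subgroup `[h, φ]`. -/
def br (φ : MulAut H) (h : H) : Subgroup H := closure {c : H | ∃ i : ℕ, c = h⁻¹ * (φ ^ i) h}

/-- The subgroup `[M, φ]`. -/
def com (φ : MulAut H) (M : Subgroup H) : Subgroup H :=
  closure {c : H | ∃ h ∈ M, ∃ i : ℕ, c = h⁻¹ * (φ ^ i) h}

/-- The subgroup generated by the fixed points in the `[h, φ]`. -/
def fxGen (φ : MulAut H) : Subgroup H := ⨆ h : H, br φ h ⊓ fx φ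

/-- `M` is invariant under `φ`. -/
def Inv (φ : MulAut H) (M : Subgroup H) : Prop := ∀ x ∈ M, φ x ∈ M

theorem Inv.pow {φ : MulAut H} {M : Subgroup H} (h : Inv φ M) (i : ℕ) :
    ∀ x ∈ M, (φ ^ i) x ∈ M := by
  induction i with
  | zero => intro x hx; simpa using hx
  | succ i ih =>
    intro x hx
    rw [pow_succ', MulAut.mul_apply]
    exact h _ (ih x hx)

theorem fx_pow {φ : MulAut H} {c : H} (hc : c ∈ fx φ) (i : ℕ) : (φ ^ i) c = c := by
  induction i with
  | zero => simp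
  | succ i ih => rw [pow_succ', MulAut.mul_apply, ih]; exact mem_fx.mp hc

theorem fxGen_le_fx (φ : MulAut H) : fxGen φ ≤ fx φ := iSup_le fun _ => inf_le_right

theorem mem_fxGen {φ : MulAut H} {h c : H} (hc : c ∈ br φ h) (hf : c ∈ fx φ) : c ∈ fxGen φ :=
  mem_iSup_of_mem h ⟨hc, hf⟩

theorem inv_mul_mem_com {φ : MulAut H} {M : Subgroup H} {h : H} (hh : h ∈ M) (i : ℕ) :
    h⁻¹ * (φ ^ i) h ∈ com φ M :=
  subset_closure ⟨h, hh, i, rfl⟩

theorem inv_mul_mem_br {φ : MulAut H} (h : H) (i : ℕ) : h⁻¹ * (φ ^ i) h ∈ br φ h :=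
  subset_closure ⟨i, rfl⟩

theorem br_le_com {φ : MulAut H} {M : Subgroup H} {h : H} (hh : h ∈ M) : br φ h ≤ com φ M :=
  (closure_le _).mpr fun c ⟨i, hc⟩ => hc ▸ inv_mul_mem_com hh i

theorem com_mono {φ : MulAut H} {M M' : Subgroup H} (h : M ≤ M') : com φ M ≤ com φ M' :=
  (closure_le _).mpr fun _ ⟨k, hk, i, hc⟩ => hc ▸ inv_mul_mem_com (h hk) i

theorem com_le {φ : MulAut H} {M : Subgroup H} (hM : Inv φ M) : com φ M ≤ M :=
  (closure_le _).mpr fun c ⟨k, hk, i, hc⟩ => hc ▸ mul_mem (inv_mem hk) (hM.pow i k hk)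

theorem inv_closure {φ : MulAut H} {S : Set H} (h : ∀ x ∈ S, φ x ∈ closure S) :
    Inv φ (closure S) := by
  intro x hx
  induction hx using closure_induction with
  | mem y hy => exact h y hy
  | one => rw [map_one]; exact one_mem _
  | mul y z _ _ hy hz => rw [map_mul]; exact mul_mem hy hz
  | inv y _ hy => rw [map_inv]; exact inv_mem hy

theorem inv_br (φ : MulAut H) (h : H) : Inv φ (br φ h) := by
  refine inv_closure ?_
  rintro _ ⟨i, rfl⟩
  have e : φ (h⁻¹ * (φ ^ i) h) = (h⁻¹ * (φ ^ 1) h)⁻¹ * (h⁻¹ * (φ ^ (i + 1)) h) := by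
    rw [map_mul, map_inv, pow_one, pow_succ' φ i, MulAut.mul_apply]
    group
  rw [e]
  exact mul_mem (inv_mem (inv_mul_mem_br h 1)) (inv_mul_mem_br h (i + 1))

theorem inv_com {φ : MulAut H} {M : Subgroup H} (hM : Inv φ M) : Inv φ (com φ M) := by
  refine inv_closure ?_
  rintro _ ⟨k, hk, i, rfl⟩
  have e : φ (k⁻¹ * (φ ^ i) k) = (φ k)⁻¹ * (φ ^ i) (φ k) := by
    rw [map_mul, map_inv, ← MulAut.mul_apply, ← pow_succ', pow_succ, MulAut.mul_apply]
  rw [e]
  exact inv_mul_mem_com (hM k hk) i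

theorem conj_mem_com {φ : MulAut H} {M : Subgroup H} {k c : H}
    (hk : k ∈ M) (hc : c ∈ com φ M) : k⁻¹ * c * k ∈ com φ M := by
  induction hc using closure_induction with
  | mem y hy =>
    obtain ⟨m, hm, i, rfl⟩ := hy
    have e : k⁻¹ * (m⁻¹ * (φ ^ i) m) * k
        = ((m * k)⁻¹ * (φ ^ i) (m * k)) * (k⁻¹ * (φ ^ i) k)⁻¹ := by
      rw [map_mul]; group
    rw [e]
    exact mul_mem (inv_mul_mem_com (mul_mem hm hk) i) (inv_mem (inv_mul_mem_com hk i))
  | one => simp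
  | mul y z _ _ hy hz =>
    have e : k⁻¹ * (y * z) * k = (k⁻¹ * y * k) * (k⁻¹ * z * k) := by group
    rw [e]; exact mul_mem hy hz
  | inv y _ hy =>
    have e : k⁻¹ * y⁻¹ * k = (k⁻¹ * y * k)⁻¹ := by group
    rw [e]; exact inv_mem hy

theorem conj_mem_com' {φ : MulAut H} {M : Subgroup H} {k c : H}
    (hk : k ∈ M) (hc : c ∈ com φ M) : k * c * k⁻¹ ∈ com φ M := by
  simpa using conj_mem_com (inv_mem hk) hc

theorem le_normalizer_com {φ : MulAut H} {M : Subgroup H} :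
    M ≤ normalizer (com φ M : Set H) := by
  intro k hk
  rw [mem_normalizer_iff]
  refine fun c => ⟨fun hc => conj_mem_com' hk hc, fun hc => ?_⟩
  have := conj_mem_com hk hc
  simpa [mul_assoc] using this

instance com_top_normal (φ : MulAut H) : (com φ ⊤).Normal :=
  ⟨fun _ hc k => conj_mem_com' (mem_top k) hc⟩

theorem conj_mem_fxGen {φ : MulAut H} {c y : H} (hc : c ∈ fx φ) (hy : y ∈ fxGen φ) :
    c * y * c⁻¹ ∈ fxGen φ := by
  induction hy using Subgroup.iSup_induction' with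
  | hp h z hz =>
    refine mem_fxGen (h := c * h * c⁻¹) ?_ (mul_mem (mul_mem hc hz.2) (inv_mem hc))
    have hb : z ∈ br φ h := hz.1
    clear hz
    induction hb using closure_induction with
    | mem w hw =>
      obtain ⟨i, rfl⟩ := hw
      have e : c * (h⁻¹ * (φ ^ i) h) * c⁻¹ = (c * h * c⁻¹)⁻¹ * (φ ^ i) (c * h * c⁻¹) := by
        rw [map_mul, map_mul, map_inv, fx_pow hc i]; group
      rw [e]
      exact inv_mul_mem_br _ i
    | one => simp
    | mul a b _ _ ha hb =>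
      have e : c * (a * b) * c⁻¹ = (c * a * c⁻¹) * (c * b * c⁻¹) := by group
      rw [e]; exact mul_mem ha hb
    | inv a _ ha =>
      have e : c * a⁻¹ * c⁻¹ = (c * a * c⁻¹)⁻¹ := by group
      rw [e]; exact inv_mem ha
  | h1 => simp
  | hmul y z _ _ hy hz =>
    have e : c * (y * z) * c⁻¹ = (c * y * c⁻¹) * (c * z * c⁻¹) := by group
    rw [e]; exact mul_mem hy hz

/-- The orbit product `x * φ x * ... * φ^(n-1) x`. -/
def tr (φ : MulAut H) : ℕ → H → H
  | 0, _ => 1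
  | n + 1, x => x * φ (tr φ n x)

theorem tr_succ' (φ : MulAut H) (n : ℕ) (x : H) : tr φ (n + 1) x = tr φ n x * (φ ^ n) x := by
  induction n with
  | zero => simp [tr]
  | succ n ih =>
    conv_lhs => rw [tr, ih, map_mul, ← mul_assoc]
    conv_rhs => rw [tr]
    rw [← MulAut.mul_apply, ← pow_succ']

theorem tr_mem {φ : MulAut H} {M : Subgroup H} (hM : Inv φ M) (n : ℕ) {x : H} (hx : x ∈ M) :
    tr φ n x ∈ M := by
  induction n with
  | zero => exact one_mem _
  | succ n ih => exact mul_mem hx (hM _ ih)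

theorem tr_of_fx {φ : MulAut H} (n : ℕ) {x : H} (hx : x ∈ fx φ) : tr φ n x = x ^ n := by
  induction n with
  | zero => simp [tr]
  | succ n ih => rw [tr, ih, map_pow, mem_fx.mp hx, pow_succ']

theorem tr_conj {φ : MulAut H} (n : ℕ) {c : H} (hc : c ∈ fx φ) (x : H) :
    tr φ n (c * x * c⁻¹) = c * tr φ n x * c⁻¹ := by
  induction n with
  | zero => simp [tr]
  | succ n ih =>
    rw [tr, tr, ih, map_mul, map_mul, map_inv, mem_fx.mp hc]
    group

theorem tr_mul {φ : MulAut H} {N : Subgroup H} (hN : Inv φ N)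
    (hcomm : ∀ a ∈ N, ∀ b ∈ N, a * b = b * a) (n : ℕ) {x y : H} (hx : x ∈ N) (hy : y ∈ N) :
    tr φ n (x * y) = tr φ n x * tr φ n y := by
  induction n with
  | zero => simp [tr]
  | succ n ih =>
    rw [tr, tr, tr, ih, map_mul, mul_assoc x y, ← mul_assoc y,
      hcomm y hy _ (hN _ (tr_mem hN n hx))]
    group

theorem tr_mem_fx {φ : MulAut H} {N : Subgroup H} (hN : Inv φ N)
    (hcomm : ∀ a ∈ N, ∀ b ∈ N, a * b = b * a) {p : ℕ} (hp : φ ^ p = 1) {x : H} (hx : x ∈ N) :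
    tr φ p x ∈ fx φ := by
  have h1 : tr φ (p + 1) x = tr φ p x * x := by
    rw [tr_succ', hp, MulAut.one_apply]
  have h2 : tr φ (p + 1) x = x * φ (tr φ p x) := rfl
  rw [h2, hcomm x hx _ (hN _ (tr_mem hN p hx))] at h1
  exact mem_fx.mpr (mul_right_cancel h1)

theorem tr_inv {φ : MulAut H} {N : Subgroup H} (hN : Inv φ N)
    (hcomm : ∀ a ∈ N, ∀ b ∈ N, a * b = b * a) (n : ℕ) {x : H} (hx : x ∈ N) :
    tr φ n x⁻¹ = (tr φ n x)⁻¹ := by
  refine eq_inv_of_mul_eq_one_left ?_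
  rw [← tr_mul hN hcomm n (inv_mem hx) hx, inv_mul_cancel, tr_of_fx n (one_mem _), one_pow]

/-- If `z` is fixed modulo the normal subgroup `com φ M`, its orbit product is a power. -/
theorem tr_mul_com {φ : MulAut H} {M : Subgroup H} (hM : Inv φ M) (n : ℕ) {f z : H} (hf : f ∈ M)
    (hff : f ∈ fx φ) (hz : z * f⁻¹ ∈ com φ M) : tr φ n z * (f ^ n)⁻¹ ∈ com φ M := by
  induction n with
  | zero => simp [tr]
  | succ n ih =>
    have h1 : φ (tr φ n z) * (f ^ n)⁻¹ ∈ com φ M := by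
      have := inv_com hM _ ih
      rwa [map_mul, map_inv, map_pow, mem_fx.mp hff] at this
    have e : tr φ (n + 1) z * (f ^ (n + 1))⁻¹
        = (z * f⁻¹) * (f * (φ (tr φ n z) * (f ^ n)⁻¹) * f⁻¹) := by
      rw [tr, pow_succ', mul_inv_rev]; group
    rw [e]
    exact mul_mem hz (conj_mem_com' hf h1)

section Finite

variable [Finite H]

theorem pow_mem_cancel {K : Subgroup H} {c : H} {n : ℕ} (hn : (Nat.card H).Coprime n)
    (hc : c ^ n ∈ K) : c ∈ K := by
  have h := hn.coprime_dvd_left (orderOf_dvd_natCard c)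
  obtain ⟨m, hm⟩ := exists_pow_eq_self_of_coprime h.symm
  rw [← hm]
  exact pow_mem hc m

theorem coprime_zpowers {φ : MulAut H} {p : ℕ} (hp : φ ^ p = 1) (hcop : (Nat.card H).Coprime p) :
    (Nat.card (zpowers φ)).Coprime (Nat.card H) := by
  rw [Nat.card_zpowers]
  exact (hcop.coprime_dvd_right (orderOf_dvd_of_pow_eq_one hp)).symm

theorem exists_pow_eq {φ : MulAut H} {p : ℕ} (hp0 : p ≠ 0) (hp : φ ^ p = 1) (a : zpowers φ) :
    ∃ i : ℕ, (a : MulAut H) = φ ^ i := by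
  obtain ⟨z, hz⟩ := a.2
  refine ⟨(z % (p : ℤ)).toNat, ?_⟩
  rw [← hz]
  show φ ^ z = _
  have hp' : φ ^ (p : ℤ) = 1 := by rw [zpow_natCast, hp]
  conv_lhs => rw [← Int.emod_add_mul_ediv z p, zpow_add, zpow_mul, hp', one_zpow, mul_one]
  rw [← zpow_natCast φ (z % (p : ℤ)).toNat,
    Int.toNat_of_nonneg (Int.emod_nonneg _ (by exact_mod_cast hp0))]

variable [Group.IsSolvable H] {φ : MulAut H} {p : ℕ} (hp0 : p ≠ 0) (hp : φ ^ p = 1)
  (hcop : (Nat.card H).Coprime p)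

include hp0 hp hcop

/-- A coset of an invariant subgroup stable under `φ` contains a fixed point. -/
theorem exists_fx_coset {N : Subgroup H} (hN : Inv φ N) {g : H} (hg : g⁻¹ * φ g ∈ N) :
    ∃ c ∈ fx φ, g⁻¹ * c ∈ N := by
  have hgi : ∀ i : ℕ, g⁻¹ * (φ ^ i) g ∈ N := by
    intro i
    induction i with
    | zero => simp
    | succ i ih =>
      have e : g⁻¹ * (φ ^ (i + 1)) g = (g⁻¹ * φ g) * φ (g⁻¹ * (φ ^ i) g) := by
        rw [pow_succ', MulAut.mul_apply, map_mul, map_inv]; group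
      rw [e]
      exact mul_mem hg (hN _ ih)
  obtain ⟨c, hc, hcn⟩ := Coprime.exists_fixed_mem_coset (A := zpowers φ) (G := H)
    (coprime_zpowers hp hcop) (Or.inr inferInstance) (N := N) (fun a x hx => by
      obtain ⟨i, hi⟩ := exists_pow_eq hp0 hp a
      show (a : MulAut H) x ∈ N
      rw [hi]; exact hN.pow i x hx) (g := g) (fun a => by
      obtain ⟨i, hi⟩ := exists_pow_eq hp0 hp a
      show g⁻¹ * (a : MulAut H) g ∈ N
      rw [hi]; exact hgi i)
  exact ⟨c, hc ⟨φ, mem_zpowers φ⟩, hcn⟩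

/-- Invariant Sylow subgroups exist. -/
theorem exists_inv_sylow (q : ℕ) [Fact q.Prime] : ∃ P : Sylow q H, Inv φ (P : Subgroup H) := by
  obtain ⟨P, hP⟩ := Coprime.exists_invariant_sylow' (A := zpowers φ) (G := H)
    (coprime_zpowers hp hcop) (Or.inr inferInstance) q
  exact ⟨P, fun x hx => hP ⟨φ, mem_zpowers φ⟩ x hx⟩

/-- `M = [M, φ] C_M(φ)`. -/
theorem exists_com_mul_fx {M : Subgroup H} (hM : Inv φ M) {m : H} (hm : m ∈ M) :
    ∃ k ∈ com φ M, ∃ c ∈ fx φ, c ∈ M ∧ m = k * c := by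
  have h1 : m⁻¹ * φ m ∈ com φ M := by simpa using inv_mul_mem_com (φ := φ) hm 1
  obtain ⟨c, hc, hcn⟩ := exists_fx_coset hp0 hp hcop (inv_com hM) h1
  have hcM : c ∈ M := by
    have := mul_mem hm (com_le hM hcn)
    rwa [mul_inv_cancel_left] at this
  refine ⟨m * c⁻¹, ?_, c, hc, hcM, by group⟩
  have := inv_mem (conj_mem_com' hm hcn)
  simpa [mul_assoc] using this

omit hp0 hp hcop in
theorem com_com_top_le : com φ (com φ ⊤) ≤ com φ ⊤ := com_mono le_top

/-- `[H, φ, φ] = [H, φ]`. -/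
theorem com_com_top : com φ (com φ ⊤) = com φ ⊤ := by
  refine le_antisymm com_com_top_le ((closure_le _).mpr ?_)
  rintro _ ⟨m, -, i, rfl⟩
  obtain ⟨k, hk, c, hc, -, rfl⟩ := exists_com_mul_fx hp0 hp hcop (M := ⊤) (fun _ _ => mem_top _)
    (mem_top m)
  have hk' : c⁻¹ * k * c ∈ com φ ⊤ := conj_mem_com (mem_top c) hk
  have e : (k * c)⁻¹ * (φ ^ i) (k * c) = (c⁻¹ * k * c)⁻¹ * (φ ^ i) (c⁻¹ * k * c) := by
    rw [map_mul, map_mul, map_mul, map_inv, fx_pow hc i]; group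
  rw [SetLike.mem_coe, e]
  exact inv_mul_mem_com hk' i

end Finite

/-- Images of `br` under an equivariant homomorphism. -/
theorem map_br {H' : Type*} [Group H'] (f : H' →* H) {ψ : MulAut H'} {φ : MulAut H}
    (hf : ∀ x, f (ψ x) = φ (f x)) (h : H') : (br ψ h).map f = br φ (f h) := by
  have hpow : ∀ (i : ℕ) (x : H'), f ((ψ ^ i) x) = (φ ^ i) (f x) := by
    intro i
    induction i with
    | zero => simp
    | succ i ih =>
      intro x
      rw [pow_succ', pow_succ', MulAut.mul_apply, MulAut.mul_apply, hf, ih]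
  rw [br, MonoidHom.map_closure, br]
  congr 1
  ext x
  constructor
  · rintro ⟨_, ⟨i, rfl⟩, rfl⟩
    exact ⟨i, by rw [map_mul, map_inv, hpow]⟩
  · rintro ⟨i, rfl⟩
    exact ⟨_, ⟨i, rfl⟩, by rw [map_mul, map_inv, hpow]⟩

end Cfsg.Agent.Hall.Flavell
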