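import Cfsg.Agent.Hall.FlavellPGroup
import Cfsg.Agent.Hall.SchurZassenhaus

/-!
Flavell's fixed-point lemma, minimal counterexample: choice of a minimal invariant normal subgroup
and the case in which it is central.
-/

set_option linter.unusedSectionVars false

namespace Cfsg.Agent.Hall.Flavell

open Subgroup
open scoped commutatorElement

variable {H : Type*} [Group H] [Finite H] [Group.IsSolvable H] {φ : MulAut H} {p : ℕ}

/-- A minimal invariant normal subgroup, elementary abelian. -/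
theorem exists_minimal_inv (φ : MulAut H) [Nontrivial H] :
    ∃ (N : Subgroup H) (q : ℕ), q.Prime ∧ N.Normal ∧ Inv φ N ∧ N ≠ ⊥ ∧
      (∀ a ∈ N, ∀ b ∈ N, a * b = b * a) ∧ (∀ a ∈ N, a ^ q = 1) ∧
      ∀ U : Subgroup H, U.Normal → Inv φ U → U ≤ N → U = ⊥ ∨ U = N := by
  classical
  obtain ⟨q, C, hq, hCc, hCb, hCp⟩ := exists_char_pgroup (L := H)
  have : Fact q.Prime := ⟨hq⟩
  let Z : Subgroup H :=
    { carrier := {d | d ∈ C ∧ d ^ q = 1 ∧ ∀ c ∈ C, c * d = d * c}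
      one_mem' := ⟨one_mem _, one_pow _, fun c _ => by rw [mul_one, one_mul]⟩
      mul_mem' := fun {a b} ha hb => ⟨mul_mem ha.1 hb.1, by
        rw [(show Commute a b from hb.2.2 a ha.1).mul_pow, ha.2.1, hb.2.1, one_mul], fun c hc => by
        rw [← mul_assoc, ha.2.2 c hc, mul_assoc, hb.2.2 c hc, mul_assoc]⟩
      inv_mem' := fun {a} ha => ⟨inv_mem ha.1, by rw [inv_pow, ha.2.1, inv_one], fun c hc =>
        (show Commute c a from ha.2.2 c hc).inv_right⟩ }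
  have hZψ : ∀ ψ : MulAut H, ∀ d ∈ Z, ψ d ∈ Z := by
    intro ψ d hd
    refine ⟨inv_of_char C (φ := ψ) d hd.1, by rw [← map_pow, hd.2.1, map_one], fun c hc => ?_⟩
    have hc' : ψ⁻¹ c ∈ C := inv_of_char C (φ := ψ⁻¹) c hc
    have h := congrArg ψ (hd.2.2 _ hc')
    rwa [map_mul, map_mul, MulAut.apply_inv_self] at h
  have hZn : Z.Normal := ⟨fun d hd k => hZψ (MulAut.conj k) d hd⟩
  have hZb : Z ≠ ⊥ := by
    have : Nontrivial C := C.nontrivial_iff_ne_bot.mpr hCb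
    obtain ⟨z, -, hzc, hzo⟩ := PGroups.exists_mem_center_orderOf_eq hCp (⊤ : Subgroup C) top_ne_bot
    intro h
    have hz : (z : H) ∈ Z := ⟨z.2, by rw [← hzo, ← Subgroup.coe_pow, pow_orderOf_eq_one]; rfl,
      fun c hc => congrArg Subtype.val (mem_center_iff.mp hzc ⟨c, hc⟩)⟩
    rw [h, mem_bot, OneMemClass.coe_eq_one] at hz
    rw [hz, orderOf_one] at hzo
    exact hq.ne_one hzo.symm
  obtain ⟨N, ⟨hNn, hNi, hNb, hNZ⟩, hmin⟩ := Set.Finite.exists_minimalFor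
    (fun U : Subgroup H => Nat.card U)
    {U : Subgroup H | U.Normal ∧ Inv φ U ∧ U ≠ ⊥ ∧ U ≤ Z} (Set.toFinite _)
    ⟨Z, hZn, hZψ φ, hZb, le_rfl⟩
  refine ⟨N, q, hq, hNn, hNi, hNb, fun a ha b hb => (hNZ hb).2.2 a (hNZ ha).1,
    fun a ha => (hNZ ha).2.1, fun U hUn hUi hUN => ?_⟩
  by_cases hU : U = ⊥
  · exact Or.inl hU
  · exact Or.inr (eq_of_le_of_card_ge hUN
      (hmin ⟨hUn, hUi, hU, hUN.trans hNZ⟩ (card_le_of_le hUN)))

/-- The central case. -/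
theorem Setup.fx_le_of_central (S : Setup φ p) {q : ℕ} [Fact q.Prime] (hq : ¬ IsPGroup q H)
    {N : Subgroup H} (hNn : N.Normal) (hN : Inv φ N) (hb : N ≠ ⊥)
    (hpow : ∀ a ∈ N, a ^ q = 1) (hcen : ∀ n ∈ N, ∀ h : H, n * h = h * n) : fx φ ≤ fxGen φ := by
  intro c hc
  obtain ⟨x, hx, n, hn, hnf, rfl⟩ := S.exists_mul hNn hN hb hc
  refine mul_mem hx ?_
  obtain ⟨Q, hQ⟩ := exists_inv_sylow S.ne_zero S.pow_eq S.coprime q
  have hQt : (Q : Subgroup H) ≠ ⊤ := by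
    intro h
    refine hq ?_
    have := Q.isPGroup'
    rw [h] at this
    exact this.of_equiv Subgroup.topEquiv
  have hnQ : n ∈ (Q : Subgroup H) := by
    have hz : IsPGroup q (zpowers n) := by
      rintro ⟨z, k, rfl⟩
      refine ⟨1, Subtype.ext ?_⟩
      show (n ^ k) ^ q ^ 1 = 1
      rw [pow_one, ← zpow_natCast, ← zpow_mul, mul_comm, zpow_mul, zpow_natCast, hpow n hn, one_zpow]
    obtain ⟨P, hP⟩ := hz.exists_le_sylow
    obtain ⟨g, rfl⟩ := MulAction.exists_smul_eq H P Q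
    exact ⟨n, hP (mem_zpowers n), show g * n * g⁻¹ = n by rw [← hcen n hn g]; group⟩
  -- transfer to `Q`
  let ψ : (Q : Subgroup H) →* Abelianization (Q : Subgroup H) := Abelianization.of
  have hker : commutator H ≤ (MonoidHom.transfer ψ).ker := Abelianization.commutator_subset_ker _
  have hkey : ∀ (k : ℕ) (g₀ : H), g₀⁻¹ * n ^ k * g₀ ∈ (Q : Subgroup H) →
      g₀⁻¹ * n ^ k * g₀ = n ^ k := by
    intro k g₀ _
    rw [mul_assoc, hcen _ (pow_mem hn k) g₀, inv_mul_cancel_left]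
  have h1 : MonoidHom.transfer ψ n = 1 := hker (S.fx_le_commutator hnf)
  rw [MonoidHom.transfer_eq_pow ψ n hkey] at h1
  rw [← MonoidHom.mem_ker, Abelianization.ker_of] at h1
  -- so `n` lies in the derived subgroup of `Q`
  have h2 : (⟨n, hnQ⟩ : (Q : Subgroup H)) ∈ commutator (Q : Subgroup H) := by
    have hcop : Nat.Coprime (orderOf n) (Q : Subgroup H).index := by
      refine Nat.Coprime.coprime_dvd_left (orderOf_dvd_of_pow_eq_one (hpow n hn)) ?_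
      exact (Fact.out : q.Prime).coprime_iff_not_dvd.mpr Q.not_dvd_index
    obtain ⟨m, hm⟩ := exists_pow_eq_self_of_coprime hcop.symm
    have := pow_mem h1 m
    convert this using 1
    exact Subtype.ext hm.symm
  -- and hence modulo `com φ Q` in `fxGen φ`
  let R : Subgroup H := com φ (Q : Subgroup H) ⊔ (fxGen φ ⊓ (Q : Subgroup H))
  have hR : (commutator (Q : Subgroup H)).map (Q : Subgroup H).subtype ≤ R := by
    rw [map_subtype_commutator]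
    refine commutator_le.mpr fun a ha b hb' => ?_
    obtain ⟨c₁, h₁, c₂, h₂, h₁M, h₂M, hmod⟩ := S.comm_mod_com hQ ha hb'
    have hc12 : c₁ * c₂ * c₁⁻¹ * c₂⁻¹ ∈ fxGen φ := by
      obtain ⟨x₁, hx₁, m₁, hm₁, -, rfl⟩ := S.exists_mul hNn hN hb h₁
      obtain ⟨x₂, hx₂, m₂, hm₂, -, rfl⟩ := S.exists_mul hNn hN hb h₂
      have e : x₁ * m₁ * (x₂ * m₂) * (x₁ * m₁)⁻¹ * (x₂ * m₂)⁻¹ = x₁ * x₂ * x₁⁻¹ * x₂⁻¹ := by
        calc x₁ * m₁ * (x₂ * m₂) * (x₁ * m₁)⁻¹ * (x₂ * m₂)⁻¹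
            = x₁ * (m₁ * x₂) * m₂ * m₁⁻¹ * x₁⁻¹ * m₂⁻¹ * x₂⁻¹ := by group
          _ = x₁ * x₂ * (m₁ * m₂) * m₁⁻¹ * x₁⁻¹ * m₂⁻¹ * x₂⁻¹ := by rw [hcen m₁ hm₁ x₂]; group
          _ = x₁ * x₂ * (m₂ * x₁⁻¹) * m₂⁻¹ * x₂⁻¹ := by rw [hcen m₁ hm₁ m₂]; group
          _ = x₁ * x₂ * x₁⁻¹ * x₂⁻¹ := by rw [hcen m₂ hm₂ x₁⁻¹]; group
      rw [e]
      exact mul_mem (mul_mem (mul_mem hx₁ hx₂) (inv_mem hx₁)) (inv_mem hx₂)
    have h3 : c₁ * c₂ * c₁⁻¹ * c₂⁻¹ ∈ (Q : Subgroup H) :=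
      mul_mem (mul_mem (mul_mem h₁M h₂M) (inv_mem h₁M)) (inv_mem h₂M)
    have h4 := mul_mem (mem_sup_left (T := fxGen φ ⊓ (Q : Subgroup H)) hmod)
      (mem_sup_right (S := com φ (Q : Subgroup H)) ⟨hc12, h3⟩)
    rw [inv_mul_cancel_right] at h4
    rwa [commutatorElement_def]
  have h5 := hR (Subgroup.mem_map_of_mem _ h2)
  obtain ⟨k, hk, y, hy, hky⟩ := (Coprime.mem_sup_iff
    (inf_le_right.trans (le_normalizer_com (φ := φ) (M := (Q : Subgroup H))))).mp h5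
  change k * y = n at hky
  have hkf : k ∈ fx φ := by
    have e : k = n * y⁻¹ := by rw [← hky, mul_inv_cancel_right]
    rw [e]
    exact mul_mem hnf (inv_mem (fxGen_le_fx φ hy.1))
  rw [← hky]
  exact mul_mem (S.sub _ hQ hQt k hk hkf) hy.1

end Cfsg.Agent.Hall.Flavell
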