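import Cfsg.Agent.Hall.FlavellMain

/-!
Flavell's fixed-point lemma: for an automorphism `φ` of odd prime period `p` of a solvable group of
order prime to `p`, the fixed points in `[H, φ]` are generated by the fixed points in the `[h, φ]`.
-/

set_option linter.unusedSectionVars false

namespace Cfsg.Agent.Hall.Flavell

open Subgroup

universe u

variable {H : Type u} [Group H] [Finite H] {φ : MulAut H}

/-- The restriction of `φ` to an invariant subgroup. -/
noncomputable def restrictAut {M : Subgroup H} (hM : Inv φ M) : MulAut M :=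
  MulEquiv.ofBijective (((φ : H →* H).comp M.subtype).codRestrict M fun y => hM _ y.2)
    (Finite.injective_iff_bijective.mp fun _ _ h =>
      Subtype.ext (φ.injective (congrArg Subtype.val h)))

theorem coe_restrictAut {M : Subgroup H} (hM : Inv φ M) (z : M) :
    ((restrictAut hM z : M) : H) = φ z := rfl

theorem coe_pow_restrictAut {M : Subgroup H} (hM : Inv φ M) (i : ℕ) (z : M) :
    (((restrictAut hM ^ i) z : M) : H) = (φ ^ i) z := by
  induction i with
  | zero => rfl
  | succ i ih => rw [pow_succ', pow_succ', MulAut.mul_apply, MulAut.mul_apply, coe_restrictAut, ih]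

/-- The induced automorphism of a quotient by an invariant normal subgroup. -/
noncomputable def quotAut {N : Subgroup H} [N.Normal] (hN : Inv φ N) : MulAut (H ⧸ N) :=
  QuotientGroup.congr N N φ (by
    refine eq_of_le_of_card_ge ?_ (le_of_eq (Subgroup.card_map_of_injective φ.injective).symm)
    rintro _ ⟨z, hz, rfl⟩
    exact hN z hz)

theorem quotAut_mk {N : Subgroup H} [N.Normal] (hN : Inv φ N) (z : H) :
    quotAut hN (z : H ⧸ N) = ((φ z : H) : H ⧸ N) := rfl

theorem quotAut_pow_mk {N : Subgroup H} [N.Normal] (hN : Inv φ N) (i : ℕ) (z : H) :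
    (quotAut hN ^ i) (z : H ⧸ N) = (((φ ^ i) z : H) : H ⧸ N) := by
  induction i with
  | zero => rfl
  | succ i ih => rw [pow_succ', pow_succ', MulAut.mul_apply, MulAut.mul_apply, ih, quotAut_mk]

/-- **Flavell's lemma.** -/
theorem com_inf_fx_le [Group.IsSolvable H] {p : ℕ} (hp : p.Prime) (hp2 : 2 < p) (hpow : φ ^ p = 1)
    (hcop : (Nat.card H).Coprime p) : com φ ⊤ ⊓ fx φ ≤ fxGen φ := by
  induction h : Nat.card H using Nat.strong_induction_on generalizing H with
  | _ n ih =>
  subst h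
  -- proper invariant subgroups
  have hsub : ∀ M : Subgroup H, Inv φ M → M ≠ ⊤ → ∀ c ∈ com φ M, c ∈ fx φ → c ∈ fxGen φ := by
    intro M hM hMt c hc hcf
    have hlt : Nat.card M < Nat.card H :=
      (Nat.le_of_dvd Nat.card_pos (card_subgroup_dvd_card M)).lt_of_ne fun e =>
        hMt (eq_top_of_card_eq M e)
    have hIH := ih (Nat.card M) hlt (φ := restrictAut hM)
      (MulEquiv.ext fun z => Subtype.ext (by rw [coe_pow_restrictAut, hpow]; rfl))
      (hcop.coprime_dvd_left (card_subgroup_dvd_card M)) rfl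
    have hmap : com φ M ≤ (com (restrictAut hM) ⊤).map M.subtype := by
      refine (closure_le _).mpr ?_
      rintro _ ⟨k, hk, i, rfl⟩
      refine ⟨_, inv_mul_mem_com (mem_top (⟨k, hk⟩ : M)) i, ?_⟩
      rw [map_mul, map_inv]
      show k⁻¹ * (((restrictAut hM ^ i) ⟨k, hk⟩ : M) : H) = _
      rw [coe_pow_restrictAut]
    obtain ⟨z, hz, rfl⟩ := hmap hc
    have hzf : z ∈ fx (restrictAut hM) := mem_fx.mpr (Subtype.ext (mem_fx.mp hcf))
    have hle : (fxGen (restrictAut hM)).map M.subtype ≤ fxGen φ := by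
      rw [fxGen, Subgroup.map_iSup]
      refine iSup_le fun k => ?_
      rintro _ ⟨w, hw, rfl⟩
      refine mem_fxGen (h := (k : H)) ?_ (mem_fx.mpr ?_)
      · have h1 := map_br (ψ := restrictAut hM) (φ := φ) M.subtype (fun x => coe_restrictAut hM x) k
        exact h1.le (Subgroup.mem_map_of_mem _ (Subgroup.mem_inf.mp hw).1)
      · exact congrArg Subtype.val (mem_fx.mp (Subgroup.mem_inf.mp hw).2)
    exact hle (Subgroup.mem_map_of_mem _ (hIH (Subgroup.mem_inf.mpr ⟨hz, hzf⟩)))
  rintro c ⟨hc, hcf⟩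
  by_cases hCt : com φ ⊤ = ⊤
  swap
  · refine hsub _ (inv_com fun _ _ => mem_top _) hCt c ?_ hcf
    rw [com_com_top hp.ne_zero hpow hcop]
    exact hc
  by_cases hbr : ∃ k, br φ k = ⊤
  · obtain ⟨k, hk⟩ := hbr
    exact mem_fxGen (h := k) (by rw [hk]; exact mem_top c) hcf
  push Not at hbr
  -- fixed points modulo invariant normal subgroups
  have hlift : ∀ N : Subgroup H, N.Normal → Inv φ N → N ≠ ⊥ →
      fx φ ≤ fxGen φ ⊔ (fx φ ⊓ N) := by
    intro N hNn hN hNb d hd
    have hlt : Nat.card (H ⧸ N) < Nat.card H := by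
      rw [card_eq_card_quotient_mul_card_subgroup N]
      exact lt_mul_of_one_lt_right Nat.card_pos ((one_lt_card_iff_ne_bot N).mpr hNb)
    have hcop' : (Nat.card (H ⧸ N)).Coprime p := hcop.coprime_dvd_left (card_quotient_dvd_card N)
    have hIH := ih (Nat.card (H ⧸ N)) hlt (φ := quotAut hN)
      (MulEquiv.ext fun z => QuotientGroup.induction_on z fun w => by
        rw [quotAut_pow_mk, hpow]; rfl) hcop' rfl
    have h1 : (com φ ⊤).map (QuotientGroup.mk' N) ≤ com (quotAut hN) ⊤ := by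
      rw [com, MonoidHom.map_closure]
      refine (closure_le _).mpr ?_
      rintro _ ⟨_, ⟨k, -, i, rfl⟩, rfl⟩
      rw [SetLike.mem_coe, map_mul, map_inv, QuotientGroup.mk'_apply, QuotientGroup.mk'_apply,
        ← quotAut_pow_mk hN]
      exact inv_mul_mem_com (mem_top _) i
    have h2 : ((d : H) : H ⧸ N) ∈ fxGen (quotAut hN) := by
      refine hIH (Subgroup.mem_inf.mpr ⟨h1 (Subgroup.mem_map_of_mem _ ?_), mem_fx.mpr ?_⟩)
      · rw [hCt]; exact mem_top d
      · rw [quotAut_mk, mem_fx.mp hd]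
    have h3 : fxGen (quotAut hN) ≤ (fxGen φ).map (QuotientGroup.mk' N) := by
      refine iSup_le fun k => ?_
      obtain ⟨k, rfl⟩ := QuotientGroup.mk'_surjective N k
      rw [← map_br (QuotientGroup.mk' N) (fun x => (quotAut_mk hN x).symm) k]
      rintro _ ⟨⟨w, hw, rfl⟩, hwf⟩
      have hw' : w⁻¹ * φ w ∈ br φ k ⊓ N := by
        refine Subgroup.mem_inf.mpr ⟨mul_mem (inv_mem hw) (inv_br φ k w hw), ?_⟩
        exact QuotientGroup.eq.mp (mem_fx.mp hwf).symm
      obtain ⟨e, hef, hen⟩ := exists_fx_coset hp.ne_zero hpow hcop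
        (N := br φ k ⊓ N)
        (fun x hx => Subgroup.mem_inf.mpr ⟨inv_br φ k x (Subgroup.mem_inf.mp hx).1,
          hN x (Subgroup.mem_inf.mp hx).2⟩) hw'
      refine ⟨e, mem_fxGen (h := k) ?_ hef, ?_⟩
      · have := mul_mem hw (Subgroup.mem_inf.mp hen).1
        rwa [mul_inv_cancel_left] at this
      · exact (QuotientGroup.eq.mpr (Subgroup.mem_inf.mp hen).2).symm
    obtain ⟨x, hx, hxe⟩ := h3 h2
    have hmN : x⁻¹ * d ∈ N := QuotientGroup.eq.mp hxe
    have := mul_mem_sup (S := fxGen φ) (T := fx φ ⊓ N) hx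
      (Subgroup.mem_inf.mpr ⟨mul_mem (inv_mem (fxGen_le_fx φ hx)) hd, hmN⟩)
    rwa [mul_inv_cancel_left] at this
  have S : Setup φ p := ⟨hp2, hp, hpow, hcop, hCt, hsub, hbr, hlift⟩
  rcases subsingleton_or_nontrivial H with hs | hs
  · rw [Subsingleton.elim c 1]; exact one_mem _
  by_cases hpg : ∃ q, q.Prime ∧ IsPGroup q H
  · obtain ⟨q, hq, hH⟩ := hpg
    have := Fact.mk hq
    exact S.fx_le_of_isPGroup hH hcf
  push Not at hpg
  obtain ⟨N, q, hq, hNn, hN, hNb, hcomm, hNpow, hmin⟩ := exists_minimal_inv φ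
  have := Fact.mk hq
  by_cases hcen : ∀ n ∈ N, ∀ k : H, n * k = k * n
  · exact S.fx_le_of_central (hpg q hq) hNn hN hNb hNpow hcen hcf
  push Not at hcen
  exact S.fx_le_of_noncentral (hpg q hq) hN hNb hcomm hNpow hmin hcen hcf

end Cfsg.Agent.Hall.Flavell
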