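import Mathlib.GroupTheory.Index
import Mathlib.Algebra.BigOperators.Group.Finset.Basic
import Mathlib.Data.Set.Finite.Basic
import Mathlib.GroupTheory.OrderOfElement
import Mathlib.Tactic

/-!
A counting lemma for modules: `A` abelian acts on `N`, an automorphism pair `(σ, x)` of prime order
`p > 2` acts compatibly, `σ` has no proper invariant subgroups in `A` and the system is irreducible.
Then the fixed points of `x` satisfy `|C| ^ 3 ≤ |N|`.
-/

set_option linter.unusedSectionVars false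

namespace Cfsg.Agent.Hall.Flavell

open Subgroup Finset

variable {N A : Type*} [CommGroup N] [CommGroup A] (ρ : A →* MulAut N)

/-- The fixed points of a subgroup of `A`. -/
def fixOf (K : Subgroup A) : Subgroup N where
  carrier := {n | ∀ k ∈ K, ρ k n = n}
  one_mem' := fun k _ => map_one _
  mul_mem' := fun {a b} ha hb k hk => by rw [map_mul, ha k hk, hb k hk]
  inv_mem' := fun {a} ha k hk => by rw [map_inv, ha k hk]

variable [Finite A]

/-- The averaging map of a subgroup of `A`. -/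
noncomputable def avg (K : Subgroup A) : N →* N :=
  letI := Fintype.ofFinite K
  { toFun := fun n => ∏ k : K, ρ (k : A) n
    map_one' := by simp
    map_mul' := fun m n => by simp only [map_mul, Finset.prod_mul_distrib] }

theorem avg_mem (K : Subgroup A) (n : N) : avg ρ K n ∈ fixOf ρ K := by
  letI := Fintype.ofFinite K
  intro j hj
  show ρ j (∏ k : K, ρ (k : A) n) = ∏ k : K, ρ (k : A) n
  rw [map_prod]
  refine Fintype.prod_equiv (Equiv.mulLeft (⟨j, hj⟩ : K)) _ _ fun k => ?_
  rw [Equiv.coe_mulLeft, Subgroup.coe_mul, map_mul, MulAut.mul_apply]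

theorem avg_of_mem {K : Subgroup A} {n : N} (hn : n ∈ fixOf ρ K) :
    avg ρ K n = n ^ Nat.card K := by
  letI := Fintype.ofFinite K
  show (∏ k : K, ρ (k : A) n) = _
  rw [Finset.prod_congr rfl (fun (k : K) _ => hn (k : A) k.2), Finset.prod_const, Finset.card_univ,
    Nat.card_eq_fintype_card]

theorem avg_comm (K : Subgroup A) (a : A) (n : N) : ρ a (avg ρ K n) = avg ρ K (ρ a n) := by
  letI := Fintype.ofFinite K
  show ρ a (∏ k : K, ρ (k : A) n) = ∏ k : K, ρ (k : A) (ρ a n)
  rw [map_prod]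
  refine Finset.prod_congr rfl fun k _ => ?_
  rw [← MulAut.mul_apply, ← map_mul, mul_comm a, map_mul, MulAut.mul_apply]

theorem avg_mem_fix_of_mem (K K' : Subgroup A) {n : N} (hn : n ∈ fixOf ρ K') :
    avg ρ K n ∈ fixOf ρ (K ⊔ K') := by
  let T : Subgroup A :=
    { carrier := {a | ρ a (avg ρ K n) = avg ρ K n}
      one_mem' := by simp
      mul_mem' := fun {a b} (ha : ρ a _ = _) (hb : ρ b _ = _) => by
        show ρ (a * b) _ = _
        rw [map_mul, MulAut.mul_apply, hb, ha]
      inv_mem' := fun {a} (ha : ρ a _ = _) => by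
        show ρ a⁻¹ _ = _
        conv_lhs => rw [← ha]
        rw [← MulAut.mul_apply, ← map_mul, inv_mul_cancel, map_one, MulAut.one_apply] }
  have h : K ⊔ K' ≤ T := by
    refine sup_le (fun k hk => avg_mem ρ K n k hk) fun k hk => ?_
    show ρ k (avg ρ K n) = avg ρ K n
    rw [avg_comm, hn k hk]
  exact fun k hk => h hk

variable (x : MulAut N) (σ : MulAut A) (hcompat : ∀ a n, x (ρ a n) = ρ (σ a) (x n))

include hcompat

theorem avg_map (K : Subgroup A) (n : N) :
    x (avg ρ K n) = avg ρ (K.map (σ : A →* A)) (x n) := by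
  letI := Fintype.ofFinite K
  letI := Fintype.ofFinite ↥(K.map (σ : A →* A))
  show x (∏ k : K, ρ (k : A) n) = ∏ k : ↥(K.map (σ : A →* A)), ρ (k : A) (x n)
  rw [map_prod]
  refine Fintype.prod_equiv (K.equivMapOfInjective (σ : A →* A) σ.injective).toEquiv _ _ fun k => ?_
  rw [hcompat]
  rfl

theorem mem_fix_map {K : Subgroup A} {n : N} (hn : n ∈ fixOf ρ K) :
    x n ∈ fixOf ρ (K.map (σ : A →* A)) := by
  rintro _ ⟨k, hk, rfl⟩
  show ρ (σ k) (x n) = x n
  rw [← hcompat, hn k hk]

omit [Finite A] in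
theorem compat_pow (i : ℕ) (a : A) (n : N) : (x ^ i) (ρ a n) = ρ ((σ ^ i) a) ((x ^ i) n) := by
  induction i with
  | zero => simp
  | succ i ih => rw [pow_succ', pow_succ', MulAut.mul_apply, MulAut.mul_apply, ih, hcompat]; rfl

variable [Finite N] {p : ℕ} (hp2 : 2 < p) (hp : p.Prime) (hx : x ^ p = 1) (hσ : σ ^ p = 1)
  (hσfix : ∀ a, σ a = a → a = 1)
  (hAirr : ∀ K : Subgroup A, (∀ a ∈ K, σ a ∈ K) → K = ⊥ ∨ K = ⊤)
  (hNirr : ∀ U : Subgroup N, (∀ u ∈ U, x u ∈ U) → (∀ a : A, ∀ u ∈ U, ρ a u ∈ U) → U = ⊥ ∨ U = ⊤)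
  (hfaith : ∀ a : A, (∀ n, ρ a n = n) → a = 1)
  (hcop : (Nat.card N).Coprime (Nat.card A))

include hp2 hp hx hσ hσfix hAirr hNirr hfaith hcop

theorem card_fixed_cube_le [Nontrivial A] :
    Nat.card {n : N // x n = n} ^ 3 ≤ Nat.card N := by
  classical
  rcases subsingleton_or_nontrivial N with hs | hN
  · have : Subsingleton {n : N // x n = n} := inferInstance
    calc _ ≤ 1 ^ 3 := Nat.pow_le_pow_left (Finite.card_le_one_iff_subsingleton.mpr this) 3
      _ ≤ _ := by rw [one_pow]; exact Nat.card_pos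
  have hbot : fixOf ρ (⊥ : Subgroup A) ≠ ⊥ := by
    intro h
    obtain ⟨n, hn⟩ := exists_ne (1 : N)
    refine hn (mem_bot.mp (h ▸ fun k hk => ?_ : n ∈ (⊥ : Subgroup N)))
    rw [mem_bot.mp hk, map_one, MulAut.one_apply]
  obtain ⟨K, hK0, hKmax⟩ := Set.Finite.exists_maximalFor (fun K : Subgroup A => Nat.card K)
    {K : Subgroup A | fixOf ρ K ≠ ⊥} (Set.toFinite _) ⟨⊥, hbot⟩
  have hbig : ∀ L : Subgroup A, Nat.card K < Nat.card L → fixOf ρ L = ⊥ := by
    intro L hL
    by_contra hne
    exact absurd (hKmax (j := L) hne hL.le) (by simp only; omega)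
  have hKtop : K ≠ ⊤ := by
    intro h
    rw [h] at hK0
    rcases hNirr (fixOf ρ ⊤) (fun u hu k _ => by
        have := hcompat (σ⁻¹ k) u
        rw [hu _ (mem_top _), MulAut.apply_inv_self] at this
        exact this.symm)
      (fun a u hu k _ => by rw [hu a (mem_top a)]; exact hu k (mem_top k)) with hU | hU
    · exact hK0 hU
    · obtain ⟨a, ha⟩ := exists_ne (1 : A)
      exact ha (hfaith a fun n => (hU ▸ mem_top n : n ∈ fixOf ρ ⊤) a (mem_top a))
  have hxf : ∀ i : ℕ, ∀ c, x c = c → (x ^ i) c = c := by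
    intro i c hc
    induction i with
    | zero => simp
    | succ i ih => rw [pow_succ', MulAut.mul_apply, ih, hc]
  let C : Subgroup N := (x : N →* N).eqLocus (MonoidHom.id N)
  have hCcard : Nat.card {n : N // x n = n} = Nat.card C := rfl
  rw [hCcard]
  suffices ∃ f : C × C × C → N, Function.Injective f by
    obtain ⟨f, hf⟩ := this
    have := Nat.card_le_card_of_injective f hf
    rw [Nat.card_prod, Nat.card_prod] at this
    calc Nat.card C ^ 3 = Nat.card C * (Nat.card C * Nat.card C) := by ring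
      _ ≤ _ := this
  rcases eq_or_ne K ⊥ with hKb | hKb
  · -- every nontrivial element of `A` is fixed point free
    have hfpf : ∀ a : A, a ≠ 1 → ∀ n, ρ a n = n → n = 1 := by
      intro a ha n hn
      have h1 : Nat.card K < Nat.card (zpowers a) := by
        rw [hKb, Subgroup.card_bot]
        exact (one_lt_card_iff_ne_bot _).mpr fun h => ha (zpowers_eq_bot.mp h)
      refine mem_bot.mp ((hbig _ h1).le (?_ : n ∈ fixOf ρ (zpowers a)))
      intro k hk
      obtain ⟨i, rfl⟩ := (isOfFinOrder_of_finite a).mem_powers_iff_mem_zpowers.mpr hk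
      clear hk
      induction i with
      | zero => simp
      | succ i ih => dsimp only at ih ⊢; rw [pow_succ, map_mul, MulAut.mul_apply, hn, ih]
    obtain ⟨a, ha⟩ := exists_ne (1 : A)
    have h1 : σ a ≠ a := fun h => ha (hσfix a h)
    have h2 : σ (σ a) ≠ a := by
      intro h
      refine h1 ?_
      obtain ⟨k, hk⟩ := hp.odd_of_ne_two (by omega)
      have h' : ∀ j, (σ ^ (2 * j)) a = a := by
        intro j
        induction j with
        | zero => simp
        | succ j ih =>
          rw [mul_add, mul_one, pow_succ', pow_succ', MulAut.mul_apply, MulAut.mul_apply, ih, h]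
      have := h' (k + 1)
      rwa [show 2 * (k + 1) = 1 + p by omega, pow_add, hσ, mul_one, pow_one] at this
    have hdiff : ∀ u v : A, u ≠ v → ∀ n, ρ u n = ρ v n → n = 1 := by
      intro u v huv n h
      refine hfpf (v⁻¹ * u) (fun h' => huv ?_) n ?_
      · rw [← mul_one v, ← h', mul_inv_cancel_left]
      · rw [map_mul, MulAut.mul_apply, h, ← MulAut.mul_apply, ← map_mul, inv_mul_cancel, map_one,
          MulAut.one_apply]
    refine ⟨fun c => (c.1 : N) * ρ a c.2.1 * ρ (a * a) c.2.2, ?_⟩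
    let f : C × C × C →* N :=
      { toFun := fun c => (c.1 : N) * ρ a c.2.1 * ρ (a * a) c.2.2
        map_one' := by simp
        map_mul' := fun c d => by
          simp only [Prod.fst_mul, Prod.snd_mul, Subgroup.coe_mul, map_mul]
          ac_rfl }
    refine (injective_iff_map_eq_one f).mpr ?_
    rintro ⟨⟨c₀, h₀⟩, ⟨c₁, h₁⟩, ⟨c₂, h₂⟩⟩ hc
    replace h₀ : x c₀ = c₀ := h₀
    replace h₁ : x c₁ = c₁ := h₁
    replace h₂ : x c₂ = c₂ := h₂
    change c₀ * ρ a c₁ * ρ (a * a) c₂ = 1 at hc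
    have e1 := congrArg x hc
    rw [map_one, map_mul, map_mul, h₀, hcompat, hcompat, h₁, h₂, map_mul σ] at e1
    have e2 := congrArg x e1
    rw [map_one, map_mul, map_mul, h₀, hcompat, hcompat, h₁, h₂, map_mul σ] at e2
    have key : ∀ u v : A, u ≠ v → c₀ * ρ u c₁ * ρ (u * u) c₂ = 1 →
        c₀ * ρ v c₁ * ρ (v * v) c₂ = 1 → c₁ * ρ u c₂ * ρ v c₂ = 1 := by
      intro u v huv hu hv
      refine hdiff u v huv _ ?_
      have h3 : ρ u c₁ * ρ (u * u) c₂ = ρ v c₁ * ρ (v * v) c₂ := by
        apply mul_left_cancel (a := c₀)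
        rw [← mul_assoc, ← mul_assoc, hu, hv]
      simp only [map_mul, MulAut.mul_apply]
      have h4 : ρ u (ρ v c₂) = ρ v (ρ u c₂) := by
        rw [← MulAut.mul_apply, ← map_mul, mul_comm, map_mul, MulAut.mul_apply]
      simp only [map_mul, MulAut.mul_apply] at h3
      rw [h3, h4]
      simp only [mul_assoc, mul_comm, mul_left_comm]
    have k1 := key a (σ a) (Ne.symm h1) hc e1
    have k2 := key (σ a) (σ (σ a)) (fun h => h1 (σ.injective h.symm)) e1 e2
    have hc2 : c₂ = 1 := by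
      refine hdiff a (σ (σ a)) (Ne.symm h2) _ ?_
      have : c₁ * ρ (σ a) c₂ * ρ a c₂ = c₁ * ρ (σ a) c₂ * ρ (σ (σ a)) c₂ := by
        rw [k2, ← k1]; ac_rfl
      exact mul_left_cancel this
    subst hc2
    have hc1 : c₁ = 1 := by simpa using k1
    subst hc1
    have hc0 : c₀ = 1 := by simpa using hc
    subst hc0
    rfl
  · -- orbit of a maximal subgroup with fixed points
    let Kc : ℕ → Subgroup A := fun i => K.map ((σ ^ i : MulAut A) : A →* A)
    have hKc_succ : ∀ i, Kc (i + 1) = (Kc i).map (σ : A →* A) := by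
      intro i
      simp only [Kc, Subgroup.map_map]
      congr 1
      ext a
      show (σ ^ (i + 1)) a = σ ((σ ^ i) a)
      rw [pow_succ', MulAut.mul_apply]
    have hKc0 : Kc 0 = K := by
      show K.map _ = K
      rw [pow_zero]
      exact Subgroup.map_id K
    have hKcard : ∀ i, Nat.card (Kc i) = Nat.card K := fun i =>
      Subgroup.card_map_of_injective (σ ^ i).injective
    let O : Finset (Subgroup A) := (Set.toFinite (Set.range Kc)).toFinset
    have hO : ∀ L, L ∈ O ↔ ∃ i, Kc i = L := by simp [O]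
    have hsep : ∀ L ∈ O, ∀ L' ∈ O, L ≠ L' → ∀ n ∈ fixOf ρ L', avg ρ L n = 1 := by
      intro L hL L' hL' hne n hn
      obtain ⟨i, rfl⟩ := (hO _).mp hL
      obtain ⟨j, rfl⟩ := (hO _).mp hL'
      refine mem_bot.mp ((hbig _ ?_).le (avg_mem_fix_of_mem ρ (Kc i) (Kc j) hn))
      refine lt_of_not_ge fun hle => hne ?_
      have e : Kc i = Kc i ⊔ Kc j := eq_of_le_of_card_ge le_sup_left (by rw [hKcard]; exact hle)
      exact (eq_of_le_of_card_ge (e ▸ le_sup_right : Kc j ≤ Kc i) (by rw [hKcard, hKcard])).symm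
    -- equivariance
    have hfixavg : ∀ i, ∀ c, x c = c → (x ^ i) (avg ρ K c) = avg ρ (Kc i) c := by
      intro i c hc
      induction i with
      | zero => rw [pow_zero, MulAut.one_apply, hKc0]
      | succ i ih =>
        rw [pow_succ', MulAut.mul_apply, ih, avg_map ρ x σ hcompat, hc, hKc_succ]
    let G : N →* N := ∏ L ∈ O, avg ρ L
    have hG : ∀ n, G n = ∏ L ∈ O, avg ρ L n := fun n => MonoidHom.finsetProd_apply _ _ n
    let U : Subgroup N := G.eqLocus (powMonoidHom (Nat.card K))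
    let U' : Subgroup N := ⨆ L ∈ O, fixOf ρ L
    have hUU : U' ≤ U := by
      refine iSup₂_le fun L hL n hn => ?_
      show G n = n ^ Nat.card K
      rw [hG, Finset.prod_eq_single_of_mem L hL fun L' hL' hne => hsep L' hL' L hL hne n hn,
        avg_of_mem ρ hn]
      obtain ⟨i, rfl⟩ := (hO _).mp hL
      rw [hKcard]
    have hU'x : ∀ u ∈ U', x u ∈ U' := by
      intro u hu
      have : U' ≤ U'.comap (x : N →* N) := by
        refine iSup₂_le fun L hL n hn => ?_
        obtain ⟨i, rfl⟩ := (hO _).mp hL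
        exact mem_iSup_of_mem _ (mem_iSup_of_mem ((hO _).mpr ⟨i + 1, rfl⟩)
          (hKc_succ i ▸ mem_fix_map ρ x σ hcompat hn))
      exact this hu
    have hU'ρ : ∀ a : A, ∀ u ∈ U', ρ a u ∈ U' := by
      intro a u hu
      have : U' ≤ U'.comap (ρ a : N →* N) := by
        refine iSup₂_le fun L hL n hn => ?_
        refine mem_iSup_of_mem L (mem_iSup_of_mem hL fun k hk => ?_)
        show ρ k (ρ a n) = ρ a n
        rw [← MulAut.mul_apply, ← map_mul, mul_comm, map_mul, MulAut.mul_apply, hn k hk]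
      exact this hu
    have hU'top : U' = ⊤ := by
      refine (hNirr U' hU'x hU'ρ).resolve_left fun h => hK0 ?_
      rw [eq_bot_iff, ← h]
      exact le_iSup₂_of_le (Kc 0) ((hO _).mpr ⟨0, rfl⟩) (by rw [hKc0])
    have hpowK : ∀ n : N, n ^ Nat.card K = 1 → n = 1 := by
      intro n hn
      rw [← orderOf_eq_one_iff]
      exact Nat.eq_one_of_dvd_coprimes
        (hcop.coprime_dvd_right (Subgroup.card_subgroup_dvd_card K))
        (orderOf_dvd_natCard n) (orderOf_dvd_of_pow_eq_one hn)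
    have hinj : ∀ c, x c = c → avg ρ K c = 1 → c = 1 := by
      intro c hc h
      refine hpowK c ?_
      have h2 : G c = c ^ Nat.card K := hUU (hU'top ▸ mem_top c)
      rw [← h2, hG]
      refine Finset.prod_eq_one fun L hL => ?_
      obtain ⟨i, rfl⟩ := (hO _).mp hL
      rw [← hfixavg i c hc, h, map_one]
    have hper : ∀ i, Kc (i + 2) = Kc i → False := by
      intro i h
      have h' : ∀ j, Kc (i + 2 * j) = Kc i := by
        intro j
        induction j with
        | zero => rfl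
        | succ j ih =>
          rw [show i + 2 * (j + 1) = (i + 2 * j) + 1 + 1 by ring, hKc_succ, hKc_succ, ih,
            ← hKc_succ, ← hKc_succ]
          exact h
      obtain ⟨k, hk⟩ := hp.odd_of_ne_two (by omega)
      have h1 := h' (k + 1)
      rw [show i + 2 * (k + 1) = (i + 1) + p by omega] at h1
      have h3 : Kc ((i + 1) + p) = Kc (i + 1) := by
        show K.map _ = K.map _
        rw [pow_add σ (i + 1) p, hσ, mul_one]
      rw [h3] at h1
      rcases hAirr (Kc i) (fun a ha => h1.le (hKc_succ i ▸ Subgroup.mem_map_of_mem _ ha)) with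
        h4 | h4
      · refine hKb (Subgroup.eq_bot_of_card_eq K ?_)
        rw [← hKcard i, h4, Subgroup.card_bot]
      · refine hKtop (Subgroup.eq_top_of_card_eq K ?_)
        rw [← hKcard i, h4, Subgroup.card_top]
    have hne : ∀ i, Kc (i + 1) ≠ Kc i := fun i h => hper i (by rw [hKc_succ, h, ← hKc_succ, h])
    have h02 : Kc 2 ≠ Kc 0 := fun h => hper 0 h
    let f : C × C × C →* N :=
      { toFun := fun c => avg ρ (Kc 0) c.1 * avg ρ (Kc 1) c.2.1 * avg ρ (Kc 2) c.2.2
        map_one' := by simp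
        map_mul' := fun c d => by
          simp only [Prod.fst_mul, Prod.snd_mul, Subgroup.coe_mul, map_mul]
          ac_rfl }
    refine ⟨f, (injective_iff_map_eq_one f).mpr ?_⟩
    rintro ⟨⟨c₀, h₀⟩, ⟨c₁, h₁⟩, ⟨c₂, h₂⟩⟩ hc
    replace h₀ : x c₀ = c₀ := h₀
    replace h₁ : x c₁ = c₁ := h₁
    replace h₂ : x c₂ = c₂ := h₂
    change avg ρ (Kc 0) c₀ * avg ρ (Kc 1) c₁ * avg ρ (Kc 2) c₂ = 1 at hc
    have mO : ∀ i, Kc i ∈ O := fun i => (hO _).mpr ⟨i, rfl⟩
    have hiso : ∀ i j k (ci cj ck : N), Kc i ≠ Kc j → Kc i ≠ Kc k → x ci = ci →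
        avg ρ (Kc i) ci * avg ρ (Kc j) cj * avg ρ (Kc k) ck = 1 → ci = 1 := by
      intro i j k ci cj ck hij hik hci h
      have h5 := congrArg (avg ρ (Kc i)) h
      rw [map_one, map_mul, map_mul, avg_of_mem ρ (avg_mem ρ (Kc i) ci),
        hsep _ (mO i) _ (mO j) hij _ (avg_mem ρ _ cj),
        hsep _ (mO i) _ (mO k) hik _ (avg_mem ρ _ ck), mul_one, mul_one, hKcard] at h5
      have h6 := hpowK _ h5
      rw [← hfixavg i ci hci] at h6
      exact hinj ci hci ((x ^ i).injective (h6.trans (map_one _).symm))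
    have hc0 : c₀ = 1 := hiso 0 1 2 c₀ c₁ c₂ (hne 0).symm h02.symm h₀ hc
    have hc1 : c₁ = 1 := hiso 1 0 2 c₁ c₀ c₂ (hne 0) (hne 1).symm h₁ (by rw [← hc]; ac_rfl)
    have hc2 : c₂ = 1 := hiso 2 0 1 c₂ c₀ c₁ h02 (hne 1) h₂ (by rw [← hc]; ac_rfl)
    subst hc0 hc1 hc2
    rfl

omit hp2 hp hx hσ hσfix hAirr hNirr hfaith hcop hcompat [Finite A] in
/-- If every twisted commutator is the coboundary of a fixed point, `|N| ≤ |C| ^ 2`. -/
theorem card_le_fixed_sq (a a' : A) (R : ℕ) (hR : (Nat.card N).Coprime R)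
    (h : ∀ v : N, ∃ S : N, x S = S ∧ ρ a (v⁻¹ * x v) ^ R = S * (ρ a' S)⁻¹) :
    Nat.card N ≤ Nat.card {n : N // x n = n} ^ 2 := by
  classical
  let g : N →* N :=
    { toFun := fun v => ρ a (v⁻¹ * x v) ^ R
      map_one' := by simp
      map_mul' := fun u v => by
        rw [← mul_pow, ← map_mul (ρ a), map_mul x u v, mul_inv_rev]
        congr 2
        ac_rfl }
  have hker : Nat.card g.ker ≤ Nat.card {n : N // x n = n} := by
    refine Nat.card_le_card_of_injective (fun v => (⟨v.1, ?_⟩ : {n : N // x n = n}))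
      (fun u v huv => Subtype.ext (Subtype.mk.inj huv))
    have h1 : ρ a ((v : N)⁻¹ * x v) ^ R = 1 := v.2
    have h2 : ρ a ((v : N)⁻¹ * x v) = 1 := by
      rw [← orderOf_eq_one_iff]
      exact Nat.eq_one_of_dvd_coprimes hR (orderOf_dvd_natCard _) (orderOf_dvd_of_pow_eq_one h1)
    have h3 : (v : N)⁻¹ * x v = 1 := (ρ a).injective (h2.trans (map_one _).symm)
    exact (inv_mul_eq_one.mp h3).symm
  have hrange : Nat.card g.range ≤ Nat.card {n : N // x n = n} := by
    have hmem : ∀ y : g.range, ∃ S : {n : N // x n = n}, (y : N) = S.1 * (ρ a' S.1)⁻¹ := by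
      rintro ⟨_, v, rfl⟩
      obtain ⟨S, hS, he⟩ := h v
      exact ⟨⟨S, hS⟩, he⟩
    choose s hs using hmem
    refine Nat.card_le_card_of_injective s fun y y' hy => Subtype.ext ?_
    rw [hs y, hs y', hy]
  calc Nat.card N = Nat.card g.ker * Nat.card g.range := by
        rw [← Subgroup.index_ker, Subgroup.card_mul_index]
    _ ≤ _ := by rw [sq]; exact Nat.mul_le_mul hker hrange

end Cfsg.Agent.Hall.Flavell
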