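import Cfsg.Agent.Hall.FlavellCentral
import Cfsg.Agent.Hall.FlavellModule

/-!
Flavell's fixed-point lemma, minimal counterexample: the non-central case.
-/

set_option linter.unusedSectionVars false

namespace Cfsg.Agent.Hall.Flavell

open Subgroup
open scoped commutatorElement

variable {H : Type*} [Group H] [Finite H] [Group.IsSolvable H] {φ : MulAut H} {p : ℕ}

/-- Two invariant complements of an abelian normal `N`: the cocycle of `M` is the coboundary of a
fixed point. -/
theorem exists_coboundary {N A M : Subgroup H} [hNn : N.Normal] (hN : Inv φ N) (hA : Inv φ A)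
    (hM : Inv φ M) (hcomm : ∀ a ∈ N, ∀ b ∈ N, a * b = b * a)
    (hNM : N ⊔ M = ⊤) (hMN : M ⊓ N = ⊥) {b n : H} (hb : b ∈ A) (hn : n ∈ N) (hnb : n * b ∈ M) :
    ∃ S ∈ N, φ S = S ∧ n ^ Nat.card A = S * (b * S * b⁻¹)⁻¹ := by
  classical
  letI := Fintype.ofFinite A
  letI : CommGroup N := { mul_comm := fun a c => Subtype.ext (hcomm a a.2 c c.2) }
  have huniq : ∀ {y : H} {m m' : H}, m ∈ N → m' ∈ N → m * y ∈ M → m' * y ∈ M → m = m' := by
    intro y m m' hm hm' h h'
    have h2 : m * y * (m' * y)⁻¹ ∈ M ⊓ N := by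
      refine Subgroup.mem_inf.mpr ⟨mul_mem h (inv_mem h'), ?_⟩
      rw [mul_inv_rev, ← mul_assoc, mul_inv_cancel_right]
      exact mul_mem hm (inv_mem hm')
    rw [hMN, mem_bot, mul_inv_eq_one] at h2
    exact mul_right_cancel h2
  have hex : ∀ y : A, ∃ m : N, (m : H) * (y : H) ∈ M := by
    intro y
    have hy : (y : H) ∈ N ⊔ M := by rw [hNM]; exact mem_top _
    obtain ⟨m, hm, z, hz, he⟩ := mem_sup_of_normal_left.mp hy
    exact ⟨⟨m⁻¹, inv_mem hm⟩, by rw [← he, inv_mul_cancel_left]; exact hz⟩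
  choose d hd using hex
  let θ : H →* MulAut N := MulAut.conjNormal
  have hcoc : ∀ u v : A, d (u * v) = d u * θ u (d v) := by
    intro u v
    refine Subtype.ext (huniq (d (u * v)).2 (d u * θ u (d v)).2 (hd (u * v)) ?_)
    have h1 := mul_mem (hd u) (hd v)
    have e : ((d u * θ (u : H) (d v) : N) : H) * ((u * v : A) : H)
        = (d u : H) * (u : H) * ((d v : H) * (v : H)) := by
      rw [Subgroup.coe_mul, Subgroup.coe_mul]
      show (d u : H) * ((u : H) * (d v : H) * (u : H)⁻¹) * ((u : H) * (v : H)) = _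
      group
    rw [e]
    exact h1
  have hφd : ∀ u : A, φ (d u) = d ⟨φ u, hA _ u.2⟩ := by
    intro u
    refine huniq (hN _ (d u).2) (d ⟨φ u, hA _ u.2⟩).2 ?_ (hd ⟨φ u, hA _ u.2⟩)
    have := hM _ (hd u)
    rwa [map_mul] at this
  set S : N := ∏ c : A, d c with hS
  have hdb : (d ⟨b, hb⟩ : H) = n := huniq (d ⟨b, hb⟩).2 hn (hd ⟨b, hb⟩) hnb
  refine ⟨S, S.2, ?_, ?_⟩
  · let φN : N →* N := ((φ : H →* H).comp N.subtype).codRestrict N fun y => hN _ y.2
    have h1 : φN S = S := by
      rw [hS, map_prod]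
      refine Fintype.prod_bijective (fun c : A => (⟨φ c, hA _ c.2⟩ : A)) ?_ _ _
        fun c => Subtype.ext (hφd c)
      exact Finite.injective_iff_bijective.mp fun c c' h =>
        Subtype.ext (φ.injective (congrArg Subtype.val h))
    exact congrArg Subtype.val h1
  · have h1 : S = d ⟨b, hb⟩ ^ Nat.card A * θ b S := by
      rw [hS, map_prod, Nat.card_eq_fintype_card, ← Finset.card_univ, ← Finset.prod_const,
        ← Finset.prod_mul_distrib]
      exact (Fintype.prod_equiv (Equiv.mulLeft (⟨b, hb⟩ : A)) _ _ fun c => (hcoc ⟨b, hb⟩ c).symm).symm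
    have h2 := congrArg Subtype.val h1
    rw [Subgroup.coe_mul, Subgroup.coe_pow, hdb] at h2
    change (S : H) = n ^ Nat.card A * (b * S * b⁻¹) at h2
    rw [eq_mul_inv_iff_mul_eq]
    exact h2.symm

/-- The non-central case. -/
theorem Setup.fx_le_of_noncentral (S : Setup φ p) {q : ℕ} [Fact q.Prime] (hq : ¬ IsPGroup q H)
    {N : Subgroup H} [hNn : N.Normal] (hN : Inv φ N) (hb : N ≠ ⊥)
    (hcomm : ∀ a ∈ N, ∀ b ∈ N, a * b = b * a) (hpow : ∀ a ∈ N, a ^ q = 1)
    (hmin : ∀ U : Subgroup H, U.Normal → Inv φ U → U ≤ N → U = ⊥ ∨ U = N)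
    (hnc : ∃ n ∈ N, ∃ h : H, n * h ≠ h * n) : fx φ ≤ fxGen φ := by
  classical
  by_contra hgoal
  -- the subgroup of elements with good commutators
  have hcmem : ∀ (b : H), ∀ n ∈ N, b * n * b⁻¹ * n⁻¹ ∈ N := fun b n hn =>
    mul_mem (hNn.conj_mem n hn b) (inv_mem hn)
  let D : Subgroup H :=
    { carrier := {b | ∀ n ∈ N, tr φ p (b * n * b⁻¹ * n⁻¹) ∈ fxGen φ}
      one_mem' := fun n _ => by
        rw [one_mul, inv_one, mul_one, mul_inv_cancel, tr_of_fx p (one_mem _), one_pow]
        exact one_mem _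
      mul_mem' := fun {a b} ha hb' n hn => by
        have hn' : b * n * b⁻¹ ∈ N := hNn.conj_mem n hn b
        have e : a * b * n * (a * b)⁻¹ * n⁻¹ =
            (a * (b * n * b⁻¹) * a⁻¹ * (b * n * b⁻¹)⁻¹) * (b * n * b⁻¹ * n⁻¹) := by group
        rw [e, tr_mul hN hcomm p (hcmem a _ hn') (hcmem b n hn)]
        exact mul_mem (ha _ hn') (hb' n hn)
      inv_mem' := fun {a} ha n hn => by
        have hn' : a⁻¹ * n * a⁻¹⁻¹ ∈ N := hNn.conj_mem n hn a⁻¹
        have e : a⁻¹ * n * a⁻¹⁻¹ * n⁻¹ =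
            (a * (a⁻¹ * n * a⁻¹⁻¹) * a⁻¹ * (a⁻¹ * n * a⁻¹⁻¹)⁻¹)⁻¹ := by group
        rw [e, tr_inv hN hcomm p (hcmem a _ hn')]
        exact inv_mem (ha _ hn') }
  have hND : N ≤ D := by
    intro m hm n hn
    rw [hcomm m hm n hn, mul_inv_cancel_right, mul_inv_cancel, tr_of_fx p (one_mem _), one_pow]
    exact one_mem _
  have hfxD : ∀ c ∈ fx φ, c ∈ D := by
    intro c hc n hn
    rw [tr_mul hN hcomm p (hNn.conj_mem n hn c) (inv_mem hn), tr_conj p hc,
      tr_inv hN hcomm p hn]
    exact S.comm_fx hNn hN hb hcomm hc (tr_mem hN p hn) (tr_mem_fx hN hcomm S.pow_eq hn)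
  have hDsub : ∀ B : Subgroup H, Inv φ B → N ⊔ com φ B ≠ ⊤ → B ≤ D := by
    intro B hB hBt
    have hM : Inv φ (N ⊔ com φ B) := inv_sup hN (inv_com hB)
    have h1 : com φ B ≤ D := by
      intro b hb' n hn
      have hbB : com φ (com φ B) = com φ B := by
        refine le_antisymm (com_mono (com_le hB)) ((closure_le _).mpr ?_)
        rintro _ ⟨m, hm, i, rfl⟩
        obtain ⟨k, hk, c, hc, hcB, rfl⟩ := exists_com_mul_fx S.ne_zero S.pow_eq S.coprime hB hm
        have hk' : c⁻¹ * k * c ∈ com φ B := conj_mem_com hcB hk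
        have e : (k * c)⁻¹ * (φ ^ i) (k * c) = (c⁻¹ * k * c)⁻¹ * (φ ^ i) (c⁻¹ * k * c) := by
          rw [map_mul, map_mul, map_mul, map_inv, fx_pow hc i]; group
        rw [SetLike.mem_coe, e]
        exact inv_mul_mem_com hk' i
      have hbM : b ∈ com φ (N ⊔ com φ B) := com_mono le_sup_right (hbB.symm ▸ hb')
      refine S.tr_mem_fxGen hM hBt hN hcomm (f := 1) (hcmem b n hn) (one_mem _) (one_mem _) ?_
      rw [inv_one, mul_one]
      exact comm_mem_com hbM (mem_sup_left hn)
    intro b hb'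
    obtain ⟨k, hk, c, hc, -, rfl⟩ := exists_com_mul_fx S.ne_zero S.pow_eq S.coprime hB hb'
    exact mul_mem (h1 hk) (hfxD c hc)
  -- commutators with `N` generate `N`
  have hgen : ∀ B : Subgroup H, B ≤ D → (⁅B, N⁆ : Subgroup H).Normal → Inv φ (⁅B, N⁆ : Subgroup H) →
      (⁅B, N⁆ : Subgroup H) = ⊥ := by
    intro B hB hn hi
    refine (hmin _ hn hi (commutator_le_right B N)).resolve_right fun he => hgoal ?_
    let T : Subgroup H :=
      { carrier := {z | z ∈ N ∧ tr φ p z ∈ fxGen φ}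
        one_mem' := ⟨one_mem _, by rw [tr_of_fx p (one_mem _), one_pow]; exact one_mem _⟩
        mul_mem' := fun {a b} ha hb => ⟨mul_mem ha.1 hb.1, by
          rw [tr_mul hN hcomm p ha.1 hb.1]; exact mul_mem ha.2 hb.2⟩
        inv_mem' := fun {a} ha => ⟨inv_mem ha.1, by
          rw [tr_inv hN hcomm p ha.1]; exact inv_mem ha.2⟩ }
    have hT : (⁅B, N⁆ : Subgroup H) ≤ T := commutator_le.mpr fun b hb' n hn' =>
      ⟨hcmem b n hn', hB hb' n hn'⟩
    rw [he] at hT
    exact S.fx_le_of_tr hNn hN hb fun n hn' => (hT hn').2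
  have hcominv : ∀ B : Subgroup H, Inv φ B → Inv φ (⁅B, N⁆ : Subgroup H) := by
    intro B hB
    rw [Subgroup.commutator_def]
    refine inv_closure ?_
    rintro _ ⟨b, hb', n, hn, rfl⟩
    exact subset_closure ⟨φ b, hB b hb', φ n, hN n hn, (map_commutatorElement φ.toMonoidHom b n).symm⟩
  -- some `br φ h` is a complement
  have hDtop : D ≠ ⊤ := by
    intro hD
    have h1 := hgen ⊤ hD.ge inferInstance (hcominv ⊤ fun _ _ => mem_top _)
    obtain ⟨n, hn, h, hne⟩ := hnc
    refine hne ?_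
    have := h1 ▸ commutator_mem_commutator (mem_top h) hn
    rw [mem_bot, commutatorElement_eq_one_iff_mul_comm] at this
    exact this.symm
  obtain ⟨h, hh⟩ : ∃ h : H, N ⊔ br φ h = ⊤ := by
    by_contra hne
    push Not at hne
    refine hDtop (eq_top_iff.mpr ?_)
    rw [← S.com_top]
    refine (closure_le _).mpr ?_
    rintro _ ⟨k, -, i, rfl⟩
    refine hDsub (br φ k) (inv_br φ k) (fun ht => hne k (eq_top_iff.mpr ?_)) (inv_mul_mem_br k i)
    rw [← ht]
    exact sup_le le_sup_left ((com_le (inv_br φ k)).trans le_sup_right)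
  set A := br φ h with hA
  have hAi : Inv φ A := inv_br φ h
  -- complements
  have hcompl : ∀ M : Subgroup H, Inv φ M → M ≠ ⊤ → N ⊔ M = ⊤ → M ⊓ N = ⊥ := by
    intro M hMi hMt hM
    have hn : (M ⊓ N).Normal := ⟨fun z hz k => by
      have hk : k ∈ N ⊔ M := by rw [hM]; exact mem_top k
      obtain ⟨n, hn, m, hm, rfl⟩ := mem_sup_of_normal_left.mp hk
      have h1 : m * z * m⁻¹ ∈ M ⊓ N :=
        Subgroup.mem_inf.mpr ⟨mul_mem (mul_mem hm (Subgroup.mem_inf.mp hz).1) (inv_mem hm),
          hNn.conj_mem z (Subgroup.mem_inf.mp hz).2 m⟩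
      have e : n * m * z * (n * m)⁻¹ = n * (m * z * m⁻¹) * n⁻¹ := by group
      rw [e, hcomm n hn _ h1.2, mul_inv_cancel_right]
      exact h1⟩
    refine (hmin _ hn (fun z hz => ⟨hMi z hz.1, hN z hz.2⟩) inf_le_right).resolve_right fun he =>
      hMt ?_
    rw [← hM, sup_eq_right.mpr (he ▸ inf_le_left : N ≤ M)]
  have hAt : A ≠ ⊤ := S.br_ne h
  have hAN : A ⊓ N = ⊥ := hcompl A hAi hAt hh
  have hAD : ¬ A ≤ D := fun h' => hDtop (eq_top_iff.mpr (hh ▸ sup_le hND h'))
  have hproper : ∀ B : Subgroup H, Inv φ B → B ≤ A → B ≠ A → B ≤ D := by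
    intro B hB hBA hne
    refine hDsub B hB fun ht => hne (le_antisymm hBA fun a ha => ?_)
    have ha' : a ∈ N ⊔ B := by
      have : N ⊔ B = ⊤ := eq_top_iff.mpr (ht ▸ sup_le le_sup_left ((com_le hB).trans le_sup_right))
      rw [this]; exact mem_top a
    obtain ⟨n, hn, b, hb', rfl⟩ := mem_sup_of_normal_left.mp ha'
    have : n ∈ A ⊓ N := ⟨by simpa using mul_mem ha (inv_mem (hBA hb')), hn⟩
    rw [hAN, mem_bot] at this
    rw [this, one_mul]
    exact hb'
  -- the kernel of the action is trivial, given that `A` is a group of order prime to `q`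
  -- `A` is a group of prime power order
  obtain ⟨r, hr, hAr⟩ : ∃ r : ℕ, r.Prime ∧ IsPGroup r A := by
    by_contra hne
    push Not at hne
    refine hAD ?_
    have hle : ∀ r : ℕ, r.Prime → (Nat.card A).factorization r ≤ (Nat.card (D ⊓ A : Subgroup H)).factorization r := by
      intro r hr
      have := Fact.mk hr
      let φA : MulAut A :=
        { toFun := fun a => ⟨φ a, hAi _ a.2⟩
          invFun := fun a => ⟨φ⁻¹ a, by
            have hp' : φ⁻¹ = φ ^ (p - 1) := by
              refine inv_eq_of_mul_eq_one_right ?_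
              rw [← pow_succ', Nat.sub_add_cancel S.prime.one_le, S.pow_eq]
            rw [hp']; exact hAi.pow _ _ a.2⟩
          left_inv := fun a => Subtype.ext (φ.symm_apply_apply a)
          right_inv := fun a => Subtype.ext (φ.apply_symm_apply a)
          map_mul' := fun a b => Subtype.ext (map_mul φ (a : H) b) }
      have hpow' : ∀ (i : ℕ) (a : A), (((φA ^ i) a : A) : H) = (φ ^ i) a := by
        intro i
        induction i with
        | zero => intro a; rfl
        | succ i ih =>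
          intro a
          rw [pow_succ', pow_succ', MulAut.mul_apply, MulAut.mul_apply, ← ih]; rfl
      have hpA : φA ^ p = 1 := MulEquiv.ext fun a => Subtype.ext (by
        rw [hpow', S.pow_eq]; rfl)
      obtain ⟨P, hP⟩ := exists_inv_sylow (H := A) S.ne_zero hpA
        (S.coprime.coprime_dvd_left (Subgroup.card_subgroup_dvd_card A)) r
      have hPA : (P : Subgroup A).map A.subtype ≤ A := map_subtype_le _
      have hPi : Inv φ ((P : Subgroup A).map A.subtype) := by
        rintro _ ⟨y, hy, rfl⟩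
        exact ⟨φA y, hP y hy, rfl⟩
      have hPne : (P : Subgroup A).map A.subtype ≠ A := fun he =>
        hne r hr (he ▸ P.isPGroup'.map A.subtype)
      have h1 : Nat.card ((P : Subgroup A).map A.subtype) ∣ Nat.card (D ⊓ A : Subgroup H) :=
        card_dvd_of_le (le_inf (hproper _ hPi hPA hPne) hPA)
      rw [Subgroup.card_map_of_injective A.subtype_injective, P.card_eq_multiplicity] at h1
      exact (hr.pow_dvd_iff_le_factorization Nat.card_pos.ne').mp h1
    have hdvd : Nat.card A ∣ Nat.card (D ⊓ A : Subgroup H) :=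
      (Nat.factorization_le_iff_dvd Nat.card_pos.ne' Nat.card_pos.ne').mp fun r => by
        by_cases hr : r.Prime
        · exact hle r hr
        · simp [Nat.factorization_eq_zero_of_not_prime _ hr]
    exact (eq_of_le_of_card_ge inf_le_right (Nat.le_of_dvd Nat.card_pos hdvd)).ge.trans inf_le_left
  have := Fact.mk hr
  have hNq : IsPGroup q N := fun z => ⟨1, by rw [pow_one]; exact Subtype.ext (hpow z z.2)⟩
  have hrq : r ≠ q := by
    rintro rfl
    refine hq ((?_ : IsPGroup r (⊤ : Subgroup H)).of_equiv Subgroup.topEquiv)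
    rw [← hh]
    exact hNq.to_sup_of_normal_left hAr
  have hcopAN : (Nat.card N).Coprime (Nat.card A) := IsPGroup.coprime_card_of_ne q r hrq.symm N A hNq hAr
  have hnormal : ∀ B : Subgroup H, B ≤ A → (∀ a ∈ A, ∀ b ∈ B, a * b * a⁻¹ ∈ B) →
      (∀ b ∈ B, ∀ n ∈ N, b * n = n * b) → B.Normal := by
    intro B hBA hBn hBc
    refine ⟨fun b hb' k => ?_⟩
    have hk : k ∈ N ⊔ A := by rw [hh]; exact mem_top k
    obtain ⟨n, hn, a, ha, rfl⟩ := mem_sup_of_normal_left.mp hk
    have e : n * a * b * (n * a)⁻¹ = n * (a * b * a⁻¹) * n⁻¹ := by group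
    rw [e, ← hBc _ (hBn a ha b hb') n hn, mul_inv_cancel_right]
    exact hBn a ha b hb'
  -- invariant normal subgroups of `A` centralising `N` are trivial
  have hcentral : ∀ B : Subgroup H, B ≤ A → Inv φ B → (∀ a ∈ A, ∀ b ∈ B, a * b * a⁻¹ ∈ B) →
      (∀ b ∈ B, ∀ n ∈ N, b * n = n * b) → B = ⊥ := by
    intro B hBA hBi hBn hBc
    by_contra hBne
    refine hgoal fun c hc => ?_
    obtain ⟨x, hx, n, hn, hnf, rfl⟩ := S.exists_mul hNn hN hb hc
    refine mul_mem hx ?_
    obtain ⟨y, hy, k, hk, -, hnk⟩ := S.exists_mul (hnormal B hBA hBn hBc) hBi hBne hnf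
    obtain ⟨j, hj⟩ := hAr ⟨k, hBA hk⟩
    have hj' : k ^ r ^ j = 1 := congrArg Subtype.val hj
    have hy' : y = n * k⁻¹ := by rw [hnk, mul_inv_cancel_right]
    have hcom' : Commute n k⁻¹ := (show Commute k n from hBc k hk n hn).symm.inv_right
    have h1 : n ^ r ^ j ∈ fxGen φ := by
      have := pow_mem hy (r ^ j)
      rw [hy', hcom'.mul_pow, inv_pow, hj', inv_one, mul_one] at this
      exact this
    have h2 : (orderOf n).Coprime (r ^ j) :=
      (((Nat.coprime_primes (Fact.out : q.Prime) hr).mpr hrq.symm).coprime_dvd_left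
        (orderOf_dvd_of_pow_eq_one (hpow n hn))).pow_right j
    obtain ⟨m, hm⟩ := exists_pow_eq_self_of_coprime h2.symm
    rw [← hm]
    exact pow_mem h1 m
  -- proper invariant normal subgroups of `A` are trivial
  have hsmall : ∀ B : Subgroup H, B ≤ A → B ≠ A → Inv φ B → (∀ a ∈ A, ∀ b ∈ B, a * b * a⁻¹ ∈ B) →
      B = ⊥ := by
    intro B hBA hne hBi hBn
    refine hcentral B hBA hBi hBn fun b hb' n hn => ?_
    have hn' : (⁅B, N⁆ : Subgroup H).Normal := by
      refine ⟨fun z hz k => ?_⟩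
      have hk : k ∈ N ⊔ A := by rw [hh]; exact mem_top k
      obtain ⟨m, hm, a, ha, rfl⟩ := mem_sup_of_normal_left.mp hk
      have h1 : a * z * a⁻¹ ∈ (⁅B, N⁆ : Subgroup H) := by
        have hle : (⁅B, N⁆ : Subgroup H) ≤
            (⁅B, N⁆ : Subgroup H).comap (MulAut.conj a).toMonoidHom := commutator_le.mpr
          fun b' hb'' n' hn'' => by
            show a * ⁅b', n'⁆ * a⁻¹ ∈ (⁅B, N⁆ : Subgroup H)
            have e : a * ⁅b', n'⁆ * a⁻¹ = ⁅a * b' * a⁻¹, a * n' * a⁻¹⁆ := by
              simp only [commutatorElement_def]; group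
            rw [e]
            exact commutator_mem_commutator (hBn a ha b' hb'') (hNn.conj_mem n' hn'' a)
        exact hle hz
      have e : m * a * z * (m * a)⁻¹ = m * (a * z * a⁻¹) * m⁻¹ := by group
      rw [e, hcomm m hm _ (commutator_le_right B N h1), mul_inv_cancel_right]
      exact h1
    have := commutator_mem_commutator hb' hn
    rw [hgen B (hproper B hBi hBA hne) hn' (hcominv B hBi), mem_bot,
      commutatorElement_eq_one_iff_mul_comm] at this
    exact this
  -- `A` is abelian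
  have hAne : A ≠ ⊥ := fun h0 => hAD (h0 ▸ bot_le)
  have hAcomm : ∀ a ∈ A, ∀ b ∈ A, a * b = b * a := by
    have hB : (⁅A, A⁆ : Subgroup H) = ⊥ := by
      refine hsmall _ (commutator_le.mpr fun a ha b hb' => ?_) ?_ ?_ fun a ha z hz => ?_
      · exact mul_mem (mul_mem (mul_mem ha hb') (inv_mem ha)) (inv_mem hb')
      · have hnt : Nontrivial A := A.nontrivial_iff_ne_bot.mpr hAne
        intro he
        have hnil : Group.IsNilpotent A := hAr.isNilpotent
        have h1 : commutator A = ⊤ := by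
          refine map_injective A.subtype_injective ?_
          rw [map_subtype_commutator, he, ← MonoidHom.range_eq_map, Subgroup.range_subtype]
        exact (Group.IsSolvable.commutator_lt_top_of_nontrivial A).ne h1
      · rw [Subgroup.commutator_def]
        refine inv_closure ?_
        rintro _ ⟨a, ha, b, hb', rfl⟩
        exact subset_closure ⟨φ a, hAi a ha, φ b, hAi b hb',
          (map_commutatorElement φ.toMonoidHom a b).symm⟩
      · exact Coprime.conj_mem (show a ∈ normalizer ((⁅A, A⁆ : Subgroup H) : Set H) from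
          normalizer_commutator_ge_left A A ha) hz
    intro a ha b hb'
    have := commutator_mem_commutator ha hb'
    rwa [hB, mem_bot, commutatorElement_eq_one_iff_mul_comm] at this
  have hirr : ∀ B : Subgroup H, B ≤ A → Inv φ B → B = ⊥ ∨ B = A := fun B hBA hBi =>
    or_iff_not_imp_right.mpr fun hne => hsmall B hBA hne hBi fun a ha b hb' => by
      rw [hAcomm a ha b (hBA hb'), mul_inv_cancel_right]; exact hb'
  have hfpf : ∀ a ∈ A, φ a = a → a = 1 := by
    intro a ha hfix
    rcases hirr (A ⊓ fx φ) inf_le_left (fun z hz => Subgroup.mem_inf.mpr ⟨hAi z hz.1,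
      mem_fx.mpr (congrArg φ (mem_fx.mp (Subgroup.mem_inf.mp hz).2))⟩) with h0 | h0
    · exact mem_bot.mp (h0 ▸ (⟨ha, hfix⟩ : a ∈ A ⊓ fx φ))
    · refine absurd ?_ hAD
      exact fun b hb' => hfxD b (h0.ge hb').2
  -- pass to the module
  letI : CommGroup N := { mul_comm := fun a c => Subtype.ext (hcomm a a.2 c c.2) }
  letI : CommGroup A := { mul_comm := fun a c => Subtype.ext (hAcomm a a.2 c c.2) }
  have hNbij : Function.Bijective (fun z : N => (⟨φ z, hN _ z.2⟩ : N)) :=
    Finite.injective_iff_bijective.mp fun z z' h => Subtype.ext (φ.injective (congrArg Subtype.val h))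
  have hAbij : Function.Bijective (fun z : A => (⟨φ z, hAi _ z.2⟩ : A)) :=
    Finite.injective_iff_bijective.mp fun z z' h => Subtype.ext (φ.injective (congrArg Subtype.val h))
  let fN : N →* N := ((φ : H →* H).comp N.subtype).codRestrict N fun y => hN _ y.2
  let fA : A →* A := ((φ : H →* H).comp A.subtype).codRestrict A fun y => hAi _ y.2
  let xN : MulAut N := MulEquiv.ofBijective fN hNbij
  let σA : MulAut A := MulEquiv.ofBijective fA hAbij
  have hxpow : ∀ (i : ℕ) (z : N), (((xN ^ i) z : N) : H) = (φ ^ i) z := by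
    intro i
    induction i with
    | zero => intro z; rfl
    | succ i ih =>
      intro z
      rw [pow_succ', pow_succ', MulAut.mul_apply, MulAut.mul_apply, ← ih]; rfl
  have hσpow : ∀ (i : ℕ) (z : A), (((σA ^ i) z : A) : H) = (φ ^ i) z := by
    intro i
    induction i with
    | zero => intro z; rfl
    | succ i ih =>
      intro z
      rw [pow_succ', pow_succ', MulAut.mul_apply, MulAut.mul_apply, ← ih]; rfl
  let ρ : A →* MulAut N := (MulAut.conjNormal : H →* MulAut N).comp A.subtype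
  have hcube : Nat.card {n : N // xN n = n} ^ 3 ≤ Nat.card N := by
    have : Nontrivial A := A.nontrivial_iff_ne_bot.mpr hAne
    refine card_fixed_cube_le ρ xN σA (fun a n => Subtype.ext ?_) S.two_lt S.prime
      (MulEquiv.ext fun z => Subtype.ext (by rw [hxpow, S.pow_eq]; rfl))
      (MulEquiv.ext fun z => Subtype.ext (by rw [hσpow, S.pow_eq]; rfl))
      (fun a ha => Subtype.ext (hfpf a a.2 (congrArg Subtype.val ha))) (fun K hK => ?_)
      (fun U hUx hUρ => ?_) (fun a ha => ?_) hcopAN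
    · show φ ((a : H) * n * (a : H)⁻¹) = φ a * φ n * (φ a)⁻¹
      rw [map_mul, map_mul, map_inv]
    · rcases hirr (K.map A.subtype) (map_subtype_le K)
        (by rintro _ ⟨k, hk, rfl⟩; exact ⟨_, hK k hk, rfl⟩) with h0 | h0
      · exact Or.inl ((map_eq_bot_iff_of_injective _ A.subtype_injective).mp h0)
      · refine Or.inr (map_injective A.subtype_injective ?_)
        rw [h0, ← MonoidHom.range_eq_map, Subgroup.range_subtype]
    · have hn : (U.map N.subtype).Normal := by
        refine ⟨?_⟩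
        rintro _ ⟨u, hu, rfl⟩ k
        have hk : k ∈ N ⊔ A := by rw [hh]; exact mem_top k
        obtain ⟨m, hm, a, ha, rfl⟩ := mem_sup_of_normal_left.mp hk
        refine ⟨ρ ⟨a, ha⟩ u, hUρ _ u hu, ?_⟩
        show a * (u : H) * a⁻¹ = m * a * (u : H) * (m * a)⁻¹
        have e : m * a * (u : H) * (m * a)⁻¹ = m * (a * u * a⁻¹) * m⁻¹ := by group
        rw [e, hcomm m hm _ (hNn.conj_mem _ u.2 a), mul_inv_cancel_right]
      rcases hmin _ hn (by rintro _ ⟨u, hu, rfl⟩; exact ⟨_, hUx u hu, rfl⟩) (map_subtype_le U)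
        with h0 | h0
      · exact Or.inl ((map_eq_bot_iff_of_injective _ N.subtype_injective).mp h0)
      · refine Or.inr (map_injective N.subtype_injective ?_)
        rw [h0, ← MonoidHom.range_eq_map, Subgroup.range_subtype]
    · let B : Subgroup H := A ⊓ centralizer (N : Set H)
      have hB : B = ⊥ := by
        refine hcentral B inf_le_left (fun z hz => Subgroup.mem_inf.mpr ⟨hAi z hz.1, ?_⟩)
          (fun c hc z hz => ⟨by rw [hAcomm c hc z hz.1, mul_inv_cancel_right]; exact hz.1, by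
            rw [hAcomm c hc z hz.1, mul_inv_cancel_right]; exact hz.2⟩)
          (fun z hz n hn => (mem_centralizer_iff.mp hz.2 n hn).symm)
        rw [mem_centralizer_iff]
        intro n hn
        obtain ⟨n', hn'⟩ := hNbij.2 ⟨n, hn⟩
        have e : n = φ n' := (congrArg Subtype.val hn').symm
        rw [e, ← map_mul, ← map_mul, mem_centralizer_iff.mp hz.2 n' n'.2]
      refine Subtype.ext (mem_bot.mp (hB ▸ (Subgroup.mem_inf.mpr ⟨a.2, ?_⟩ : (a : H) ∈ B)))
      rw [mem_centralizer_iff]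
      intro n hn
      have := congrArg Subtype.val (ha ⟨n, hn⟩)
      change (a : H) * n * (a : H)⁻¹ = n at this
      conv_lhs => rw [← this]
      rw [inv_mul_cancel_right]
  obtain ⟨a, ha, ha1⟩ := (Subgroup.bot_or_exists_ne_one A).resolve_left hAne
  have hsq : Nat.card N ≤ Nat.card {n : N // xN n = n} ^ 2 := by
    refine card_le_fixed_sq ρ xN (⟨a⁻¹, inv_mem ha⟩ : A)
      (⟨a⁻¹ * φ a, mul_mem (inv_mem ha) (hAi a ha)⟩ : A) (Nat.card A) hcopAN fun v => ?_
    set M := br φ ((v : H) * a)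
    have hMi : Inv φ M := inv_br φ _
    have hg : (v : H)⁻¹ * φ v ∈ N := mul_mem (inv_mem v.2) (hN _ v.2)
    have hn₀ : a⁻¹ * ((v : H)⁻¹ * φ v) * a⁻¹⁻¹ ∈ N := hNn.conj_mem _ hg a⁻¹
    have hgM : a⁻¹ * ((v : H)⁻¹ * φ v) * a⁻¹⁻¹ * (a⁻¹ * φ a) ∈ M := by
      have := inv_mul_mem_br (φ := φ) ((v : H) * a) 1
      rw [pow_one] at this
      have e : a⁻¹ * ((v : H)⁻¹ * φ v) * a⁻¹⁻¹ * (a⁻¹ * φ a)
          = ((v : H) * a)⁻¹ * φ ((v : H) * a) := by rw [map_mul]; group
      rw [e]
      exact this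
    have hNM : N ⊔ M = ⊤ := by
      have h1 : a⁻¹ * φ a ∈ (N ⊔ M) ⊓ A := by
        refine Subgroup.mem_inf.mpr ⟨?_, mul_mem (inv_mem ha) (hAi a ha)⟩
        have := mul_mem (mem_sup_left (T := M) (inv_mem hn₀)) (mem_sup_right (S := N) hgM)
        rwa [inv_mul_cancel_left] at this
      rcases hirr ((N ⊔ M) ⊓ A) inf_le_right
        (fun z hz => ⟨inv_sup hN hMi z hz.1, hAi z hz.2⟩) with h0 | h0
      · rw [h0, mem_bot, inv_mul_eq_one] at h1
        exact absurd (hfpf a ha h1.symm) ha1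
      · exact eq_top_iff.mpr (hh ▸ sup_le le_sup_left (inf_eq_right.mp h0))
    obtain ⟨s, hs, hsf, hse⟩ := exists_coboundary hN hAi hMi hcomm hNM
      (hcompl M hMi (S.br_ne _) hNM) (mul_mem (inv_mem ha) (hAi a ha)) hn₀ hgM
    exact ⟨⟨s, hs⟩, Subtype.ext hsf, Subtype.ext hse⟩
  -- the fixed points of `N` are trivial
  refine hgoal fun c hc => ?_
  obtain ⟨x, hx, n, hn, hnf, rfl⟩ := S.exists_mul hNn hN hb hc
  refine mul_mem hx ?_
  have hle : Nat.card {n : N // xN n = n} ≤ 1 := by
    by_contra hlt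
    push Not at hlt
    have := hcube.trans hsq
    exact absurd this (not_le.mpr (Nat.pow_lt_pow_right hlt (by norm_num)))
  have hsub := Finite.card_le_one_iff_subsingleton.mp hle
  have := congrArg (fun z => ((z.1 : N) : H))
    (Subsingleton.elim (α := {n : N // xN n = n}) ⟨⟨n, hn⟩, Subtype.ext (mem_fx.mp hnf)⟩
      ⟨1, map_one _⟩)
  change n = 1 at this
  rw [this]
  exact one_mem _

end Cfsg.Agent.Hall.Flavell
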