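import Cfsg.Agent.Hall.FlavellSteps
import Cfsg.Agent.PGroups.Basic
import Mathlib.GroupTheory.Frattini

/-!
Flavell's fixed-point lemma for a minimal counterexample that is a `q`-group: work with the last
nontrivial term of the lower central series.
-/

set_option linter.unusedSectionVars false

namespace Cfsg.Agent.Hall.Flavell

open Subgroup
open scoped commutatorElement

variable {H : Type*} [Group H]

/-- The orbit subgroup of `h`. -/
def orb (φ : MulAut H) (h : H) : Subgroup H := closure {x : H | ∃ i : ℕ, x = (φ ^ i) h}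

theorem inv_orb (φ : MulAut H) (h : H) : Inv φ (orb φ h) := by
  refine inv_closure ?_
  rintro _ ⟨i, rfl⟩
  exact subset_closure ⟨i + 1, by rw [pow_succ', MulAut.mul_apply]⟩

theorem mem_orb (φ : MulAut H) (h : H) : h ∈ orb φ h := subset_closure ⟨0, by simp⟩

theorem inv_sup {φ : MulAut H} {A B : Subgroup H} (hA : Inv φ A) (hB : Inv φ B) :
    Inv φ (A ⊔ B) := by
  intro x hx
  rw [sup_eq_closure] at hx ⊢
  exact inv_closure (fun y hy => hy.elim (fun h => subset_closure (Or.inl (hA y h)))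
    (fun h => subset_closure (Or.inr (hB y h)))) x hx

theorem inv_of_char {φ : MulAut H} (K : Subgroup H) [hK : K.Characteristic] : Inv φ K := by
  intro x hx
  have := hK.fixed φ
  rw [← this] at hx
  exact hx

variable [Finite H] [Group.IsSolvable H] {φ : MulAut H} {p : ℕ}

/-- Each `h` lies with the Frattini subgroup in a proper invariant subgroup. -/
theorem Setup.exists_proper (S : Setup φ p) {q : ℕ} [Fact q.Prime] (hH : IsPGroup q H) (h : H) :
    Inv φ (frattini H ⊔ orb φ h) ∧ frattini H ⊔ orb φ h ≠ ⊤ := by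
  refine ⟨inv_sup (inv_of_char _) (inv_orb φ h), fun htop => ?_⟩
  refine S.br_ne h (frattini_nongenerating ?_)
  set W := br φ h ⊔ frattini H with hW
  have hcW : commutator H ≤ W := (PGroups.commutator_le_frattini hH).trans le_sup_right
  have : W.Normal := ⟨fun w hw k => by
    have := mul_mem (hcW (commutator_mem_commutator (mem_top k) (mem_top w))) hw
    simpa [commutatorElement_def] using this⟩
  have hWinv : Inv φ W := inv_sup (inv_br φ h) (inv_of_char _)
  let K : Subgroup H :=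
    { carrier := {k | ∀ i : ℕ, k⁻¹ * (φ ^ i) k ∈ W}
      one_mem' := fun i => by simp
      mul_mem' := fun {a b} ha hb i => by
        have e : (a * b)⁻¹ * (φ ^ i) (a * b)
            = (b⁻¹ * (a⁻¹ * (φ ^ i) a) * b⁻¹⁻¹) * (b⁻¹ * (φ ^ i) b) := by
          rw [map_mul]; group
        rw [e]
        exact mul_mem (this.conj_mem _ (ha i) b⁻¹) (hb i)
      inv_mem' := fun {a} ha i => by
        have e : a⁻¹⁻¹ * (φ ^ i) a⁻¹ = a * (a⁻¹ * (φ ^ i) a)⁻¹ * a⁻¹ := by
          rw [map_inv]; group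
        rw [e]
        exact this.conj_mem _ (inv_mem (ha i)) a }
  have hK : frattini H ⊔ orb φ h ≤ K := by
    refine sup_le (fun k hk i => ?_) ((closure_le _).mpr ?_)
    · exact mul_mem (inv_mem (mem_sup_right hk))
        (hWinv.pow i _ (mem_sup_right hk))
    · rintro _ ⟨j, rfl⟩ i
      have e : ((φ ^ j) h)⁻¹ * (φ ^ i) ((φ ^ j) h)
          = (h⁻¹ * (φ ^ j) h)⁻¹ * (h⁻¹ * (φ ^ (i + j)) h) := by
        rw [← MulAut.mul_apply, ← pow_add]; group
      rw [e]
      exact mem_sup_left (mul_mem (inv_mem (inv_mul_mem_br h j)) (inv_mul_mem_br h (i + j)))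
  rw [htop] at hK
  rw [eq_top_iff, ← S.com_top]
  refine (closure_le _).mpr ?_
  rintro _ ⟨k, -, i, rfl⟩
  exact hK (mem_top k) i

/-- The `q`-group case. -/
theorem Setup.fx_le_of_isPGroup (S : Setup φ p) {q : ℕ} [Fact q.Prime] (hH : IsPGroup q H)
    [Nontrivial H] : fx φ ≤ fxGen φ := by
  classical
  have := hH.isNilpotent
  set L : ℕ → Subgroup H := fun n => Subgroup.lowerCentralSeries (⊤ : Subgroup H) n with hL
  set c := Group.nilpotencyClass H with hc
  have hLc : L c = ⊥ := Subgroup.lowerCentralSeries_nilpotencyClass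
  have hc0 : c ≠ 0 := by
    intro h0
    rw [h0] at hLc
    exact top_ne_bot (α := Subgroup H) hLc
  obtain ⟨d, hd⟩ := Nat.exists_eq_succ_of_ne_zero hc0
  have hZb : L d ≠ ⊥ := by
    intro hb
    have := Subgroup.lowerCentralSeries_eq_bot_iff_nilpotencyClass_le.mp hb
    omega
  have hcen : ∀ z ∈ L d, ∀ x : H, z * x = x * z := by
    intro z hz x
    have : ⁅z, x⁆ ∈ L (d + 1) := commutator_mem_commutator hz (mem_top x)
    rw [show d + 1 = c by omega] at this
    rw [hLc, mem_bot, commutatorElement_eq_one_iff_mul_comm] at this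
    exact this
  have hcomm : ∀ a ∈ L d, ∀ b ∈ L d, a * b = b * a := fun a ha b _ => hcen a ha b
  have hZn : (L d).Normal := inferInstance
  have hZi : Inv φ (L d) := inv_of_char _
  rcases Nat.eq_zero_or_pos d with h0 | hdpos
  · intro f hf
    have h1 := S.fx_le_commutator hf
    rw [← top_lowerCentralSeries_one] at h1
    have : c = 1 := by omega
    rw [← this] at h1
    rw [show f = 1 from by simpa [hL] using hLc.le h1]
    exact one_mem _
  obtain ⟨e, he⟩ := Nat.exists_eq_succ_of_ne_zero hdpos.ne'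
  -- commutators of fixed points are covered
  have hfix : ∀ c₁ ∈ fx φ, ∀ c₂ ∈ fx φ, c₁ * c₂ * c₁⁻¹ * c₂⁻¹ ∈ fxGen φ := by
    intro c₁ h₁ c₂ h₂
    obtain ⟨x₁, hx₁, m₁, hm₁, -, rfl⟩ := S.exists_mul hZn hZi hZb h₁
    obtain ⟨x₂, hx₂, m₂, hm₂, -, rfl⟩ := S.exists_mul hZn hZi hZb h₂
    have e' : x₁ * m₁ * (x₂ * m₂) * (x₁ * m₁)⁻¹ * (x₂ * m₂)⁻¹ = x₁ * x₂ * x₁⁻¹ * x₂⁻¹ := by
      calc x₁ * m₁ * (x₂ * m₂) * (x₁ * m₁)⁻¹ * (x₂ * m₂)⁻¹
          = x₁ * (m₁ * x₂) * m₂ * m₁⁻¹ * x₁⁻¹ * m₂⁻¹ * x₂⁻¹ := by group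
        _ = x₁ * (x₂ * m₁) * m₂ * m₁⁻¹ * x₁⁻¹ * m₂⁻¹ * x₂⁻¹ := by rw [hcen m₁ hm₁ x₂]
        _ = x₁ * x₂ * (m₁ * m₂) * m₁⁻¹ * x₁⁻¹ * m₂⁻¹ * x₂⁻¹ := by group
        _ = x₁ * x₂ * (m₂ * x₁⁻¹) * m₂⁻¹ * x₂⁻¹ := by rw [hcen m₁ hm₁ m₂]; group
        _ = x₁ * x₂ * x₁⁻¹ * x₂⁻¹ := by rw [hcen m₂ hm₂ x₁⁻¹]; group
    rw [e']
    exact mul_mem (mul_mem (mul_mem hx₁ hx₂) (inv_mem hx₁)) (inv_mem hx₂)
  -- commutators inside a proper invariant subgroup
  have hin : ∀ M : Subgroup H, Inv φ M → M ≠ ⊤ → ∀ a ∈ M, ∀ b ∈ M,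
      ⁅a, b⁆ ∈ L d → tr φ p ⁅a, b⁆ ∈ fxGen φ := by
    intro M hM hMt a ha b hb hab
    obtain ⟨c₁, h₁, c₂, h₂, h₁M, h₂M, hmod⟩ := S.comm_mod_com hM ha hb
    exact S.tr_mem_fxGen hM hMt hZi hcomm hab
      (mul_mem (mul_mem (mul_mem h₁M h₂M) (inv_mem h₁M)) (inv_mem h₂M))
      (hfix c₁ h₁ c₂ h₂) (by rwa [commutatorElement_def])
  refine S.fx_le_of_tr hZn hZi hZb ?_
  let T : Subgroup H :=
    { carrier := {z | z ∈ L d ∧ tr φ p z ∈ fxGen φ}
      one_mem' := ⟨one_mem _, by rw [tr_of_fx p (one_mem _), one_pow]; exact one_mem _⟩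
      mul_mem' := fun {a b} ha hb => ⟨mul_mem ha.1 hb.1, by
        rw [tr_mul hZi hcomm p ha.1 hb.1]; exact mul_mem ha.2 hb.2⟩
      inv_mem' := fun {a} ha => ⟨inv_mem ha.1, by
        rw [tr_inv hZi hcomm p ha.1]; exact inv_mem ha.2⟩ }
  suffices hgen : ∀ a ∈ L e, ∀ h : H, tr φ p ⁅a, h⁆ ∈ fxGen φ by
    have hTle : L d ≤ T := by
      rw [he]
      refine commutator_le.mpr fun a ha h _ => ⟨?_, hgen a ha h⟩
      rw [he]
      exact commutator_mem_commutator ha (mem_top h)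
    exact fun n hn => (hTle hn).2
  have hmemZ : ∀ a ∈ L e, ∀ h : H, ⁅a, h⁆ ∈ L d := fun a ha h => by
    rw [he]; exact commutator_mem_commutator ha (mem_top h)
  rcases Nat.eq_zero_or_pos e with h0 | hepos
  swap
  · intro a ha h
    obtain ⟨hM, hMt⟩ := S.exists_proper hH h
    have ha1 : a ∈ commutator H := by
      rw [← top_lowerCentralSeries_one]
      exact Subgroup.lowerCentralSeries_antitone _ hepos ha
    exact hin _ hM hMt a (mem_sup_left (PGroups.commutator_le_frattini hH ha1)) h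
      (mem_sup_right (mem_orb φ h)) (hmemZ a ha h)
  -- class two: an alternating invariant pairing with `B(u, φ u) = 0`
  have hu : ∀ u : H, u ∈ L e := fun u => by rw [h0]; exact mem_top u
  have hZmem : ∀ u v : H, ⁅u, v⁆ ∈ L d := fun u v => hmemZ u (hu u) v
  let B : H → H → H := fun u v => tr φ p ⁅u, v⁆
  have hBZ : ∀ u v, B u v ∈ L d := fun u v => tr_mem hZi p (hZmem u v)
  have hBl : ∀ u u' v, B (u * u') v = B u v * B u' v := by
    intro u u' v
    show tr φ p _ = _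
    have e' : ⁅u * u', v⁆ = ⁅u, v⁆ * ⁅u', v⁆ := by
      rw [commutatorElement_mul_left_eq_conj_mul]
      rw [← hcen _ (hZmem u' v) u, mul_inv_cancel_right, hcen _ (hZmem u' v)]
    rw [e', tr_mul hZi hcomm p (hZmem u v) (hZmem u' v)]
  have hBr : ∀ u v v', B u (v * v') = B u v * B u v' := by
    intro u v v'
    show tr φ p _ = _
    have e' : ⁅u, v * v'⁆ = ⁅u, v⁆ * ⁅u, v'⁆ := by
      have : ⁅u, v * v'⁆ = ⁅u, v⁆ * (v * ⁅u, v'⁆ * v⁻¹) := by
        simp only [commutatorElement_def]; group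
      rw [this, ← hcen _ (hZmem u v') v, mul_inv_cancel_right]
    rw [e', tr_mul hZi hcomm p (hZmem u v) (hZmem u v')]
  have hBinv : ∀ u v, B v u = (B u v)⁻¹ := by
    intro u v
    show tr φ p _ = _
    rw [← commutatorElement_inv, tr_inv hZi hcomm p (hZmem u v)]
  have hBφ : ∀ u v, B (φ u) (φ v) = B u v := by
    intro u v
    show tr φ p _ = _
    have hcomp : ∀ n z, tr φ n (φ z) = φ (tr φ n z) := by
      intro n z
      induction n with
      | zero => simp [tr]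
      | succ n ihn => rw [tr, tr, ihn, map_mul]
    rw [← map_commutatorElement, hcomp]
    exact tr_mem_fx hZi hcomm S.pow_eq (hZmem u v)
  have hBu : ∀ u, B u (φ u) ∈ fxGen φ := by
    intro u
    obtain ⟨hM, hMt⟩ := S.exists_proper hH u
    exact hin _ hM hMt u (mem_sup_right (mem_orb φ u)) _ (hM u (mem_sup_right (mem_orb φ u)))
      (hZmem u _)
  have hB1 : ∀ u v, B u (φ v) * (B (φ u) v)⁻¹ ∈ fxGen φ := by
    intro u v
    have h1 := hBu (u * v)
    rw [map_mul, hBl, hBr, hBr, hBinv (φ u) v] at h1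
    have h2 : B u (φ v) * (B (φ u) v)⁻¹ =
        (B u (φ u))⁻¹ * (B u (φ u) * B u (φ v) * ((B (φ u) v)⁻¹ * B v (φ v))) * (B v (φ v))⁻¹ := by
      group
    rw [h2]
    exact mul_mem (mul_mem (inv_mem (hBu u)) h1) (inv_mem (hBu v))
  have hB2 : ∀ u w, B u (w⁻¹ * φ (φ w)) ∈ fxGen φ := by
    intro u w
    have h1 := hB1 u (φ w)
    rw [hBφ u w] at h1
    have h3 : B u w⁻¹ = (B u w)⁻¹ := by
      have h4 := hBr u w⁻¹ 1
      refine eq_inv_of_mul_eq_one_left ?_
      rw [← hBr, inv_mul_cancel]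
      show tr φ p ⁅u, (1 : H)⁆ = 1
      rw [commutatorElement_one_right, tr_of_fx p (one_mem _), one_pow]
    rw [hBr, h3, hcen _ (inv_mem (hBZ u w))]
    exact h1
  intro u _ v
  let K : Subgroup H :=
    { carrier := {w | B u w ∈ fxGen φ}
      one_mem' := by
        show tr φ p ⁅u, (1 : H)⁆ ∈ fxGen φ
        rw [commutatorElement_one_right, tr_of_fx p (one_mem _), one_pow]; exact one_mem _
      mul_mem' := fun {a b} (ha : B u a ∈ fxGen φ) (hb : B u b ∈ fxGen φ) => by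
        show B u (a * b) ∈ fxGen φ
        rw [hBr]; exact mul_mem ha hb
      inv_mem' := fun {a} (ha : B u a ∈ fxGen φ) => by
        show B u a⁻¹ ∈ fxGen φ
        have h4 : B u a⁻¹ * B u a = 1 := by
          rw [← hBr, inv_mul_cancel]
          show tr φ p ⁅u, (1 : H)⁆ = 1
          rw [commutatorElement_one_right, tr_of_fx p (one_mem _), one_pow]
        rw [eq_inv_of_mul_eq_one_left h4]
        exact inv_mem ha }
  have hKeven : ∀ (j : ℕ) (w : H), w⁻¹ * (φ ^ (2 * j)) w ∈ K := by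
    intro j
    induction j with
    | zero => intro w; simp
    | succ j ih =>
      intro w
      have e' : w⁻¹ * (φ ^ (2 * (j + 1))) w
          = (w⁻¹ * (φ ^ (2 * j)) w) * (((φ ^ (2 * j)) w)⁻¹ * φ (φ ((φ ^ (2 * j)) w))) := by
        rw [mul_add, mul_one, pow_succ', pow_succ', MulAut.mul_apply, MulAut.mul_apply]
        group
      rw [e']
      exact mul_mem (ih w) (hB2 u _)
  have hK : com φ ⊤ ≤ K := by
    refine (closure_le _).mpr ?_
    rintro _ ⟨w, -, i, rfl⟩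
    obtain ⟨k, hk⟩ := (S.prime.odd_of_ne_two (by have := S.two_lt; omega)).add_odd odd_one
    have hφ : φ ^ i = φ ^ (2 * (k * i)) := by
      rw [← mul_assoc, pow_mul φ (2 * k) i, two_mul, ← hk, pow_succ, S.pow_eq, one_mul]
    rw [SetLike.mem_coe, hφ]
    exact hKeven (k * i) w
  exact hK (by rw [S.com_top]; exact mem_top v)

end Cfsg.Agent.Hall.Flavell
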