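import Cfsg.Agent.Hall.FlavellBasic
import Mathlib.GroupTheory.Transfer

/-!
Steps of the induction for Flavell's fixed-point lemma, stated for a group `H = [H, φ]` in which the
proper invariant subgroups are already known to satisfy the lemma (`hsub`) and in which the fixed
points are covered modulo every invariant normal subgroup (`hlift`).
-/

set_option linter.unusedSectionVars false

namespace Cfsg.Agent.Hall.Flavell

open Subgroup

variable {H : Type*} [Group H]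

/-- The inductive hypotheses available in a minimal counterexample. -/
structure Setup (φ : MulAut H) (p : ℕ) : Prop where
  two_lt : 2 < p
  prime : p.Prime
  pow_eq : φ ^ p = 1
  coprime : (Nat.card H).Coprime p
  com_top : com φ ⊤ = ⊤
  sub : ∀ M : Subgroup H, Inv φ M → M ≠ ⊤ → ∀ c ∈ com φ M, c ∈ fx φ → c ∈ fxGen φ
  br_ne : ∀ h : H, br φ h ≠ ⊤
  lift : ∀ N : Subgroup H, N.Normal → Inv φ N → N ≠ ⊥ → fx φ ≤ fxGen φ ⊔ (fx φ ⊓ N)

variable {φ : MulAut H} {p : ℕ}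

theorem Setup.ne_zero (S : Setup φ p) : p ≠ 0 := S.prime.ne_zero

theorem Setup.exists_mul (S : Setup φ p) {N : Subgroup H} (hNn : N.Normal) (hN : Inv φ N)
    (hb : N ≠ ⊥) {c : H} (hc : c ∈ fx φ) :
    ∃ x ∈ fxGen φ, ∃ m ∈ N, m ∈ fx φ ∧ c = x * m := by
  have h : c ∈ fxGen φ ⊔ N :=
    ((S.lift N hNn hN hb).trans (sup_le_sup le_rfl inf_le_right) : fx φ ≤ fxGen φ ⊔ N) hc
  obtain ⟨x, hx, m, hm, hxm⟩ := (mem_sup_of_normal_right (ht := hNn)).mp h
  refine ⟨x, hx, m, hm, ?_, hxm.symm⟩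
  have hm' : m = x⁻¹ * c := by rw [← hxm, inv_mul_cancel_left]
  rw [hm']
  exact mul_mem (inv_mem (fxGen_le_fx φ hx)) hc

variable [Finite H]

/-- Enough to control the orbit products of `N`. -/
theorem Setup.fx_le_of_tr (S : Setup φ p) {N : Subgroup H} (hNn : N.Normal) (hN : Inv φ N)
    (hb : N ≠ ⊥) (htr : ∀ n ∈ N, tr φ p n ∈ fxGen φ) : fx φ ≤ fxGen φ := by
  intro c hc
  obtain ⟨x, hx, m, hm, hmf, rfl⟩ := S.exists_mul hNn hN hb hc
  refine mul_mem hx (pow_mem_cancel S.coprime ?_)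
  rw [← tr_of_fx p hmf]
  exact htr m hm

/-- Commutators of fixed points lie in `fxGen` when fixed points are covered modulo abelian `N`. -/
theorem Setup.comm_fx (S : Setup φ p) {N : Subgroup H} (hNn : N.Normal) (hN : Inv φ N)
    (hb : N ≠ ⊥) (hcomm : ∀ a ∈ N, ∀ b ∈ N, a * b = b * a) {c n : H} (hc : c ∈ fx φ) (hn : n ∈ N)
    (hnf : n ∈ fx φ) : c * n * c⁻¹ * n⁻¹ ∈ fxGen φ := by
  obtain ⟨x, hx, m, hm, -, rfl⟩ := S.exists_mul hNn hN hb hc
  have e1 : m * n * m⁻¹ = n := by rw [hcomm m hm n hn]; group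
  have e2 : x * m * n * (x * m)⁻¹ * n⁻¹ = x * (n * x⁻¹ * n⁻¹) := by
    calc x * m * n * (x * m)⁻¹ * n⁻¹ = x * (m * n * m⁻¹) * x⁻¹ * n⁻¹ := by group
      _ = _ := by rw [e1]; group
  rw [e2]
  exact mul_mem hx (conj_mem_fxGen hnf (inv_mem hx))

omit [Finite H] in
theorem comm_mem_com {M : Subgroup H} {a h : H} (ha : a ∈ com φ M) (hh : h ∈ M) :
    a * h * a⁻¹ * h⁻¹ ∈ com φ M := by
  have e : a * h * a⁻¹ * h⁻¹ = a * (h * a⁻¹ * h⁻¹) := by group
  rw [e]
  exact mul_mem ha (conj_mem_com' hh (inv_mem ha))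

variable [Group.IsSolvable H]

/-- A commutator is a commutator of fixed points modulo `com φ M`. -/
theorem Setup.comm_mod_com (S : Setup φ p) {M : Subgroup H} (hM : Inv φ M) {a b : H} (ha : a ∈ M)
    (hb : b ∈ M) : ∃ c₁ ∈ fx φ, ∃ c₂ ∈ fx φ, c₁ ∈ M ∧ c₂ ∈ M ∧
      (a * b * a⁻¹ * b⁻¹) * (c₁ * c₂ * c₁⁻¹ * c₂⁻¹)⁻¹ ∈ com φ M := by
  obtain ⟨k₁, hk₁, c₁, hc₁, hc₁M, rfl⟩ := exists_com_mul_fx S.ne_zero S.pow_eq S.coprime hM ha
  obtain ⟨k₂, hk₂, c₂, hc₂, hc₂M, rfl⟩ := exists_com_mul_fx S.ne_zero S.pow_eq S.coprime hM hb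
  refine ⟨c₁, hc₁, c₂, hc₂, hc₁M, hc₂M, ?_⟩
  have e : k₁ * c₁ * (k₂ * c₂) * (k₁ * c₁)⁻¹ * (k₂ * c₂)⁻¹ * (c₁ * c₂ * c₁⁻¹ * c₂⁻¹)⁻¹
      = k₁ * (c₁ * k₂ * c₁⁻¹) * ((c₁ * c₂ * c₁⁻¹) * k₁⁻¹ * (c₁ * c₂ * c₁⁻¹)⁻¹) *
        ((c₁ * c₂ * c₁⁻¹ * c₂⁻¹) * k₂⁻¹ * (c₁ * c₂ * c₁⁻¹ * c₂⁻¹)⁻¹) := by group
  rw [e]
  have h1 : c₁ * c₂ * c₁⁻¹ ∈ M := mul_mem (mul_mem hc₁M hc₂M) (inv_mem hc₁M)
  exact mul_mem (mul_mem (mul_mem hk₁ (conj_mem_com' hc₁M hk₂)) (conj_mem_com' h1 (inv_mem hk₁)))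
    (conj_mem_com' (mul_mem h1 (inv_mem hc₂M)) (inv_mem hk₂))

/-- Orbit products of elements that are fixed modulo `com φ M`. -/
theorem Setup.tr_mem_fxGen (S : Setup φ p) {M N : Subgroup H} (hM : Inv φ M) (hMt : M ≠ ⊤)
    (hN : Inv φ N) (hcomm : ∀ a ∈ N, ∀ b ∈ N, a * b = b * a) {f z : H} (hz : z ∈ N) (hfM : f ∈ M)
    (hf : f ∈ fxGen φ) (h : z * f⁻¹ ∈ com φ M) : tr φ p z ∈ fxGen φ := by
  have hff := fxGen_le_fx φ hf
  have h1 := tr_mul_com hM p hfM hff h
  have h2 : tr φ p z * (f ^ p)⁻¹ ∈ fx φ :=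
    mul_mem (tr_mem_fx hN hcomm S.pow_eq hz) (inv_mem (pow_mem hff p))
  have h3 := mul_mem (S.sub M hM hMt _ h1 h2) (pow_mem hf p)
  rwa [inv_mul_cancel_right] at h3

/-- Fixed points lie in the derived subgroup. -/
theorem Setup.fx_le_commutator (S : Setup φ p) : fx φ ≤ commutator H := by
  intro c hc
  refine pow_mem_cancel S.coprime ?_
  rw [← Abelianization.ker_of, MonoidHom.mem_ker, ← tr_of_fx p hc]
  -- the map sending an element to the image of its orbit product is a homomorphism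
  let π : H →* Abelianization H := Abelianization.of
  have hmul : ∀ (n : ℕ) (x y : H), π (tr φ n (x * y)) = π (tr φ n x) * π (tr φ n y) := by
    intro n
    induction n with
    | zero => intro x y; simp [tr]
    | succ n ih =>
      intro x y
      have hA : π (φ (tr φ n (x * y))) = π (φ (tr φ n x)) * π (φ (tr φ n y)) := by
        have h := ih x y
        rw [← map_mul] at h
        have h' : (tr φ n (x * y)) * (tr φ n x * tr φ n y)⁻¹ ∈ commutator H := by
          rw [← Abelianization.ker_of, MonoidHom.mem_ker, map_mul, map_inv, h, mul_inv_cancel]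
        have h'' : φ ((tr φ n (x * y)) * (tr φ n x * tr φ n y)⁻¹) ∈ commutator H := by
          have := (inferInstance : (commutator H).Characteristic).fixed φ
          rw [← this] at h'
          exact h'
        rw [← Abelianization.ker_of, MonoidHom.mem_ker, map_mul, map_mul, map_inv, map_inv,
          mul_inv_eq_one, map_mul, map_mul] at h''
        exact h''
      rw [tr, tr, tr, map_mul, map_mul π x (φ _), map_mul π y (φ _), map_mul π x y, hA]
      rw [mul_mul_mul_comm]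
  let E : H →* Abelianization H :=
    { toFun := fun x => π (tr φ p x)
      map_one' := by rw [tr_of_fx p (one_mem _), one_pow, map_one]
      map_mul' := hmul p }
  have hφ : ∀ (x : H) (i : ℕ), E ((φ ^ i) x) = E x := by
    intro x i
    induction i with
    | zero => simp
    | succ i ih =>
      rw [pow_succ', MulAut.mul_apply, ← ih]
      generalize (φ ^ i) x = y
      show π (tr φ p (φ y)) = π (tr φ p y)
      have h1 : tr φ (p + 1) y = tr φ p y * y := by
        rw [tr_succ', S.pow_eq, MulAut.one_apply]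
      have hcomp : ∀ n, tr φ n (φ y) = φ (tr φ n y) := by
        intro n
        induction n with
        | zero => simp [tr]
        | succ n ihn => rw [tr, tr, ihn, map_mul]
      rw [tr] at h1
      have h2 := congrArg π h1
      rw [map_mul, map_mul, mul_comm (π (tr φ p y))] at h2
      rw [hcomp]
      exact mul_left_cancel h2
  have hker : com φ ⊤ ≤ E.ker := by
    refine (closure_le _).mpr ?_
    rintro _ ⟨h, -, i, rfl⟩
    rw [SetLike.mem_coe, MonoidHom.mem_ker, map_mul, map_inv, hφ, inv_mul_cancel]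
  exact hker (by rw [S.com_top]; exact mem_top c)

end Cfsg.Agent.Hall.Flavell
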