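import Cfsg.Agent.Hall.TwoClassSizes
import Cfsg.Agent.H75.Cover
import Cfsg.Agent.Coprime.Centralize

/-!
Tools for groups with class sizes `{1, n, m, nm}`, `n` and `m` coprime.
-/

set_option autoImplicit false
set_option linter.style.haveILetI false
set_option linter.unusedSectionVars false

namespace Cfsg.Agent.Hall.FourSizes

open Subgroup TwoSizes

variable {G : Type*} [Group G]

/-- Centralizer of an element. -/
local notation "C[" g "]" => centralizer ({g} : Set _)

/-- The class sizes are `1, n, m, nm`. -/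
structure Four (n m : ℕ) (G : Type*) [Group G] : Prop where
  hn : 1 < n
  hm : 1 < m
  cop : n.Coprime m
  idx : ∀ g : G, g ∈ center G ∨ (centralizer ({g} : Set G)).index = n ∨
    (centralizer ({g} : Set G)).index = m ∨ (centralizer ({g} : Set G)).index = n * m
  exn : ∃ g : G, (centralizer ({g} : Set G)).index = n
  exm : ∃ g : G, (centralizer ({g} : Set G)).index = m
  exnm : ∃ g : G, (centralizer ({g} : Set G)).index = n * m

theorem mem_C {g h : G} : h ∈ C[g] ↔ Commute h g := mem_centralizer_singleton_iff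

theorem self_mem_C (g : G) : g ∈ C[g] := mem_C.mpr (Commute.refl g)

theorem center_le_C (g : G) : center G ≤ C[g] := fun z hz =>
  mem_C.mpr ((mem_center_iff.mp hz g).symm)

theorem index_C_eq_one {g : G} : (C[g]).index = 1 ↔ g ∈ center G := by
  rw [index_eq_one, eq_top_iff, mem_center_iff]
  simp only [SetLike.le_def, mem_top, true_implies, mem_C]
  exact Iff.rfl

theorem Four.symm {n m : ℕ} (F : Four n m G) : Four m n G where
  hn := F.hm
  hm := F.hn
  cop := F.cop.symm
  idx g := by
    rcases F.idx g with h | h | h | h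
    · exact Or.inl h
    · exact Or.inr (Or.inr (Or.inl h))
    · exact Or.inr (Or.inl h)
    · exact Or.inr (Or.inr (Or.inr (by rw [h, mul_comm])))
  exn := F.exm
  exm := F.exn
  exnm := by rw [mul_comm]; exact F.exnm

theorem C_mul_eq {x y : G} (hc : Commute x y) (hco : (orderOf x).Coprime (orderOf y)) :
    C[x * y] = C[x] ⊓ C[y] := by
  obtain ⟨j, hj⟩ := exists_pow_eq_self_of_coprime (x := x) hco.symm
  have hx : ((x * y) ^ orderOf y) ^ j = x := by rw [hc.mul_pow, pow_orderOf_eq_one, mul_one, hj]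
  refine le_antisymm (fun g hg => ?_) fun g hg => ?_
  · rw [mem_C] at hg
    have h1 : Commute g x := hx ▸ (hg.pow_right _).pow_right _
    refine mem_inf.mpr ⟨mem_C.mpr h1, mem_C.mpr ?_⟩
    have := (h1.inv_right).mul_right hg
    rwa [inv_mul_cancel_left] at this
  · obtain ⟨h1, h2⟩ := mem_inf.mp hg
    exact mem_C.mpr ((mem_C.mp h1).mul_right (mem_C.mp h2))

/-- A power of `g` having order the full `l`-part of `g`. -/
theorem exists_decomp [Finite G] {l : ℕ} (hl : l.Prime) (g : G) :
    ∃ u b : G, IsQ l u ∧ (orderOf b).Coprime l ∧ u * b = g ∧ u ∈ zpowers g ∧ b ∈ zpowers g := by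
  set N := orderOf g
  have hN : 0 < N := orderOf_pos g
  set P := l ^ N.factorization l
  have hPR : P * (N / P) = N := Nat.ordProj_mul_ordCompl_eq_self N l
  have hcop : (N / P).Coprime P :=
    ((hl.coprime_iff_not_dvd.mpr (Nat.not_dvd_ordCompl hl hN.ne')).symm).pow_right _
  set R := N / P
  have hbez := Int.gcd_eq_gcd_ab (R : ℤ) (P : ℤ)
  rw [show Int.gcd (R : ℤ) (P : ℤ) = 1 from hcop, Nat.cast_one] at hbez
  refine ⟨(g ^ R) ^ Int.gcdA R P, (g ^ P) ^ Int.gcdB R P, ⟨N.factorization l, ?_⟩, ?_, ?_, ?_, ?_⟩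
  · rw [← zpow_natCast ((g ^ R) ^ Int.gcdA R P), ← zpow_mul, mul_comm, zpow_mul, zpow_natCast,
      ← pow_mul, mul_comm R]
    rw [hPR, pow_orderOf_eq_one, one_zpow]
  · refine Nat.Coprime.coprime_dvd_left ?_
      (hl.coprime_iff_not_dvd.mpr (Nat.not_dvd_ordCompl hl hN.ne')).symm
    refine orderOf_dvd_of_pow_eq_one ?_
    rw [← zpow_natCast ((g ^ P) ^ Int.gcdB R P), ← zpow_mul, mul_comm, zpow_mul, zpow_natCast,
      ← pow_mul, hPR, pow_orderOf_eq_one, one_zpow]
  · rw [← zpow_natCast g R, ← zpow_natCast g P, ← zpow_mul, ← zpow_mul, ← zpow_add, ← hbez,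
      zpow_one]
  · exact zpow_mem (pow_mem (mem_zpowers g) _) _
  · exact zpow_mem (pow_mem (mem_zpowers g) _) _

/-- A subgroup containing all primary powers of an element contains the element. -/
theorem mem_of_primary [Finite G] {S : Subgroup G} {g : G}
    (h : ∀ l : ℕ, l.Prime → ∀ y ∈ zpowers g, IsQ l y → y ∈ S) : g ∈ S := by
  have hd : orderOf g ∣ Nat.card (zpowers g ⊓ S : Subgroup G) := by
    rw [Nat.dvd_iff_prime_pow_dvd_dvd]
    intro l k hl hlk
    have hy : orderOf (g ^ (orderOf g / l ^ k)) = l ^ k :=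
      orderOf_pow_orderOf_div (orderOf_pos g).ne' hlk
    have hmem : g ^ (orderOf g / l ^ k) ∈ zpowers g ⊓ S :=
      mem_inf.mpr ⟨pow_mem (mem_zpowers g) _, h l hl _ (pow_mem (mem_zpowers g) _)
        ⟨k, orderOf_dvd_iff_pow_eq_one.mp (dvd_of_eq hy)⟩⟩
    rw [← hy, ← Subgroup.orderOf_mk _ hmem]
    exact orderOf_dvd_natCard _
  have h3 : zpowers g ⊓ S = zpowers g :=
    eq_of_le_of_card_ge inf_le_left (by
      rw [Nat.card_zpowers]; exact Nat.le_of_dvd Nat.card_pos hd)
  exact inf_eq_left.mp h3 (mem_zpowers g)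

theorem le_of_primary [Finite G] {K S : Subgroup G}
    (h : ∀ l : ℕ, l.Prime → ∀ y ∈ K, IsQ l y → y ∈ S) : K ≤ S := fun g hg =>
  mem_of_primary fun l hl y hy hq => h l hl y (zpowers_le.mpr hg hy) hq

theorem C_le_of_mem_zpowers {g y : G} (hy : y ∈ zpowers g) : C[g] ≤ C[y] := by
  intro h hh
  obtain ⟨k, rfl⟩ := mem_zpowers_iff.mp hy
  exact mem_C.mpr ((mem_C.mp hh).zpow_right k)

/-- The `l`-part of the order of a subgroup. -/
noncomputable def lp (l : ℕ) (K : Subgroup G) : ℕ := l ^ (Nat.card K).factorization l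

theorem exists_nc_of_lt [Finite G] {l : ℕ} [Fact l.Prime] {K : Subgroup G}
    (h : Nat.card (cenPart l G) < lp l K) : ∃ u ∈ K, IsQ l u ∧ u ∉ center G := by
  by_contra hno
  push Not at hno
  obtain ⟨P⟩ := (inferInstance : Nonempty (Sylow l K))
  have hle : (P : Subgroup K).map K.subtype ≤ cenPart l G := by
    rintro u ⟨u', hu', rfl⟩
    have hq : IsQ l (u' : G) := IsQ.of_mem (P.2.map K.subtype) (mem_map_of_mem K.subtype hu')
    exact ⟨hno _ u'.2 hq, hq⟩
  have := card_le_of_le hle
  rw [card_map_of_injective (subtype_injective _), P.card_eq_multiplicity] at this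
  exact absurd this (not_le.mpr h)

theorem lt_of_nc [Finite G] {l : ℕ} [Fact l.Prime] {K : Subgroup G} (hK : center G ≤ K) {u : G}
    (hu : u ∈ K) (huq : IsQ l u) (huZ : u ∉ center G) : Nat.card (cenPart l G) < lp l K := by
  have hcp : IsPGroup l (cenPart l G) := by
    rintro ⟨x, -, k, hk⟩
    exact ⟨k, Subtype.ext hk⟩
  have hzp : IsPGroup l (zpowers u) := by
    obtain ⟨j, hj⟩ := huq.orderOf_eq (Fact.out : l.Prime)
    exact IsPGroup.of_card (n := j) (by rw [Nat.card_zpowers, hj])
  have hsup : IsPGroup l (zpowers u ⊔ cenPart l G : Subgroup G) :=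
    IsPGroup.to_sup_of_normal_right hzp hcp
  have hle : zpowers u ⊔ cenPart l G ≤ K := sup_le (zpowers_le.mpr hu) fun z hz => hK hz.1
  obtain ⟨j, hj⟩ := IsPGroup.iff_card.mp hsup
  have hd : l ^ j ∣ Nat.card K := hj ▸ card_dvd_of_le hle
  refine lt_of_lt_of_le ?_ (Nat.pow_le_pow_right (Fact.out : l.Prime).pos
    (((Fact.out : l.Prime).pow_dvd_iff_le_factorization Nat.card_pos.ne').mp hd))
  rw [← hj]
  refine lt_of_le_of_ne (card_le_of_le le_sup_right) fun he => huZ ?_
  exact ((eq_of_le_of_card_ge (le_sup_right : cenPart l G ≤ _) he.ge).symm ▸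
    mem_sup_left (mem_zpowers u) : u ∈ cenPart l G).1

theorem lp_mul [Finite G] {l : ℕ} (hl : l.Prime) (K : Subgroup G) :
    lp l K * l ^ K.index.factorization l = l ^ (Nat.card G).factorization l := by
  rw [lp, ← pow_add, ← K.card_mul_index,
    Nat.factorization_mul Nat.card_pos.ne' index_ne_zero_of_finite, Finsupp.add_apply]

theorem lp_le_of_index_dvd [Finite G] {l : ℕ} (hl : l.Prime) {K L : Subgroup G}
    (h : K.index ∣ L.index) : lp l L ≤ lp l K := by
  have h1 := lp_mul hl K
  have h2 := lp_mul hl L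
  have h3 : l ^ K.index.factorization l ≤ l ^ L.index.factorization l :=
    Nat.pow_le_pow_right hl.pos
      ((Nat.factorization_le_iff_dvd index_ne_zero_of_finite index_ne_zero_of_finite).mpr h l)
  by_contra hlt
  push Not at hlt
  have := Nat.mul_lt_mul_of_lt_of_le hlt h3 (pow_pos hl.pos _)
  omega

theorem hasNC_of_dvd [Finite G] {l : ℕ} [Fact l.Prime] {g : G} (h : l ∣ (C[g]).index) :
    HasNC l G := by
  by_contra hno
  obtain ⟨P⟩ := (inferInstance : Nonempty (Sylow l G))
  refine P.not_dvd_index (h.trans (index_dvd_of_le fun u hu => center_le_C g ?_))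
  by_contra huZ
  exact hno ⟨u, IsQ.of_mem P.2 hu, huZ⟩

/-- If every `s`-regular element has class size prime to `s`, then the `s`-elements commute with
the `s`-regular elements. -/
theorem commute_of_regular [Finite G] {s : ℕ} [Fact s.Prime]
    (h : ∀ b : G, (orderOf b).Coprime s → ¬ s ∣ (C[b]).index) {u b : G} (hu : IsQ s u)
    (hb : (orderOf b).Coprime s) : Commute u b := by
  obtain ⟨S⟩ := (inferInstance : Nonempty (Sylow s G))
  set K := (S : Subgroup G) ⊔ centralizer ((S : Subgroup G) : Set G) with hKdef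
  have hK : K = ⊤ := by
    refine H75.eq_top_of_conj_cover K fun g => ?_
    obtain ⟨u0, b0, hu0, hb0, hub, hu0z, hb0z⟩ := exists_decomp (Fact.out : s.Prime) g
    have hu0C : u0 ∈ C[b0] := by
      obtain ⟨i, rfl⟩ := mem_zpowers_iff.mp hu0z
      obtain ⟨j, rfl⟩ := mem_zpowers_iff.mp hb0z
      exact mem_C.mpr (Commute.zpow_zpow_self g i j)
    have hP1 : IsPGroup s (zpowers (⟨u0, hu0C⟩ : C[b0])) := by
      obtain ⟨j, hj⟩ := hu0.orderOf_eq (Fact.out : s.Prime)
      exact IsPGroup.of_card (n := j) (by rw [Nat.card_zpowers, Subgroup.orderOf_mk, hj])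
    obtain ⟨P1, hP1'⟩ := hP1.exists_le_sylow
    obtain ⟨P, hP⟩ := (P1.isPGroup'.map (C[b0]).subtype).exists_le_sylow
    have hv : (P1 : Subgroup C[b0]).map (C[b0]).subtype = (P : Subgroup G) := by
      apply eq_of_le_of_card_ge hP
      rw [Sylow.card_eq_multiplicity, card_map_of_injective (subtype_injective _),
        Sylow.card_eq_multiplicity, ← card_mul_index C[b0],
        Nat.factorization_mul Nat.card_pos.ne' index_ne_zero_of_finite, Finsupp.add_apply,
        Nat.factorization_eq_zero_of_not_dvd (h b0 hb0), add_zero]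
    obtain ⟨a, ha⟩ := MulAction.exists_smul_eq G P S
    have hmem : ∀ x ∈ (P : Subgroup G), a * x * a⁻¹ ∈ (S : Subgroup G) := by
      intro x hx
      rw [← ha, Sylow.smul_def, Sylow.pointwise_smul_def, mem_pointwise_smul_iff_inv_smul_mem,
        ← map_inv, MulAut.smul_def, MulAut.conj_apply, inv_inv]
      simpa [mul_assoc] using hx
    refine ⟨a, ?_⟩
    rw [← hub, show a * (u0 * b0) * a⁻¹ = (a * u0 * a⁻¹) * (a * b0 * a⁻¹) by group]
    refine mul_mem (mem_sup_left (hmem _ ?_)) (mem_sup_right ?_)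
    · rw [← hv]
      exact ⟨_, hP1' (mem_zpowers _), rfl⟩
    · rw [mem_centralizer_iff]
      intro x hx
      have hx' : a⁻¹ * x * a ∈ (P : Subgroup G) := by
        rw [SetLike.mem_coe, ← ha, Sylow.smul_def, Sylow.pointwise_smul_def,
          mem_pointwise_smul_iff_inv_smul_mem, ← map_inv, MulAut.smul_def, MulAut.conj_apply,
          inv_inv] at hx
        exact hx
      rw [← hv] at hx'
      obtain ⟨y, -, hy⟩ := hx'
      have hc := mem_C.mp y.2
      rw [show (y : G) = a⁻¹ * x * a from hy] at hc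
      calc x * (a * b0 * a⁻¹) = a * ((a⁻¹ * x * a) * b0) * a⁻¹ := by group
        _ = a * (b0 * (a⁻¹ * x * a)) * a⁻¹ := by rw [hc.eq]
        _ = a * b0 * a⁻¹ * x := by group
  have hSn : (S : Subgroup G).Normal := by
    rw [← normalizer_eq_top_iff]
    exact eq_top_iff.mpr (hK ▸ sup_le le_normalizer (centralizer_le_normalizer _))
  haveI := hSn
  set Z := centralizer ((S : Subgroup G) : Set G)
  have huS : u ∈ (S : Subgroup G) := by
    have hzp : IsPGroup s (zpowers u) := by
      obtain ⟨j, hj⟩ := hu.orderOf_eq (Fact.out : s.Prime)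
      exact IsPGroup.of_card (n := j) (by rw [Nat.card_zpowers, hj])
    exact S.is_maximal' (IsPGroup.to_sup_of_normal_right hzp S.2) le_sup_right ▸
      mem_sup_left (mem_zpowers u)
  have hbZ : b ∈ Z := by
    rw [← QuotientGroup.eq_one_iff, ← orderOf_eq_one_iff]
    refine Nat.eq_one_of_dvd_coprimes (a := orderOf b) (b := Nat.card (S : Subgroup G)) ?_
      (orderOf_map_dvd (QuotientGroup.mk' Z) b) ?_
    · obtain ⟨j, hj⟩ := IsPGroup.iff_card.mp S.2
      rw [hj]
      exact hb.pow_right j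
    · refine (_root_.orderOf_dvd_natCard _).trans ?_
      rw [← index_eq_card]
      have h1 : Z.relIndex ((S : Subgroup G) ⊔ Z) = Z.relIndex (S : Subgroup G) :=
        Subgroup.relIndex_sup_right (S : Subgroup G) Z
      rw [← relIndex_top_right, ← hK, h1]
      exact relIndex_dvd_card Z (S : Subgroup G)
  exact mem_centralizer_iff.mp hbZ u huS

variable {n m : ℕ}

theorem Four.not_center_n (F : Four n m G) {g : G} (h : (C[g]).index = n) : g ∉ center G :=
  fun hg => by
    have := index_C_eq_one.mpr hg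
    have := F.hn
    omega

theorem Four.eq_of_dvd (F : Four n m G) {g : G} (hg : g ∉ center G) (h : (C[g]).index ∣ n) :
    (C[g]).index = n := by
  rcases F.idx g with h1 | h1 | h1 | h1
  · exact absurd h1 hg
  · exact h1
  · rw [h1] at h
    have h2 : m ∣ 1 := F.cop ▸ Nat.dvd_gcd h dvd_rfl
    have := Nat.dvd_one.mp h2
    have := F.hm
    omega
  · rw [h1] at h
    have h2 := Nat.le_of_dvd (by have := F.hn; omega) h
    have h3 : n * 1 < n * m := Nat.mul_lt_mul_of_pos_left F.hm (by have := F.hn; omega)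
    omega

theorem Four.cases_of_dvd (F : Four n m G) {g : G} (h : n ∣ (C[g]).index) :
    g ∉ center G ∧ ((C[g]).index = n ∨ (C[g]).index = n * m) := by
  have hn := F.hn
  refine ⟨fun hg => ?_, ?_⟩
  · rw [index_C_eq_one.mpr hg, Nat.dvd_one] at h
    omega
  · rcases F.idx g with h1 | h1 | h1 | h1
    · rw [index_C_eq_one.mpr h1, Nat.dvd_one] at h
      omega
    · exact Or.inl h1
    · rw [h1] at h
      have h2 : n ∣ 1 := F.cop ▸ Nat.dvd_gcd dvd_rfl h
      have := Nat.dvd_one.mp h2
      omega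
    · exact Or.inr h1

theorem Four.index_dvd_nm (F : Four n m G) (g : G) : (C[g]).index ∣ n * m := by
  rcases F.idx g with h1 | h1 | h1 | h1
  · exact (index_C_eq_one.mpr h1).symm ▸ one_dvd _
  · exact h1 ▸ dvd_mul_right _ _
  · exact h1 ▸ dvd_mul_left _ _
  · rw [h1]

theorem index_mul {x b : G} (hc : Commute x b) (hco : (orderOf x).Coprime (orderOf b)) :
    (C[x * b]).index = (C[b]).relIndex C[x] * (C[x]).index := by
  rw [C_mul_eq hc hco, inf_comm, ← inf_relIndex_right C[b] C[x],
    relIndex_mul_index inf_le_right]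

theorem index_C_subtype {H : Subgroup G} (b : H) :
    (centralizer ({b} : Set H)).index = (C[(b : G)]).relIndex H := by
  have : centralizer ({b} : Set H) = (C[(b : G)]).subgroupOf H := by
    ext h
    rw [mem_subgroupOf, mem_centralizer_singleton_iff, mem_centralizer_singleton_iff]
    exact Subtype.ext_iff
  rw [this]
  rfl

theorem Four.exists_primary [Finite G] (F : Four n m G) :
    ∃ (l : ℕ) (_ : Fact l.Prime) (x : G), IsQ l x ∧ (C[x]).index = n := by
  obtain ⟨g, hg⟩ := F.exn
  by_contra hno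
  push Not at hno
  refine F.not_center_n hg (mem_of_primary fun l hl y hy hq => ?_)
  by_contra hyZ
  exact hno l ⟨hl⟩ y hq (F.eq_of_dvd hyZ (hg ▸ index_dvd_of_le (C_le_of_mem_zpowers hy)))

end Cfsg.Agent.Hall.FourSizes
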