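import Mathlib
import Cfsg.Agent.S0120
import Cfsg.Agent.Cores.UpperSeries
import Cfsg.Agent.Cores.Constrained
import Cfsg.Agent.Cores.PSolvable
import Cfsg.Agent.Hall.SchurZassenhaus
import Cfsg.Agent.Coprime.Basic
import Cfsg.Agent.H76.PElements

/-!
Gaschütz–Yen: a `p`-solvable group (`p` odd) whose automorphism group is transitive on the
subgroups of order `p` has `p`-length one.  With trivial `p'`-core the elements of order `p` are
central in `F = O_p`; a complement `L` to `F` in the preimage of `O_{p'}(G/F)` has normalizer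
meeting `F` trivially, so this normalizer is a complement to `F` without elements of order `p`.
-/

set_option autoImplicit false

namespace Cfsg.Agent.Hall

open scoped Pointwise

variable {G : Type*} [Group G] [Finite G] {p : ℕ} [hpf : Fact p.Prime]

/-- The core of the Gaschütz–Yen theorem. -/
theorem not_dvd_index_pCore_of_transitive (hp : p ≠ 2) (hG : Cfsg.IsPSolvable p G)
    (hO : Cfsg.pPrimeCore p G = ⊥)
    (htrans : ∀ U V : Subgroup G, Nat.card U = p → Nat.card V = p →
      ∃ a : MulAut G, U.map a.toMonoidHom = V) :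
    ¬ p ∣ (Cfsg.pCore p G).index := by
  intro hdvd
  have hpp : p.Prime := hpf.out
  set F := Cfsg.pCore p G with hF
  have : F.Normal := Cfsg.pCore_normal p G
  have hFp : IsPGroup p F := Cores.pCore_isPGroup
  have hFne : F ≠ ⊥ := by
    intro h
    have : Nontrivial G := by
      by_contra hnt
      rw [not_nontrivial_iff_subsingleton] at hnt
      have : F.index = 1 := by rw [Subgroup.index_eq_one]; exact Subsingleton.elim _ _
      rw [this] at hdvd
      exact hpp.one_lt.ne' (Nat.dvd_one.mp hdvd)
    exact Cores.pCore_ne_bot_of_pPrimeCore_eq_bot hG hO h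
  have hC : Subgroup.centralizer (F : Set G) ≤ F := Cores.centralizer_pCore_le hG hO
  have hFmap : ∀ α : MulAut G, ∀ y ∈ F, α y ∈ F := fun α y hy => by
    have h := Cores.pCore_map_mulEquiv (p := p) α
    rw [hF, ← h]
    exact ⟨y, hy, rfl⟩
  -- the elements of order `p` are central in `F`
  have hcent : ∀ x : G, x ^ p = 1 → x ∈ F ∧ ∀ f ∈ F, Commute f x := by
    intro x hx
    rcases eq_or_ne x 1 with rfl | hx1
    · exact ⟨one_mem _, fun f _ => Commute.one_right f⟩
    have : Nontrivial F := (Subgroup.nontrivial_iff_ne_bot F).mpr hFne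
    have : Nontrivial (Subgroup.center F) := hFp.center_nontrivial
    obtain ⟨z, hz⟩ := exists_prime_orderOf_dvd_card' (G := Subgroup.center F) p (by
      rcases (IsPGroup.to_subgroup hFp (Subgroup.center F)).card_eq_or_dvd with h | h
      · exact absurd h Finite.one_lt_card.ne'
      · exact h)
    set w : G := ((z : F) : G) with hw
    have hwo : orderOf w = p := by rw [hw, Subgroup.orderOf_coe, Subgroup.orderOf_coe, hz]
    obtain ⟨α, hα⟩ := htrans (Subgroup.zpowers w) (Subgroup.zpowers x)
      (by rw [Nat.card_zpowers, hwo]) (by rw [Nat.card_zpowers, orderOf_eq_prime hx hx1])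
    have hxα : x ∈ Subgroup.zpowers (α w) := by
      have : α w = α.toMonoidHom w := rfl
      rw [this, ← MonoidHom.map_zpowers, hα]
      exact Subgroup.mem_zpowers x
    obtain ⟨k, rfl⟩ := Subgroup.mem_zpowers_iff.mp hxα
    refine ⟨zpow_mem (hFmap α w (z : F).2) k, fun f hf => (?_ : Commute f (α w)).zpow_right k⟩
    have h1 := Subgroup.mem_center_iff.mp z.2 ⟨α.symm f, hFmap α.symm f hf⟩
    have h2 : Commute (α.symm f) w := congrArg Subtype.val h1
    have h3 := h2.map α.toMonoidHom
    simpa using h3
  -- the layer above `F`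
  set π := QuotientGroup.mk' F with hπ
  set O := Cfsg.pPrimeCore p (G ⧸ F) with hOdef
  have : Nontrivial (G ⧸ F) := by
    rw [← Finite.one_lt_card_iff_nontrivial, ← Subgroup.index_eq_card]
    exact lt_of_lt_of_le hpp.one_lt (Nat.le_of_dvd
      (Nat.pos_of_ne_zero Subgroup.index_ne_zero_of_finite) hdvd)
  have hOne : O ≠ ⊥ :=
    (Cores.pCore_ne_bot_or_pPrimeCore_ne_bot (Cores.isPSolvable_quotient hG F)).resolve_left
      (fun h => h Cores.pCore_quotient_pCore)
  set K := O.comap π with hK
  have hKn : K.Normal := (Cfsg.pPrimeCore_normal p (G ⧸ F)).comap π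
  have hFK : F ≤ K := fun x hx => by
    rw [hK, Subgroup.mem_comap, hπ, QuotientGroup.mk'_apply, (QuotientGroup.eq_one_iff x).mpr hx]
    exact one_mem _
  have hKmap : ∀ α : MulAut G, K.map α.toMonoidHom = K := by
    intro α
    refine Subgroup.eq_of_le_of_card_ge ?_ (le_of_eq (Subgroup.card_map_of_injective α.injective).symm)
    rintro _ ⟨k, hk, rfl⟩
    let e : G ⧸ F ≃* G ⧸ F := QuotientGroup.congr F F α (by
      rw [hF]; exact Cores.pCore_map_mulEquiv α)
    have h1 : e (π k) ∈ O := by
      rw [hOdef, ← Cores.pPrimeCore_map_mulEquiv e]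
      exact ⟨π k, hk, rfl⟩
    exact h1
  have hrel : F.relIndex K = Nat.card O := by
    have := Subgroup.relIndex_comap (f := π) (H := (⊥ : Subgroup (G ⧸ F))) K
    rw [MonoidHom.comap_bot, hπ, QuotientGroup.ker_mk'] at this
    rw [this, hK, Subgroup.map_comap_eq_self_of_surjective (QuotientGroup.mk'_surjective F),
      Subgroup.relIndex_bot_left]
  obtain ⟨a, ha⟩ := IsPGroup.iff_card.mp hFp
  have hcopO : (Nat.card F).Coprime (Nat.card O) := by
    rw [ha]; exact (Cores.coprime_card_pPrimeCore (p := p)).symm.pow_left a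
  have : (F.subgroupOf K).Normal := Subgroup.normal_subgroupOf
  have hcopK : (Nat.card (F.subgroupOf K)).Coprime (F.subgroupOf K).index := by
    rw [Nat.card_congr (Subgroup.subgroupOfEquivOfLe hFK).toEquiv]
    show (Nat.card F).Coprime (F.relIndex K)
    rwa [hrel]
  obtain ⟨L₀, hL₀⟩ := Subgroup.exists_right_complement'_of_coprime hcopK
  set L := L₀.map K.subtype with hL
  have hLK : L ≤ K := Subgroup.map_subtype_le _
  have hLcard : Nat.card L = Nat.card O := by
    rw [hL, Subgroup.card_map_of_injective K.subtype_injective, ← hrel]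
    exact (hL₀.symm.index_eq_card).symm
  have hFL : F ⊔ L = K := by
    have h := congrArg (Subgroup.map K.subtype) hL₀.sup_eq_top
    rw [Subgroup.map_sup, Subgroup.subgroupOf_map_subtype, inf_eq_left.mpr hFK, ← hL,
      ← MonoidHom.range_eq_map, Subgroup.range_subtype] at h
    exact h
  have hcopL : (Nat.card F).Coprime (Nat.card L) := hLcard ▸ hcopO
  have hLne : L ≠ ⊥ := fun h => hOne (by
    rw [← Subgroup.card_eq_one, ← hLcard, h, Subgroup.card_bot])
  have hconj : ∀ α : MulAut G, ∃ b ∈ F, MulAut.conj b • L = L.map α.toMonoidHom := by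
    intro α
    refine conj_complement_internal ?_ ?_ (Subgroup.card_map_of_injective α.injective) hcopL
      (Or.inl ?_)
    · exact le_top.trans (Subgroup.normalizer_eq_top (H := F)).ge
    · rw [hFL]
      conv_lhs => rw [← hKmap α, ← hFL, Subgroup.map_sup]
      rw [show F.map α.toMonoidHom = F from Cores.pCore_map_mulEquiv α]
    · haveI := hFp.isNilpotent
      infer_instance
  set N := Subgroup.normalizer (L : Set G) with hN
  have htop : F ⊔ N = ⊤ := by
    rw [eq_top_iff]
    intro g _
    obtain ⟨b, hb, hbL⟩ := hconj (MulAut.conj g)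
    have hmem : b⁻¹ * g ∈ N := by
      have h' : MulAut.conj (b⁻¹ * g) • L = L := by
        have h2 : MulAut.conj g • L = L.map (MulAut.conj g).toMonoidHom := rfl
        rw [map_mul, mul_smul, h2, ← hbL, ← mul_smul, ← map_mul, inv_mul_cancel, map_one, one_smul]
      refine Coprime.mem_normalizer_of_map_conj ?_
      exact h'
    have : g = b * (b⁻¹ * g) := by group
    rw [this]
    exact mul_mem (Subgroup.mem_sup_left hb) (Subgroup.mem_sup_right hmem)
  have hdisj : ∀ y ∈ F, y ∈ N → y = 1 := by
    by_contra hcon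
    simp only [not_forall] at hcon
    obtain ⟨y₀, hyF₀, hyN₀, hy1₀⟩ := hcon
    -- a fixed element of order `p`
    obtain ⟨j, hj⟩ := hFp ⟨y₀, hyF₀⟩
    obtain ⟨y, hyF, hyN, hyo⟩ : ∃ y ∈ F, y ∈ N ∧ orderOf y = p := by
      have : Nontrivial (Subgroup.zpowers y₀) :=
        (Subgroup.nontrivial_iff_ne_bot _).mpr (Subgroup.zpowers_ne_bot.mpr hy1₀)
      have hP : IsPGroup p (Subgroup.zpowers y₀) := hFp.to_le (Subgroup.zpowers_le.mpr hyF₀)
      obtain ⟨u, hu⟩ := exists_prime_orderOf_dvd_card' (G := Subgroup.zpowers y₀) p (by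
        rcases hP.card_eq_or_dvd with h | h
        · exact absurd h Finite.one_lt_card.ne'
        · exact h)
      exact ⟨u, Subgroup.zpowers_le.mpr hyF₀ u.2, Subgroup.zpowers_le.mpr hyN₀ u.2,
        by rw [Subgroup.orderOf_coe, hu]⟩
    have hyL : ∀ l ∈ L, Commute y l := by
      intro l hl
      have h1 : y * l * y⁻¹ * l⁻¹ ∈ L :=
        mul_mem ((Subgroup.mem_normalizer_iff.mp hyN l).mp hl) (inv_mem hl)
      have h2 : y * l * y⁻¹ * l⁻¹ ∈ F := by
        have := (inferInstance : F.Normal).conj_mem y⁻¹ (inv_mem hyF) l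
        simpa [mul_assoc] using mul_mem hyF this
      have h3 : y * l * y⁻¹ * l⁻¹ = 1 := by
        have : y * l * y⁻¹ * l⁻¹ ∈ (F ⊓ L : Subgroup G) := ⟨h2, h1⟩
        rwa [inf_bot_of_coprime hcopL, Subgroup.mem_bot] at this
      show y * l = l * y
      rw [mul_inv_eq_one, mul_inv_eq_iff_eq_mul] at h3
      exact h3
    -- then every element of order `p` centralizes `L`
    have hall : ∀ x : G, x ^ p = 1 → ∀ l ∈ L, Commute x l := by
      intro x hx l hl
      rcases eq_or_ne x 1 with rfl | hx1
      · exact Commute.one_left l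
      obtain ⟨α, hα⟩ := htrans (Subgroup.zpowers y) (Subgroup.zpowers x)
        (by rw [Nat.card_zpowers, hyo]) (by rw [Nat.card_zpowers, orderOf_eq_prime hx hx1])
      have hxα : x ∈ Subgroup.zpowers (α y) := by
        have : α y = α.toMonoidHom y := rfl
        rw [this, ← MonoidHom.map_zpowers, hα]
        exact Subgroup.mem_zpowers x
      obtain ⟨k, rfl⟩ := Subgroup.mem_zpowers_iff.mp hxα
      refine Commute.zpow_left (?_ : Commute (α y) l) k
      obtain ⟨b, hb, hbL⟩ := hconj α
      have h1 : b * l * b⁻¹ ∈ L.map α.toMonoidHom := hbL ▸ ⟨l, hl, rfl⟩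
      obtain ⟨l', hl', he⟩ := h1
      have h2 : Commute (α y) (b * l * b⁻¹) := he ▸ (hyL l' hl').map α.toMonoidHom
      have h3 : Commute (α y) b :=
        ((hcent (α y) (by rw [← map_pow, ← hyo, pow_orderOf_eq_one, map_one])).2 b hb).symm
      have h4 := (h3.inv_right.mul_right h2).mul_right h3
      simpa [mul_assoc] using h4
    refine hLne (le_bot_iff.mp fun l hl => ?_)
    have hlC : l ∈ Subgroup.centralizer (F : Set G) := by
      rw [Subgroup.mem_centralizer_iff]
      intro f hf
      have ha1 : MulAut.conjNormal (H := F) l = 1 := by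
        refine S0120.result hp hFp _ ?_ fun x hx => ?_
        · have h : orderOf (MulAut.conjNormal (H := F) l) ∣ Nat.card L :=
            (orderOf_map_dvd _ l).trans (Subgroup.orderOf_dvd_natCard L hl)
          exact Nat.Coprime.coprime_dvd_left h (hLcard ▸ Cores.coprime_card_pPrimeCore)
        · apply Subtype.ext
          have := hall x (by simpa using congrArg Subtype.val hx) l hl
          rw [MulAut.conjNormal_apply, ← this.eq, mul_inv_cancel_right]
      have := congrArg Subtype.val (DFunLike.congr_fun ha1 ⟨f, hf⟩)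
      simp only [MulAut.conjNormal_apply, MulAut.one_apply] at this
      exact (mul_inv_eq_iff_eq_mul.mp this).symm
    have : l ∈ (F ⊓ L : Subgroup G) := ⟨hC hlC, hl⟩
    rwa [inf_bot_of_coprime hcopL] at this
  -- the normalizer is a complement containing an element of order `p`
  have hidx : F.index = Nat.card N := by
    rw [← Subgroup.relIndex_top_right, ← htop, Subgroup.relIndex_sup_left,
      ← Subgroup.inf_relIndex_right,
      show F ⊓ N = ⊥ from le_bot_iff.mp fun y hy => hdisj y hy.1 hy.2, Subgroup.relIndex_bot_left]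
  obtain ⟨u, hu⟩ := exists_prime_orderOf_dvd_card' (G := N) p (hidx ▸ hdvd)
  have hu' : (u : G) ^ p = 1 := by
    rw [← hu, ← Subgroup.orderOf_coe, pow_orderOf_eq_one]
  have := hdisj u (hcent u hu').1 u.2
  rw [← Subgroup.orderOf_coe, this, orderOf_one] at hu
  exact hpp.one_lt.ne hu

end Cfsg.Agent.Hall
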