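import Cfsg.Agent.Hall.GrossTwo

/-!
Gross's theorem: a solvable group with a fixed-point-free automorphism of order dividing `2 ^ n`,
`n ≥ 2`, has Fitting height at most `2 * n - 2`.
-/

namespace Cfsg.Agent.Hall.Gross

open Subgroup SemidirectProduct
open Cfsg
open Cfsg.Agent.Coprime
open Cfsg.Agent.Coprime.ShultGross (quotFitting quotFitting_pow_mk quotFitting_fpf not_dvd_card_of_fpf)
open scoped commutatorElement

universe uG

/-- A normal series of length `m` with nilpotent factors. -/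
def HasChain (G : Type uG) [Group G] (m : ℕ) : Prop :=
  ∃ F : Fin (m + 1) → Subgroup G, F 0 = ⊥ ∧ F (Fin.last m) = ⊤ ∧ Monotone F ∧ (∀ i, (F i).Normal) ∧
    ∀ i : Fin m, ∃ k : ℕ, (F i.succ).lowerCentralSeries k ≤ F i.castSucc

/-- Prepending the Fitting subgroup. -/
theorem hasChain_succ {G : Type uG} [Group G] [Finite G] {m : ℕ}
    (h : HasChain (G ⧸ fittingSubgroup G) m) : HasChain G (m + 1) := by
  obtain ⟨E, hE0, hEl, hEm, hEn, hEk⟩ := h
  set π := QuotientGroup.mk' (fittingSubgroup G)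
  have hπs : Function.Surjective π := QuotientGroup.mk'_surjective _
  refine ⟨Fin.cons ⊥ fun i => (E i).comap π, rfl, ?_, ?_, ?_, ?_⟩
  · rw [← Fin.succ_last, Fin.cons_succ, hEl, comap_top]
  · refine Fin.monotone_iff_le_succ.mpr fun i => ?_
    induction i using Fin.cases with
    | zero => exact bot_le
    | succ i => rw [Fin.castSucc_succ, Fin.cons_succ, Fin.cons_succ]; exact comap_mono (hEm (Fin.castSucc_le_succ i))
  · intro i
    induction i using Fin.cases with
    | zero => exact inferInstanceAs (⊥ : Subgroup G).Normal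
    | succ i => rw [Fin.cons_succ]; exact (hEn i).comap π
  · intro i
    induction i using Fin.cases with
    | zero =>
      rw [Fin.cons_succ, hE0, Fin.castSucc_zero, Fin.cons_zero, MonoidHom.comap_bot, QuotientGroup.ker_mk']
      obtain ⟨k, hk⟩ := (isNilpotent_iff_lowerCentralSeries (fittingSubgroup G)).mp Cores.fittingSubgroup_isNilpotent
      exact ⟨k, hk.le⟩
    | succ i =>
      rw [Fin.cons_succ, Fin.castSucc_succ, Fin.cons_succ]
      obtain ⟨k, hk⟩ := hEk i
      refine ⟨k, map_le_iff_le_comap.mp ?_⟩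
      rw [map_lowerCentralSeries, map_comap_eq_self_of_surjective hπs]
      exact hk

/-- A commutative group has a series of length one. -/
theorem hasChain_one {G : Type uG} [Group G] (hab : ∀ a b : G, a * b = b * a) : HasChain G 1 := by
  refine ⟨Fin.cons ⊥ fun _ => ⊤, rfl, rfl, ?_, ?_, ?_⟩
  · refine Fin.monotone_iff_le_succ.mpr fun i => ?_
    rw [Fin.cons_succ]
    exact le_top
  · intro i
    induction i using Fin.cases with
    | zero => exact inferInstanceAs (⊥ : Subgroup G).Normal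
    | succ i => exact inferInstanceAs (⊤ : Subgroup G).Normal
  · intro i
    obtain rfl : i = 0 := Subsingleton.elim _ _
    refine ⟨1, ?_⟩
    rw [Fin.cons_succ, Fin.castSucc_zero, Fin.cons_zero, Subgroup.lowerCentralSeries_succ, Subgroup.lowerCentralSeries_zero,
      commutator_le]
    exact fun a _ b _ => Subgroup.mem_bot.mpr (commutatorElement_eq_one_iff_mul_comm.mpr (hab a b))

/-- An automorphism of order two fixing the Fitting subgroup of an odd solvable group is trivial. -/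
theorem eq_one_of_fix_fitting {K : Type uG} [Group K] [Finite K] [Group.IsSolvable K] (τ : MulAut K)
    (hτ : τ ^ 2 = 1) (hodd : ¬ 2 ∣ Nat.card K) (hfix : ∀ w ∈ fittingSubgroup K, τ w = w) : τ = 1 := by
  refine MulEquiv.ext fun w => ?_
  show τ w = w
  set h := w⁻¹ * τ w with hh
  have hcen : h ∈ centralizer (fittingSubgroup K : Set K) := by
    refine mem_centralizer_iff.mpr fun f hf => ?_
    have e := hfix _ ((inferInstance : (fittingSubgroup K).Normal).conj_mem f hf w)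
    rw [map_mul, map_mul, map_inv, hfix f hf] at e
    calc f * h = w⁻¹ * (w * f * w⁻¹) * τ w := by rw [hh]; group
      _ = w⁻¹ * (τ w * f * (τ w)⁻¹) * τ w := by rw [e]
      _ = h * f := by rw [hh]; group
  have hfixh : τ h = h := hfix h (Cores.centralizer_fittingSubgroup_le hcen)
  have h2 : w * (h * h) = w := by
    have e1 : τ w = w * h := (mul_inv_cancel_left w (τ w)).symm
    have e2 : τ (τ w) = w := by rw [← MulAut.mul_apply, ← pow_two, hτ, MulAut.one_apply]
    rw [e1, map_mul, hfixh, e1, mul_assoc] at e2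
    exact e2
  have hh1 : h ^ 2 = 1 := by rw [pow_two]; exact mul_eq_left.mp h2
  rcases (Nat.dvd_prime Nat.prime_two).mp (orderOf_dvd_of_pow_eq_one hh1) with h1 | h1
  · exact (inv_mul_eq_one.mp (orderOf_eq_one_iff.mp h1)).symm
  · exact absurd (h1 ▸ orderOf_dvd_natCard h) hodd

variable {G : Type uG} [Group G] [Finite G] [Group.IsSolvable G]

set_option maxHeartbeats 1600000 in
/-- Elements of a core of `G / F(G)` act nontrivially on a fixed-point-free module. -/
theorem rep_elim {n : ℕ} (hn : 0 < n) (σ : MulAut G) (hσ : σ ^ 2 ^ n = 1)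
    (hfpf : ∀ g : G, σ g = g → g = 1) (hy1 : σ ^ 2 ^ (n - 1) ≠ 1) {q : ℕ} [Fact q.Prime]
    {u : G ⧸ fittingSubgroup G} (hu : u ∈ pCore q (G ⧸ fittingSubgroup G)) (hu1 : u ≠ 1) {P : Prop}
    (h : ∀ (l : ℕ) [Fact l.Prime], l ≠ q → ∀ (V : Type uG) [AddCommGroup V] [Module (LinRep.Coeff l) V]
      [FiniteDimensional (LinRep.Coeff l) V]
      (ρ : pCore q (G ⧸ fittingSubgroup G) →* Module.End (LinRep.Coeff l) V)
      (T : Module.End (LinRep.Coeff l) V), T ^ 2 ^ n = 1 → ∑ i ∈ Finset.range (2 ^ n), T ^ i = 0 →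
      (∀ v w : pCore q (G ⧸ fittingSubgroup G), (w : G ⧸ fittingSubgroup G) = quotFitting σ v →
        T * ρ v = ρ w * T) → ρ ⟨u, hu⟩ ≠ 1 → P) : P := by
  classical
  have h2 : Fact (Nat.Prime 2) := ⟨Nat.prime_two⟩
  have hord : orderOf σ = 2 ^ n := by
    have := orderOf_eq_prime_pow (p := 2) hy1 (by rw [Nat.sub_add_cancel hn]; exact hσ)
    rwa [Nat.sub_add_cancel hn] at this
  let A : Subgroup (MulAut G) := zpowers σ
  let a0 : A := ⟨σ, mem_zpowers σ⟩
  let _ := Fintype.ofFinite A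
  have hcop : (Nat.card A).Coprime (Nat.card G) := by
    rw [Nat.card_zpowers, hord]
    exact (Nat.prime_two.coprime_iff_not_dvd.mpr (not_dvd_card_of_fpf σ hσ hfpf)).pow_left n
  have hsolv : Group.IsSolvable A ∨ Group.IsSolvable G := Or.inr inferInstance
  set π := QuotientGroup.mk' (fittingSubgroup G) with hπ
  have hπs : Function.Surjective π := QuotientGroup.mk'_surjective (fittingSubgroup G)
  set S := (pCore q (G ⧸ (fittingSubgroup G))).comap π with hS
  obtain ⟨R, hRinv⟩ := exists_invariant_sylow' (A := A) hcop hsolv q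
  set P0 := (R : Subgroup G) ⊓ S with hP0
  have hSinv : IsInvariant A S := by
    intro a x hx
    let e : G ⧸ (fittingSubgroup G) ≃* G ⧸ (fittingSubgroup G) := QuotientGroup.congr (fittingSubgroup G) (fittingSubgroup G) (MulDistribMulAction.toMulAut A G a)
      ((characteristic_iff_map_eq.mp (inferInstance : (fittingSubgroup G).Characteristic)) _)
    show π (a • x) ∈ pCore q (G ⧸ (fittingSubgroup G))
    rw [← Cores.pCore_map_mulEquiv e]
    exact ⟨π x, hx, rfl⟩
  let φ : P0 →* pCore q (G ⧸ (fittingSubgroup G)) := (π.comp P0.subtype).codRestrict _ fun w => w.2.2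
  have hφ : Function.Surjective φ := by
    rintro ⟨z, hz⟩
    obtain ⟨w, hwR, hwz⟩ := Cores.pCore_le_sylow (R.mapSurjective hπs) hz
    exact ⟨⟨w, hwR, show π w ∈ pCore q (G ⧸ (fittingSubgroup G)) from hwz ▸ hz⟩, Subtype.ext hwz⟩
  obtain ⟨⟨ut, hut⟩, hutu⟩ := hφ ⟨u, hu⟩
  have hut' : π ut = u := congrArg Subtype.val hutu
  -- a prime at which `ut` acts nontrivially
  obtain ⟨l, hl, hlq, hnc⟩ : ∃ l : ℕ, l.Prime ∧ l ≠ q ∧ ut ∉ centralizer (pCore l G : Set G) := by
    by_contra hc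
    push Not at hc
    refine hu1 (hut' ▸ (QuotientGroup.eq_one_iff _).mpr ?_)
    set M := S ⊓ ⨅ l : {l : ℕ // l.Prime ∧ l ≠ q}, centralizer (pCore (l : ℕ) G : Set G) with hM
    have : M.Normal := by
      have h1 : (⨅ l : {l : ℕ // l.Prime ∧ l ≠ q}, centralizer (pCore (l : ℕ) G : Set G)).Normal :=
        Subgroup.normal_iInf_normal fun l => inferInstance
      have h2 : S.Normal := inferInstance
      infer_instance
    refine PQFitting.le_fitting_of_centralizes (Fact.out : q.Prime) M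
      (fun t ht htq => inf_le_right.trans (iInf_le
        (fun t : {t : ℕ // t.Prime ∧ t ≠ q} => centralizer (pCore (t : ℕ) G : Set G)) ⟨t, ht, htq⟩))
      (fun g hg => ?_) ⟨hut.2, mem_iInf.mpr fun t => hc t t.2.1 t.2.2⟩
    obtain ⟨j, hj⟩ := Cores.pCore_isPGroup (p := q) (G := G ⧸ (fittingSubgroup G)) ⟨π g, hg.1⟩
    exact ⟨j, (QuotientGroup.eq_one_iff _).mp (congrArg Subtype.val hj)⟩
  have : Fact l.Prime := ⟨hl⟩
  let Y := Ext A G
  let O := pCore l G
  let Φ := (frattini O).map O.subtype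
  have hOl : IsPGroup l O := Cores.pCore_isPGroup
  have hOinv : ∀ (ψ : MulAut G), O.map ψ.toMonoidHom = O := fun ψ => Cores.pCore_map_mulEquiv ψ
  have hΦinv : ∀ (ψ : MulAut G), ∀ z ∈ Φ, ψ z ∈ Φ := by
    rintro ψ _ ⟨w, hw, rfl⟩
    let e : O ≃* O := (O.equivMapOfInjective ψ.toMonoidHom ψ.injective).trans
      (MulEquiv.subgroupCongr (hOinv ψ))
    refine ⟨e w, ?_, rfl⟩
    have := (characteristic_iff_map_eq.mp (frattini_characteristic (G := O))) e
    rw [← this]
    exact mem_map_of_mem _ hw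
  have hnorm : ∀ L : Subgroup G, (∀ (ψ : MulAut G), ∀ z ∈ L, ψ z ∈ L) →
      (L.map (inl : G →* Y)).Normal := by
    intro L hL
    refine ⟨?_⟩
    rintro _ ⟨z, hz, rfl⟩ v
    rw [← SemidirectProduct.inl_left_mul_inr_right v]
    refine ⟨MulAut.conj v.left (MulDistribMulAction.toMulAut A G v.right z), hL _ _ (hL _ z hz), ?_⟩
    show inl (v.left * (v.right • z) * v.left⁻¹) = _
    rw [map_mul, map_mul, ← inr_conj_inl, map_inv, mul_inv_rev]
    simp only [mul_assoc]
  have : (Φ.map (inl : G →* Y)).Normal := hnorm Φ hΦinv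
  have : (O.map (inl : G →* Y)).Normal := hnorm O fun ψ z hz => by
    rw [← hOinv ψ]; exact mem_map_of_mem _ hz
  set μ := QuotientGroup.mk' (Φ.map (inl : G →* Y)) with hμ
  set N := (O.map (inl : G →* Y)).map μ with hN
  have : N.Normal := ‹(O.map (inl : G →* Y)).Normal›.map _ (QuotientGroup.mk'_surjective _)
  have hμeq : ∀ g : G, μ (inl g) = 1 ↔ g ∈ Φ := fun g => by
    rw [hμ, QuotientGroup.mk'_apply, QuotientGroup.eq_one_iff]
    exact inl_mem_map
  have hexp : ∀ v ∈ N, v ^ l = 1 := by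
    rintro _ ⟨_, ⟨g, hg, rfl⟩, rfl⟩
    rw [← map_pow, ← map_pow, hμeq]
    exact mem_map_of_mem _ (PGroups.pow_mem_frattini hOl ⟨g, hg⟩)
  have : IsMulCommutative N := by
    refine ⟨⟨?_⟩⟩
    rintro ⟨_, _, ⟨g, hg, rfl⟩, rfl⟩ ⟨_, _, ⟨g', hg', rfl⟩, rfl⟩
    refine Subtype.ext ?_
    show μ (inl g) * μ (inl g') = μ (inl g') * μ (inl g)
    rw [← commutatorElement_eq_one_iff_mul_comm, ← map_commutatorElement (f := μ),
      ← map_commutatorElement (f := (inl : G →* Y)), hμeq]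
    exact ⟨⁅(⟨g, hg⟩ : O), ⟨g', hg'⟩⁆, PGroups.commutator_le_frattini hOl
      (Subgroup.commutator_mem_commutator (mem_top _) (mem_top _)), rfl⟩
  let ρY : Y →* Module.End (LinRep.Coeff l) (LinRep.Sp N l) := (LinRep.rep N l).comp μ
  -- the kernel of `φ` acts trivially
  let g1 : P0 →* (Module.End (LinRep.Coeff l) (LinRep.Sp N l))ˣ :=
    ρY.toHomUnits.comp ((inl : G →* Y).comp P0.subtype)
  have hker : φ.ker ≤ g1.ker := by
    intro w hw
    have hwF : (w : G) ∈ (fittingSubgroup G) := (QuotientGroup.eq_one_iff _).mp (congrArg Subtype.val (MonoidHom.mem_ker.mp hw))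
    have hwq : (w : G) ∈ pCore q G :=
      PQFitting.mem_pCore_of_mem_fitting (R.isPGroup'.to_le (zpowers_le.mpr w.2.1)) (zpowers_le.mpr hwF)
        (mem_zpowers _)
    refine MonoidHom.mem_ker.mpr (Units.ext ?_)
    refine (LinRep.rep_eq_one_iff N l hexp _).mpr (mem_centralizer_iff.mpr ?_)
    rintro _ ⟨_, ⟨o, ho, rfl⟩, rfl⟩
    show μ (inl o) * μ (inl (w : G)) = μ (inl (w : G)) * μ (inl o)
    rw [← map_mul, ← map_mul, ← map_mul, ← map_mul,
      (commute_of_normal_of_disjoint _ _ (inferInstance : (pCore l G).Normal) (inferInstance : (pCore q G).Normal)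
        (IsPGroup.disjoint_of_ne l q hlq _ _ hOl Cores.pCore_isPGroup) o (w : G) ho hwq).eq]
  let ρu : pCore q (G ⧸ (fittingSubgroup G)) →* (Module.End (LinRep.Coeff l) (LinRep.Sp N l))ˣ :=
    (QuotientGroup.lift φ.ker g1 hker).comp
      (QuotientGroup.quotientKerEquivOfSurjective φ hφ).symm.toMonoidHom
  have hρu : ∀ w, ρu (φ w) = g1 w := fun w => by
    show QuotientGroup.lift φ.ker g1 hker ((QuotientGroup.quotientKerEquivOfSurjective φ hφ).symm (φ w)) = g1 w
    have e0 : (QuotientGroup.quotientKerEquivOfSurjective φ hφ).symm (φ w) = (w : P0 ⧸ φ.ker) :=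
      (QuotientGroup.quotientKerEquivOfSurjective φ hφ).symm_apply_eq.mpr rfl
    rw [e0]
    rfl
  have hsumY : ∑ a : A, ρY (inr a) = 0 := by
    show ∑ a : A, LinRep.rep N l ((μ.comp inr) a) = 0
    refine LinRep.sum_rep_eq_zero N l (μ.comp inr) ?_
    rintro _ ⟨_, ⟨g, hg, rfl⟩, rfl⟩ hv
    have hΦA : IsInvariant A Φ := fun a z hz => hΦinv (MulDistribMulAction.toMulAut A G a) z hz
    have hg' : ∀ a : A, g⁻¹ * a • g ∈ Φ := by
      intro a
      rw [← hμeq, map_mul, map_mul, map_inv, map_inv, ← inr_conj_inl, map_mul, map_mul, map_inv,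
        show μ (inr a) * μ (inl g) = μ (inl g) * μ (inr a) from hv a, mul_inv_cancel_right,
        inv_mul_cancel]
    obtain ⟨c, hc, hcΦ⟩ := exists_fixed_mem_coset hcop hsolv hΦA hg'
    rw [hfpf c (hc a0), mul_one] at hcΦ
    exact (hμeq g).mpr (inv_mem_iff.mp hcΦ)
  refine h l hlq (LinRep.Sp N l) ((Units.coeHom _).comp ρu) (ρY (inr a0)) ?_ ?_ ?_ ?_
  · rw [← map_pow, ← map_pow, show a0 ^ 2 ^ n = 1 from Subtype.ext hσ, map_one, map_one]
  · refine Eq.trans ?_ hsumY
    refine Eq.trans ?_ (ShultGross.sum_range_orderOf σ fun a => ρY (inr a))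
    refine Finset.sum_congr (congrArg Finset.range hord.symm) fun i _ => ?_
    show ρY (inr a0) ^ i = ρY (inr (a0 ^ i))
    rw [map_pow, map_pow]
  · intro v w hvw
    obtain ⟨v, rfl⟩ := hφ v
    have hmem : σ (v : G) ∈ P0 := ⟨hRinv a0 _ v.2.1, hSinv a0 _ v.2.2⟩
    obtain rfl : w = φ ⟨σ v, hmem⟩ := Subtype.ext hvw
    show ρY (inr a0) * ((ρu (φ v) : (Module.End (LinRep.Coeff l) (LinRep.Sp N l))ˣ) : Module.End _ _) =
      ((ρu (φ ⟨σ v, hmem⟩) : (Module.End (LinRep.Coeff l) (LinRep.Sp N l))ˣ) : Module.End _ _) * ρY (inr a0)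
    rw [hρu, hρu]
    show ρY (inr a0) * ρY (inl (v : G)) = ρY (inl (σ v)) * ρY (inr a0)
    rw [← map_mul, ← map_mul]
    congr 1
    rw [show σ (v : G) = a0 • (v : G) from rfl, ← inr_conj_inl, inv_mul_cancel_right]
  · intro h1
    rw [← hutu] at h1
    rw [MonoidHom.comp_apply, Units.coeHom_apply, hρu] at h1
    change LinRep.rep N l (μ (inl ut)) = 1 at h1
    rw [LinRep.rep_eq_one_iff N l hexp, mem_centralizer_iff] at h1
    refine hnc (le_centralizer_of_frattini (A := zpowers ut) (K := O) ?_ ?_ ?_ (mem_zpowers ut))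
    · rw [Subgroup.normalizer_eq_top_iff.mpr (inferInstance : (pCore l G).Normal)]; exact le_top
    · obtain ⟨i, hi⟩ := IsPGroup.iff_card.mp (hOl.to_subgroup (frattini O))
      obtain ⟨j, hj⟩ := IsPGroup.iff_card.mp (R.isPGroup'.to_le (zpowers_le.mpr hut.1))
      rw [hi, hj]
      exact ((Nat.coprime_primes (Fact.out : q.Prime) hl).mpr (Ne.symm hlq)).pow j i
    · rintro _ ⟨j, rfl⟩ o ho
      have h3 : Commute (μ (inl o)) (μ (inl ut)) := h1 _ (mem_map_of_mem _ (mem_map_of_mem _ ho))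
      rw [← hμeq]
      simp only [map_mul, map_inv, map_zpow]
      rw [(h3.symm.zpow_left j).eq, mul_inv_cancel_right, mul_inv_cancel]

set_option maxHeartbeats 3200000 in
/-- The lower layer inside the semidirect product. -/
theorem good {n : ℕ} (hn : 0 < n) (σ : MulAut G) (hσ : σ ^ 2 ^ n = 1) (hfpf : ∀ g : G, σ g = g → g = 1)
    (hy1 : σ ^ 2 ^ (n - 1) ≠ 1) {q : ℕ} [Fact q.Prime] (hq2 : q ≠ 2) :
    GrossTwo.Good
      ((pCore q (G ⧸ fittingSubgroup G)).map
        (inl : G ⧸ fittingSubgroup G →* Ext (zpowers (quotFitting σ)) (G ⧸ fittingSubgroup G)))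
      (inr ⟨quotFitting σ, mem_zpowers _⟩) n := by
  classical
  set τ := quotFitting σ with hτ
  set C := pCore q (G ⧸ fittingSubgroup G) with hC
  set x : Ext (zpowers τ) (G ⧸ fittingSubgroup G) := inr ⟨τ, mem_zpowers _⟩ with hx
  have hτn : τ ^ 2 ^ n = 1 := MulEquiv.ext fun w => by
    obtain ⟨g, rfl⟩ := QuotientGroup.mk_surjective w
    rw [hτ, quotFitting_pow_mk, hσ]
    rfl
  have hxp : x ^ 2 ^ n = 1 := by
    rw [hx, ← map_pow, show (⟨τ, mem_zpowers _⟩ : zpowers τ) ^ 2 ^ n = 1 from Subtype.ext hτn, map_one]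
  have hconj : ∀ g, x * inl g * x⁻¹ = inl (τ g) := fun g => inr_conj_inl _ g
  -- transport to the core
  have hdata : ∀ Q : Subgroup (Ext (zpowers τ) (G ⧸ fittingSubgroup G)), Q ≤ C.map inl →
      ∀ hxQ : x ∈ normalizer (Q : Set (Ext (zpowers τ) (G ⧸ fittingSubgroup G))),
      ∃ e : Q →* C, Function.Injective e ∧
        ∀ v, ((e (Subgroup.normalizerMonoidHom Q ⟨x, hxQ⟩ v) : C) : G ⧸ fittingSubgroup G) =
          τ (e v : G ⧸ fittingSubgroup G) := by
    intro Q hQ hxQ
    let em := C.equivMapOfInjective (inl : G ⧸ fittingSubgroup G →* Ext (zpowers τ) (G ⧸ fittingSubgroup G))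
      inl_injective
    let e : Q →* C := em.symm.toMonoidHom.comp (Subgroup.inclusion hQ)
    have he : ∀ v : Q, (inl (e v : G ⧸ fittingSubgroup G) : Ext (zpowers τ) (G ⧸ fittingSubgroup G)) = v :=
      fun v => congrArg Subtype.val (em.apply_symm_apply (Subgroup.inclusion hQ v))
    refine ⟨e, fun a b hab => Subtype.ext (by rw [← he a, ← he b, hab]), fun v => inl_injective (φ := MulDistribMulAction.toMulAut (zpowers τ) (G ⧸ fittingSubgroup G)) ?_⟩
    rw [he, ← hconj, he]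
    rfl
  refine ⟨fun Q hQ hxQ hab v hv => ?_, fun Q hQ hxQ hcen hgen a0 b0 hne => ?_⟩
  · obtain ⟨e, hinj, he⟩ := hdata Q hQ hxQ
    let _ : CommGroup Q :=
      { (inferInstance : Group Q) with mul_comm := fun a b => Subtype.ext (hab a a.2 b b.2) }
    set σQ := Subgroup.normalizerMonoidHom Q ⟨x, hxQ⟩ with hσQ
    have hσQn : σQ ^ 2 ^ n = 1 := MulEquiv.ext fun w => Subtype.ext (by
      rw [hσQ, GrossTwo.pow_apply, hxp, one_mul, inv_one, mul_one]; rfl)
    suffices hmain : (σQ ^ 2 ^ (n - 1)) ⟨v, hv⟩ = ⟨v, hv⟩ by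
      have h1 := congrArg Subtype.val hmain
      rw [hσQ, GrossTwo.pow_apply] at h1
      exact mul_inv_eq_iff_eq_mul.mp h1
    refine hinj ?_
    by_contra hne
    have hu1 : (e ((σQ ^ 2 ^ (n - 1)) ⟨v, hv⟩) : G ⧸ fittingSubgroup G) * (e ⟨v, hv⟩ : G ⧸ fittingSubgroup G)⁻¹ ≠ 1 :=
      fun h => hne (Subtype.ext (mul_inv_eq_one.mp h))
    refine rep_elim hn σ hσ hfpf hy1
      (u := (e ((σQ ^ 2 ^ (n - 1)) ⟨v, hv⟩) : G ⧸ fittingSubgroup G) * (e ⟨v, hv⟩ : G ⧸ fittingSubgroup G)⁻¹)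
      (mul_mem (e _).2 (inv_mem (e _).2)) hu1 fun l _ hlq V _ _ _ ρ T _ hsum hcompat hρ => hρ ?_
    have hU : (Nat.card Q : LinRep.Coeff l) ≠ 0 := by
      obtain ⟨j, hj⟩ := IsPGroup.iff_card.mp
        ((Cores.pCore_isPGroup (p := q) (G := G ⧸ fittingSubgroup G)).of_injective e hinj)
      rw [hj, Nat.cast_pow]
      exact pow_ne_zero _ fun h => hlq
        ((Nat.prime_dvd_prime_iff_eq (Fact.out : l.Prime) (Fact.out : q.Prime)).mp
          ((CharP.cast_eq_zero_iff (LinRep.Coeff l) l q).mp h))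
    have h1 := GrossLayer.abel_fix hU (ρ.comp e) σQ T (fun w => hcompat _ _ (he w)) hσQn hsum ⟨v, hv⟩
    show ρ (e ((σQ ^ 2 ^ (n - 1)) ⟨v, hv⟩) * (e ⟨v, hv⟩)⁻¹) = 1
    rw [map_mul, show ρ (e ((σQ ^ 2 ^ (n - 1)) ⟨v, hv⟩)) = ρ (e ⟨v, hv⟩) from h1, ← map_mul, mul_inv_cancel,
      map_one]
  · obtain ⟨e, hinj, he⟩ := hdata Q hQ hxQ
    refine rep_elim hn σ hσ hfpf hy1 (u := (e ⁅a0, b0⁆ : G ⧸ fittingSubgroup G)) (e _).2
      (fun h => hne (hinj ((Subtype.ext h).trans (map_one e).symm)))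
      fun l _ hlq V _ _ _ ρ T hT hsum hcompat hρ => ?_
    refine GrossLayer.quad ((Cores.pCore_isPGroup (p := q) (G := G ⧸ fittingSubgroup G)).of_injective e hinj)
      hq2 (fun h => hlq ((Nat.prime_dvd_prime_iff_eq (Fact.out : l.Prime) (Fact.out : q.Prime)).mp
          ((CharP.cast_eq_zero_iff (LinRep.Coeff l) l q).mp h)))
      (ρ.comp e) T _ ?_ ?_ hT hsum (fun w => hcompat _ _ (he w)) hcen hgen hρ
    · exact MulEquiv.ext fun w => Subtype.ext (by rw [GrossTwo.pow_apply, hxp, one_mul, inv_one, mul_one]; rfl)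
    · intro w hw
      refine hinj (Eq.trans (Subtype.ext (quotFitting_fpf σ hσ hfpf _ ?_)) (map_one e).symm)
      rw [← he, hw]

set_option maxHeartbeats 1600000 in
/-- The involution centralizes `G / F₂(G)`. -/
theorem quot_quot_pow_eq_one {n : ℕ} (hn : 0 < n) (σ : MulAut G) (hσ : σ ^ 2 ^ n = 1)
    (hfpf : ∀ g : G, σ g = g → g = 1) : quotFitting (quotFitting σ) ^ 2 ^ (n - 1) = 1 := by
  classical
  set τ := quotFitting σ with hτ
  by_cases hy1 : σ ^ 2 ^ (n - 1) = 1
  · refine MulEquiv.ext fun w => ?_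
    obtain ⟨v, rfl⟩ := QuotientGroup.mk_surjective w
    obtain ⟨g, rfl⟩ := QuotientGroup.mk_surjective v
    rw [quotFitting_pow_mk, hτ, quotFitting_pow_mk, hy1]
    rfl
  have h2 : Fact (Nat.Prime 2) := ⟨Nat.prime_two⟩
  let H := G ⧸ fittingSubgroup G
  have hτn : τ ^ 2 ^ n = 1 := MulEquiv.ext fun w => by
    obtain ⟨g, rfl⟩ := QuotientGroup.mk_surjective w
    rw [hτ, quotFitting_pow_mk, hσ]
    rfl
  have hτf : ∀ w, τ w = w → w = 1 := quotFitting_fpf σ hσ hfpf
  have hodd : ¬ 2 ∣ Nat.card H := not_dvd_card_of_fpf τ hτn hτf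
  refine eq_one_of_fix_fitting _ ?_ (fun h => hodd (h.trans (card_quotient_dvd_card _))) ?_
  · rw [← pow_mul, ← pow_succ, Nat.sub_add_cancel hn]
    exact MulEquiv.ext fun w => by
      obtain ⟨v, rfl⟩ := QuotientGroup.mk_surjective w
      rw [quotFitting_pow_mk, hτn]
      rfl
  set F := fittingSubgroup H with hF
  set π := QuotientGroup.mk' F with hπ
  have hπs : Function.Surjective π := QuotientGroup.mk'_surjective F
  intro w hw
  rw [Cores.iSup_pCore_eq_fittingSubgroup (G := H ⧸ F)] at hw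
  suffices hle : ∀ t : Nat.Primes, pCore (t : ℕ) (H ⧸ F) ≤
      (quotFitting τ ^ 2 ^ (n - 1)).toMonoidHom.eqLocus (MonoidHom.id _) from (iSup_le hle) hw
  rintro ⟨r, hr⟩ z hz
  have : Fact r.Prime := ⟨hr⟩
  obtain ⟨v, rfl⟩ := QuotientGroup.mk_surjective z
  show (quotFitting τ ^ 2 ^ (n - 1)) (v : H ⧸ F) = v
  let A : Subgroup (MulAut H) := zpowers τ
  let a0 : A := ⟨τ, mem_zpowers τ⟩
  have hcop : (Nat.card A).Coprime (Nat.card H) := by
    rw [Nat.card_zpowers]
    exact Nat.Coprime.coprime_dvd_left (orderOf_dvd_of_pow_eq_one hτn)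
      ((Nat.prime_two.coprime_iff_not_dvd.mpr hodd).pow_left n)
  set S := (pCore r (H ⧸ F)).comap π with hS
  obtain ⟨R, hRinv⟩ := exists_invariant_sylow' (A := A) hcop (Or.inr inferInstance) r
  have hSinv : IsInvariant A S := by
    intro a x hx
    let e : H ⧸ F ≃* H ⧸ F := QuotientGroup.congr F F (MulDistribMulAction.toMulAut A H a)
      ((characteristic_iff_map_eq.mp (inferInstance : F.Characteristic)) _)
    show π (a • x) ∈ pCore r (H ⧸ F)
    rw [← Cores.pCore_map_mulEquiv e]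
    exact ⟨π x, hx, rfl⟩
  set P := (R : Subgroup H) ⊓ S with hP
  obtain ⟨u, huR, huv⟩ : ∃ u ∈ (R : Subgroup H), π u = π v :=
    Cores.pCore_le_sylow (R.mapSurjective hπs) hz
  have hu : u ∈ P := ⟨huR, show π u ∈ pCore r (H ⧸ F) from huv ▸ hz⟩
  rw [show (v : H ⧸ F) = (u : H ⧸ F) from huv.symm, quotFitting_pow_mk]
  refine (QuotientGroup.eq.mpr ?_).symm
  set g := u⁻¹ * (τ ^ 2 ^ (n - 1)) u with hg
  have hPinv : IsInvariant A P := fun a x hx => ⟨hRinv a x hx.1, hSinv a x hx.2⟩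
  have hgP : g ∈ P := mul_mem (inv_mem hu) (hPinv (a0 ^ 2 ^ (n - 1)) u hu)
  by_cases hr2 : r = 2
  · subst hr2
    have hR1 : (R : Subgroup H) = ⊥ := by
      rw [← card_eq_one, R.card_eq_multiplicity, Nat.factorization_eq_zero_of_not_dvd hodd, pow_zero]
    have : g ∈ (⊥ : Subgroup H) := hR1 ▸ hgP.1
    rw [Subgroup.mem_bot] at this
    rw [this]
    exact one_mem _
  set M := S ⊓ ⨅ l : {l : ℕ // l.Prime ∧ l ≠ r}, centralizer (pCore (l : ℕ) H : Set H) with hM
  have : M.Normal := by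
    have h1 : (⨅ l : {l : ℕ // l.Prime ∧ l ≠ r}, centralizer (pCore (l : ℕ) H : Set H)).Normal :=
      Subgroup.normal_iInf_normal fun l => inferInstance
    have h2 : S.Normal := inferInstance
    infer_instance
  refine PQFitting.le_fitting_of_centralizes hr M
    (fun t ht htr => inf_le_right.trans (iInf_le
      (fun t : {t : ℕ // t.Prime ∧ t ≠ r} => centralizer (pCore (t : ℕ) H : Set H)) ⟨t, ht, htr⟩))
    (fun a ha => ?_) ⟨hgP.2, mem_iInf.mpr ?_⟩
  · obtain ⟨j, hj⟩ := Cores.pCore_isPGroup (p := r) (G := H ⧸ F) ⟨π a, ha.1⟩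
    exact ⟨j, (QuotientGroup.eq_one_iff _).mp (congrArg Subtype.val hj)⟩
  rintro ⟨q, hq, hqr⟩
  have : Fact q.Prime := ⟨hq⟩
  show g ∈ centralizer (pCore q H : Set H)
  by_cases hqd : q ∣ Nat.card H
  swap
  · rw [Cores.pCore_subsingleton_of_coprime ((hq.coprime_iff_not_dvd.mpr hqd).symm)]
    exact mem_centralizer_iff.mpr fun o ho => by
      rw [SetLike.mem_coe, Subgroup.mem_bot] at ho; rw [ho, one_mul, mul_one]
  have hq2 : q ≠ 2 := fun h => hodd (h ▸ hqd)
  let x : Ext A H := inr a0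
  have hinvn : ∀ L : Subgroup H, IsInvariant A L →
      x ∈ normalizer ((L.map (inl : H →* Ext A H) : Subgroup (Ext A H)) : Set (Ext A H)) :=
    fun L hL => extA_le_normalizer_map.mpr hL ⟨a0, rfl⟩
  have hCinv : IsInvariant A (pCore q H) := fun a z hz => by
    rw [← Cores.pCore_map_mulEquiv (MulDistribMulAction.toMulAut A H a)]
    exact mem_map_of_mem _ hz
  have hxp : x ^ 2 ^ n = 1 := by
    rw [← map_pow, show a0 ^ 2 ^ n = 1 from Subtype.ext hτn, map_one]
  have hkey := GrossTwo.commutator_le_centralizer (q := q) (r := r) hq2 hr2 hqr.symm hn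
    ((pCore q H).map (inl : H →* Ext A H)) (Cores.pCore_isPGroup.map _) x hxp
    (good hn σ hσ hfpf hy1 hq2) ?_ (P.map inl) ((pCore q H).map inl)
    ((R.isPGroup'.to_le inf_le_left).map _) le_rfl (hinvn P hPinv) (hinvn _ hCinv) ?_
  · have e1 : ⁅(inl u⁻¹ : Ext A H), x ^ 2 ^ (n - 1)⁆ = inl g := by
      rw [commutatorElement_def, map_inv, inv_inv, mul_assoc ((inl u)⁻¹), mul_assoc ((inl u)⁻¹),
        ← map_pow, inr_conj_inl, hg, map_mul, map_inv]
      rfl
    have h1 := hkey (commutator_mem_commutator (mem_map_of_mem _ (inv_mem hu)) (mem_zpowers _))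
    rw [e1] at h1
    refine mem_centralizer_iff.mpr fun o ho => inl_injective (φ := MulDistribMulAction.toMulAut A H) ?_
    rw [map_mul, map_mul]
    exact mem_centralizer_iff.mp h1 _ (mem_map_of_mem _ ho)
  · rintro _ ⟨o, -, rfl⟩ hc
    have h1 : inl (τ o) = (inl o : Ext A H) := by
      rw [show τ o = a0 • o from rfl, ← inr_conj_inl, hc, mul_inv_cancel_right]
    rw [hτf o (inl_injective h1), map_one]
  · rintro _ ⟨a, -, rfl⟩
    refine mem_normalizer_of_map_conj ?_
    rw [map_conj_inl, Coprime.map_conj_eq (by rw [Subgroup.normalizer_eq_top_iff.mpr (inferInstance : (pCore q H).Normal)]; exact mem_top a)]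

set_option maxHeartbeats 1600000 in
/-- For `n ≤ 2` the involution centralizes `G / F(G)`. -/
theorem quot_pow_eq_one {n : ℕ} (hn : 0 < n) (hn2 : n ≤ 2) (σ : MulAut G) (hσ : σ ^ 2 ^ n = 1)
    (hfpf : ∀ g : G, σ g = g → g = 1) : quotFitting σ ^ 2 ^ (n - 1) = 1 := by
  classical
  set τ := quotFitting σ with hτ
  by_cases hy1 : σ ^ 2 ^ (n - 1) = 1
  · refine MulEquiv.ext fun w => ?_
    obtain ⟨g, rfl⟩ := QuotientGroup.mk_surjective w
    rw [hτ, quotFitting_pow_mk, hy1]
    rfl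
  have h2 : Fact (Nat.Prime 2) := ⟨Nat.prime_two⟩
  let H := G ⧸ fittingSubgroup G
  have hτn : τ ^ 2 ^ n = 1 := MulEquiv.ext fun w => by
    obtain ⟨g, rfl⟩ := QuotientGroup.mk_surjective w
    rw [hτ, quotFitting_pow_mk, hσ]
    rfl
  have hodd : ¬ 2 ∣ Nat.card H := not_dvd_card_of_fpf τ hτn (quotFitting_fpf σ hσ hfpf)
  refine eq_one_of_fix_fitting _ ?_ hodd ?_
  · rw [← pow_mul, ← pow_succ, Nat.sub_add_cancel hn]
    exact hτn
  intro w hw
  rw [Cores.iSup_pCore_eq_fittingSubgroup (G := H)] at hw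
  suffices hle : ∀ t : Nat.Primes, pCore (t : ℕ) H ≤
      (τ ^ 2 ^ (n - 1)).toMonoidHom.eqLocus (MonoidHom.id _) from (iSup_le hle) hw
  rintro ⟨q, hq⟩ z hz
  have : Fact q.Prime := ⟨hq⟩
  show (τ ^ 2 ^ (n - 1)) z = z
  by_cases hqd : q ∣ Nat.card H
  swap
  · rw [Cores.pCore_subsingleton_of_coprime ((hq.coprime_iff_not_dvd.mpr hqd).symm), Subgroup.mem_bot] at hz
    rw [hz, map_one]
  have hq2 : q ≠ 2 := fun h => hodd (h ▸ hqd)
  let A : Subgroup (MulAut H) := zpowers τ
  let a0 : A := ⟨τ, mem_zpowers τ⟩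
  let x : Ext A H := inr a0
  have hCinv : IsInvariant A (pCore q H) := fun a z hz => by
    rw [← Cores.pCore_map_mulEquiv (MulDistribMulAction.toMulAut A H a)]
    exact mem_map_of_mem _ hz
  have hxp : x ^ 2 ^ n = 1 := by
    rw [← map_pow, show a0 ^ 2 ^ n = 1 from Subtype.ext hτn, map_one]
  have hkey := GrossTwo.commute_of_small (q := q) hq2 hn hn2 ((pCore q H).map (inl : H →* Ext A H))
    (Cores.pCore_isPGroup.map _) x hxp (good hn σ hσ hfpf hy1 hq2) _ le_rfl
    (extA_le_normalizer_map.mpr hCinv ⟨a0, rfl⟩)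
  refine inl_injective (φ := MulDistribMulAction.toMulAut A H) ?_
  rw [show (τ ^ 2 ^ (n - 1)) z = (a0 ^ 2 ^ (n - 1)) • z from rfl, ← inr_conj_inl, map_pow]
  have h1 := mem_centralizer_iff.mp (hkey (mem_zpowers _)) (inl z) (mem_map_of_mem _ hz)
  rw [← h1, mul_inv_cancel_right]

end Cfsg.Agent.Hall.Gross

namespace Cfsg.Agent.Hall.Gross

open Subgroup
open Cfsg
open Cfsg.Agent.Coprime.ShultGross (quotFitting quotFitting_pow_mk quotFitting_fpf not_dvd_card_of_fpf)

universe vG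

/-- Gross's theorem. -/
theorem hasChain : ∀ n, 2 ≤ n → ∀ (G : Type vG) [Group G] [Finite G], Group.IsSolvable G →
    ∀ σ : MulAut G, σ ^ 2 ^ n = 1 → (∀ g : G, σ g = g → g = 1) → HasChain G (2 * n - 2) := by
  have h2 : Fact (Nat.Prime 2) := ⟨Nat.prime_two⟩
  intro n hn
  induction n, hn using Nat.le_induction with
  | base =>
    intro G _ _ hG σ hσ hfpf
    have hτ2 : quotFitting σ ^ 2 = 1 := by
      have := quot_pow_eq_one (n := 2) two_pos le_rfl σ hσ hfpf
      simpa using this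
    have hτf := quotFitting_fpf σ hσ hfpf
    have hinv : ∀ w, quotFitting σ w = w⁻¹ := fun w => by
      have hodd : ¬ 2 ∣ Nat.card (G ⧸ fittingSubgroup G) :=
        not_dvd_card_of_fpf (n := 1) (quotFitting σ) (by rw [pow_one]; exact hτ2) hτf
      -- `w⁻¹ * τ w` is inverted, so every element is
      have hsurj : Function.Surjective (fun v => v⁻¹ * quotFitting σ v) :=
        Finite.surjective_of_injective fun a b hab => by
          have : quotFitting σ (b * a⁻¹) = b * a⁻¹ := by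
            have h' : a⁻¹ * quotFitting σ a = b⁻¹ * quotFitting σ b := hab
            rw [map_mul, map_inv,
              show quotFitting σ b = b * (a⁻¹ * quotFitting σ a) by rw [h', mul_inv_cancel_left],
              ← mul_assoc, mul_inv_cancel_right]
          exact (mul_inv_eq_one.mp (hτf _ this)).symm
      obtain ⟨v, rfl⟩ := hsurj w
      have e : quotFitting σ (quotFitting σ v) = v := by
        rw [← MulAut.mul_apply, ← pow_two, hτ2, MulAut.one_apply]
      show quotFitting σ (v⁻¹ * quotFitting σ v) = _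
      rw [map_mul, map_inv, e, mul_inv_rev, inv_inv]
    exact hasChain_succ (hasChain_one fun a b => by
      apply inv_injective
      rw [← hinv, map_mul, hinv, hinv, ← mul_inv_rev])
  | succ n hn ih =>
    intro G _ _ hG σ hσ hfpf
    have hσ' : quotFitting σ ^ 2 ^ (n + 1) = 1 := MulEquiv.ext fun w => by
      obtain ⟨g, rfl⟩ := QuotientGroup.mk_surjective w
      rw [quotFitting_pow_mk, hσ]
      rfl
    have hch := ih ((G ⧸ fittingSubgroup G) ⧸ fittingSubgroup (G ⧸ fittingSubgroup G)) inferInstance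
      (quotFitting (quotFitting σ))
      (by simpa using quot_quot_pow_eq_one (n := n + 1) n.succ_pos σ hσ hfpf)
      (quotFitting_fpf _ hσ' (quotFitting_fpf σ hσ hfpf))
    rw [show 2 * (n + 1) - 2 = 2 * n - 2 + 1 + 1 by omega]
    exact hasChain_succ (hasChain_succ hch)

end Cfsg.Agent.Hall.Gross
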