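import Mathlib.NumberTheory.Multiplicity
import Mathlib.Tactic

/-!
Arithmetic for Gross's theorem on fixed-point-free automorphisms of order `2 ^ n`.
-/

namespace Cfsg.Agent.Hall.GrossArith

/-- A `2`-power dividing `q ^ (2 * m) - 1` divides `m * (q ^ 2 - 1)`. -/
theorem dvd_mul_sq_sub_one {q m k : ℕ} (hq : 1 < q) (hodd : ¬ 2 ∣ q) (hm : 0 < m)
    (h : 2 ^ k ∣ q ^ (2 * m) - 1) : 2 ^ k ∣ m * (q ^ 2 - 1) := by
  have hne : q ^ (2 * m) - 1 ≠ 0 := by
    have := Nat.one_lt_pow (show 2 * m ≠ 0 by omega) hq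
    omega
  have hk : k ≤ padicValNat 2 (q ^ (2 * m) - 1) := (padicValNat_dvd_iff_le hne).mp h
  have hv := padicValNat.pow_two_sub_one (x := q) (n := 2 * m) hq hodd (by omega) ⟨m, by omega⟩
  rw [padicValNat.mul (by omega) (by omega), padicValNat.self (by omega)] at hv
  have hsq : q ^ 2 - 1 = (q + 1) * (q - 1) := by
    have := Nat.sq_sub_sq q 1
    simpa using this
  rw [hsq]
  have h1 : m * ((q + 1) * (q - 1)) ≠ 0 := by
    have : 0 < q - 1 := by omega
    positivity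
  rw [padicValNat_dvd_iff_le h1, padicValNat.mul (by omega) (Nat.mul_ne_zero (by omega) (by omega)),
    padicValNat.mul (by omega) (by omega)]
  omega

/-- A `2`-power dividing `q ^ e - 1`, with `e` odd, divides `q - 1`. -/
theorem dvd_sub_one_of_odd {q e k : ℕ} (hq : 1 ≤ q) (hodd : Odd q) (he : Odd e)
    (h : 2 ^ k ∣ q ^ e - 1) : 2 ^ k ∣ q - 1 := by
  have hs : Odd (∑ i ∈ Finset.range e, q ^ i) := by
    rw [Nat.odd_iff, Finset.sum_nat_mod]
    simp [Nat.odd_iff.mp (hodd.pow), Nat.odd_iff.mp he]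
  have hmul : (∑ i ∈ Finset.range e, q ^ i) * (q - 1) = q ^ e - 1 := by
    have := geom_sum_mul_add (q - 1) e
    rw [Nat.sub_add_cancel hq] at this
    omega
  rw [← hmul] at h
  exact (Nat.Coprime.pow_left k (Nat.coprime_two_left.mpr hs)).dvd_of_dvd_mul_left h

/-- For `3 ≤ q` and `3 ≤ m`: `m * (q ^ 2 - 1) ≤ q ^ m`. -/
theorem mul_sq_le_pow {q m : ℕ} (hq : 3 ≤ q) (hm : 3 ≤ m) : m * (q ^ 2 - 1) ≤ q ^ m := by
  obtain ⟨j, rfl⟩ : ∃ j, m = j + 3 := ⟨m - 3, by omega⟩
  have h : j + 3 ≤ q ^ (j + 1) := by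
    induction j with
    | zero => simpa using hq
    | succ j ih =>
      rw [pow_succ]
      nlinarith [ih (by omega)]
  calc (j + 3) * (q ^ 2 - 1) ≤ q ^ (j + 1) * q ^ 2 := Nat.mul_le_mul h (Nat.sub_le _ _)
    _ = q ^ (j + 3) := by rw [← pow_add]

/-- The shape of the index allowed by the counting bound. -/
theorem shape {q e k : ℕ} (hq : q.Prime) (hq2 : q ≠ 2) (he : 2 ≤ e) (hdvd : 2 ^ k ∣ q ^ e - 1)
    (hle : q ^ e ≤ (2 ^ k - 1) * (2 ^ k - 1)) :
    (e = 2 ∧ q ≤ 2 ^ k - 1) ∨ (e = 4 ∧ q = 3 ∧ k = 4) := by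
  have hq3 : 3 ≤ q := by have := hq.two_le; omega
  have hoddq : Odd q := hq.odd_of_ne_two hq2
  have hk1 : 1 ≤ 2 ^ k := Nat.one_le_two_pow
  rcases Nat.even_or_odd e with ⟨m, rfl⟩ | ho
  · have hm : 1 ≤ m := by omega
    rw [← two_mul] at hdvd hle ⊢
    have hqm : q ^ m ≤ 2 ^ k - 1 := by
      rw [two_mul, pow_add] at hle
      exact Nat.mul_self_le_mul_self_iff.mp hle
    rcases (show m = 1 ∨ m = 2 ∨ 3 ≤ m by omega) with rfl | rfl | hm3
    · exact Or.inl ⟨rfl, by simpa using hqm⟩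
    · right
      have h2 : 2 ^ k ∣ 2 * (q ^ 2 - 1) :=
        dvd_mul_sq_sub_one (by omega) (fun hd => by obtain ⟨a, ha⟩ := hoddq; omega) (by omega) hdvd
      have hq9 : 9 ≤ q ^ 2 := by nlinarith
      obtain ⟨t, ht⟩ := h2
      have ht1 : t = 1 := by
        rcases (show t = 0 ∨ t = 1 ∨ 2 ≤ t by omega) with h | h | h
        · subst h; simp at ht; omega
        · exact h
        · have : 2 * (q ^ 2 - 1) < 2 ^ k * 2 := by omega
          have : 2 ^ k * 2 ≤ 2 ^ k * t := Nat.mul_le_mul_left _ h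
          omega
      subst ht1
      rw [mul_one] at ht
      obtain ⟨a, ha⟩ := hoddq
      have hsq : q ^ 2 - 1 = (q - 1) * (q + 1) := by
        have := Nat.sq_sub_sq q 1
        rw [one_pow] at this
        rw [this, mul_comm]
      have hp1 : (q - 1) ∣ 2 ^ k := ⟨2 * (q + 1), by rw [← ht, hsq]; ring⟩
      have hp2 : (q + 1) ∣ 2 ^ k := ⟨2 * (q - 1), by rw [← ht, hsq]; ring⟩
      obtain ⟨i, -, hi⟩ := (Nat.dvd_prime_pow Nat.prime_two).mp hp1
      obtain ⟨j, -, hj⟩ := (Nat.dvd_prime_pow Nat.prime_two).mp hp2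
      have hij : i < j := (Nat.pow_lt_pow_iff_right (by norm_num : 1 < 2)).mp (by omega : 2 ^ i < 2 ^ j)
      have hi1 : i = 1 := by
        rcases (show i = 0 ∨ i = 1 ∨ 2 ≤ i by omega) with h | h | h
        · subst h; simp at hi; omega
        · exact h
        · exfalso
          have h4i : 4 ∣ 2 ^ i := by simpa using Nat.pow_dvd_pow 2 h
          have h4j : 4 ∣ 2 ^ j := by simpa using Nat.pow_dvd_pow 2 (by omega : 2 ≤ j)
          omega
      subst hi1
      have hq' : q = 3 := by simp at hi; omega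
      subst hq'
      refine ⟨rfl, rfl, ?_⟩
      have : 2 ^ k = 2 ^ 4 := by rw [← ht]; norm_num
      exact Nat.pow_right_injective le_rfl this
    · exfalso
      have h2 : 2 ^ k ∣ m * (q ^ 2 - 1) :=
        dvd_mul_sq_sub_one (by omega) (fun hd => by obtain ⟨a, ha⟩ := hoddq; omega) (by omega) hdvd
      have hpos : 0 < m * (q ^ 2 - 1) := by
        have : 9 ≤ q ^ 2 := by nlinarith
        exact Nat.mul_pos (by omega) (by omega)
      have := Nat.le_of_dvd hpos h2
      have := mul_sq_le_pow hq3 hm3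
      omega
  · exfalso
    have h1 := Nat.le_of_dvd (by omega) (dvd_sub_one_of_odd (by omega) hoddq ho hdvd)
    have h3 : q ^ 3 ≤ q ^ e := Nat.pow_le_pow_right (by omega) (by
      obtain ⟨a, ha⟩ := ho
      omega)
    have h4 : (2 ^ k - 1) * (2 ^ k - 1) ≤ q * q := Nat.mul_le_mul (by omega) (by omega)
    have : q ^ 3 = q * q * q := by ring
    nlinarith

end Cfsg.Agent.Hall.GrossArith
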