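import Cfsg.Agent.Hall.GrossArith
import Cfsg.Agent.Coprime.ShultGrossArith
import Mathlib.GroupTheory.SpecificGroups.Cyclic
import Mathlib.GroupTheory.PGroup
import Mathlib.GroupTheory.Subgroup.Simple
import Mathlib.NumberTheory.LegendreSymbol.Basic

/-!
An elementary abelian group with a nondegenerate alternating form, a form-preserving automorphism
`c` of order `2 ^ k` whose involution inverts, and small order: no abelian group of odd order
prime to `q` preserving the form is normalised by `c`.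
-/

namespace Cfsg.Agent.Hall.GrossForm

open Subgroup

variable {M C : Type*} [CommGroup M] [Finite M] [CommGroup C] {q : ℕ} [hq : Fact q.Prime]

omit [Finite M] hq in
/-- An exponent `q` bound on the values of a pairing. -/
theorem pair_pow_eq_one (hexp : ∀ x : M, x ^ q = 1) (B : M →* M →* C) (x y : M) : B x y ^ q = 1 := by
  rw [← map_pow, hexp, map_one]

/-- A subgroup of prime order is generated by each nontrivial element. -/
theorem zpowers_eq_of_card {L : Subgroup M} (hL : Nat.card L = q) {v : M} (hv : v ∈ L) (hv1 : v ≠ 1) :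
    zpowers v = L := by
  refine eq_of_le_of_card_ge (zpowers_le.mpr hv) ?_
  have h : Nat.card (zpowers v) ∣ q := hL ▸ card_dvd_of_le (zpowers_le.mpr hv)
  rcases (Nat.dvd_prime hq.out).mp h with h1 | h1
  · exact absurd (zpowers_eq_bot.mp (card_eq_one.mp h1)) hv1
  · rw [hL, h1]

/-- An automorphism fixing a subgroup of prime order acts on it by a power. -/
theorem exists_power {L : Subgroup M} (hL : Nat.card L = q) (f : MulAut M) (hf : L.map f.toMonoidHom = L) :
    ∃ a : ℤ, ∀ v ∈ L, f v = v ^ a := by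
  have : Nontrivial L := Finite.one_lt_card_iff_nontrivial.mp (by rw [hL]; exact hq.out.one_lt)
  obtain ⟨⟨v, hv⟩, hv1⟩ := exists_ne (1 : L)
  have hv1' : v ≠ 1 := fun h => hv1 (Subtype.ext h)
  obtain ⟨a, ha⟩ : f v ∈ zpowers v := by
    rw [zpowers_eq_of_card hL hv hv1']
    exact hf ▸ mem_map_of_mem f.toMonoidHom hv
  refine ⟨a, fun w hw => ?_⟩
  rw [← zpowers_eq_of_card hL hv hv1'] at hw
  obtain ⟨i, rfl⟩ := hw
  show f (v ^ i) = (v ^ i) ^ a
  rw [map_zpow, ← (show v ^ a = f v from ha), ← zpow_mul, ← zpow_mul, mul_comm]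

/-- Two different subgroups of order `q` meet trivially. -/
theorem inf_eq_bot_of_ne {L₁ L₂ : Subgroup M} (h1 : Nat.card L₁ = q) (h2 : Nat.card L₂ = q)
    (hne : L₁ ≠ L₂) {x : M} (hx1 : x ∈ L₁) (hx2 : x ∈ L₂) : x = 1 := by
  by_contra hx
  exact hne ((zpowers_eq_of_card h1 hx1 hx).symm.trans (zpowers_eq_of_card h2 hx2 hx))

/-- Two different lines in a group of order `q ^ 2` generate it. -/
theorem exists_mul_of_ne {L₁ L₂ : Subgroup M} (hM : Nat.card M = q ^ 2) (h1 : Nat.card L₁ = q)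
    (h2 : Nat.card L₂ = q) (hne : L₁ ≠ L₂) (x : M) : ∃ a ∈ L₁, ∃ b ∈ L₂, x = a * b := by
  have hinj : Function.Injective (fun p : L₁ × L₂ => (p.1 : M) * p.2) := by
    rintro ⟨a, b⟩ ⟨a', b'⟩ h
    have e : (a' : M)⁻¹ * (a : M) = (b' : M) * (b : M)⁻¹ := by
      have h' : (a : M) * b = a' * b' := h
      calc (a' : M)⁻¹ * (a : M) = (a' : M)⁻¹ * ((a : M) * b) * (b : M)⁻¹ := by group
        _ = _ := by rw [h']; group
    have h1' := inf_eq_bot_of_ne h1 h2 hne (mul_mem (inv_mem a'.2) a.2) (e ▸ mul_mem b'.2 (inv_mem b.2))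
    have ea : a = a' := Subtype.ext (inv_mul_eq_one.mp h1').symm
    subst ea
    exact Prod.ext rfl (Subtype.ext (mul_left_cancel (show (a : M) * b = a * b' from h)))
  let _ := Fintype.ofFinite M
  let _ := Fintype.ofFinite (L₁ × L₂)
  have hcard : Fintype.card (L₁ × L₂) = Fintype.card M := by
    rw [← Nat.card_eq_fintype_card, ← Nat.card_eq_fintype_card, Nat.card_prod, h1, h2, hM, pow_two]
  obtain ⟨⟨a, b⟩, hab⟩ := ((Fintype.bijective_iff_injective_and_card _).mpr ⟨hinj, hcard⟩).2 x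
  exact ⟨a, a.2, b, b.2, hab.symm⟩

/-- An automorphism fixing three lines is a power map. -/
theorem scalar_of_three {L₁ L₂ L₃ : Subgroup M} (hM : Nat.card M = q ^ 2) (h1 : Nat.card L₁ = q)
    (h2 : Nat.card L₂ = q) (h3 : Nat.card L₃ = q) (h12 : L₁ ≠ L₂) (h13 : L₁ ≠ L₃) (h23 : L₂ ≠ L₃)
    (f : MulAut M) (f1 : L₁.map f.toMonoidHom = L₁) (f2 : L₂.map f.toMonoidHom = L₂)
    (f3 : L₃.map f.toMonoidHom = L₃) : ∃ a : ℤ, ∀ x, f x = x ^ a := by
  obtain ⟨a, ha⟩ := exists_power h1 f f1
  obtain ⟨b, hb⟩ := exists_power h2 f f2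
  obtain ⟨d, hd⟩ := exists_power h3 f f3
  have : Nontrivial L₃ := Finite.one_lt_card_iff_nontrivial.mp (by rw [h3]; exact hq.out.one_lt)
  obtain ⟨⟨u, hu⟩, hu1⟩ := exists_ne (1 : L₃)
  have hu1' : u ≠ 1 := fun h => hu1 (Subtype.ext h)
  obtain ⟨v, hv, w, hw, huvw⟩ := exists_mul_of_ne hM h1 h2 h12 u
  have hv1 : v ≠ 1 := fun h => hu1' (inf_eq_bot_of_ne h2 h3 h23 (by rw [huvw, h, one_mul]; exact hw) hu)
  have hw1 : w ≠ 1 := fun h => hu1' (inf_eq_bot_of_ne h1 h3 h13 (by rw [huvw, h, mul_one]; exact hv) hu)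
  have e := hd u hu
  rw [huvw, map_mul, ha v hv, hb w hw, mul_zpow] at e
  have e' : v ^ (a - d) = w ^ (d - b) := by
    rw [zpow_sub, zpow_sub]
    calc v ^ a * (v ^ d)⁻¹ = v ^ a * w ^ b * ((v ^ d)⁻¹ * (w ^ b)⁻¹) := by
          rw [mul_comm (v ^ d)⁻¹ (w ^ b)⁻¹, mul_assoc, mul_inv_cancel_left]
      _ = v ^ d * w ^ d * ((v ^ d)⁻¹ * (w ^ b)⁻¹) := by rw [e]
      _ = _ := by rw [mul_comm (v ^ d) (w ^ d), mul_assoc, mul_inv_cancel_left]
  have hva := inf_eq_bot_of_ne h1 h2 h12 (zpow_mem hv (a - d)) (e' ▸ zpow_mem hw (d - b))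
  have hwb : w ^ (d - b) = 1 := e'.symm.trans hva
  have hL1 : ∀ y ∈ L₁, f y = y ^ d := by
    intro y hy
    rw [← zpowers_eq_of_card h1 hv hv1] at hy
    obtain ⟨i, rfl⟩ := hy
    show f (v ^ i) = (v ^ i) ^ d
    rw [map_zpow, ha v hv, zpow_sub, mul_inv_eq_one] at *
    rw [hva, ← zpow_mul, ← zpow_mul, mul_comm]
  have hL2 : ∀ y ∈ L₂, f y = y ^ d := by
    intro y hy
    rw [← zpowers_eq_of_card h2 hw hw1] at hy
    obtain ⟨i, rfl⟩ := hy
    show f (w ^ i) = (w ^ i) ^ d
    rw [map_zpow, hb w hw]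
    rw [zpow_sub, mul_inv_eq_one] at hwb
    rw [← hwb, ← zpow_mul, ← zpow_mul, mul_comm]
  refine ⟨d, fun x => ?_⟩
  obtain ⟨y, hy, z, hz, rfl⟩ := exists_mul_of_ne hM h1 h2 h12 x
  rw [map_mul, hL1 y hy, hL2 z hz, mul_zpow]

omit [Finite M] in
/-- A power map preserving a nonzero pairing squares to the identity. -/
theorem sq_eq_one_of_scalar (hexp : ∀ x : M, x ^ q = 1) (B : M →* M →* C) (f : MulAut M)
    (hf : ∀ x y, B (f x) (f y) = B x y) {a : ℤ} (ha : ∀ x, f x = x ^ a) {x y : M} (hxy : B x y ≠ 1) :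
    ∀ z, f (f z) = z := by
  have h := hf x y
  rw [ha, ha, map_zpow B, MonoidHom.zpow_apply, map_zpow (B x), ← zpow_mul] at h
  have hord : orderOf (B x y) = q := orderOf_eq_prime (pair_pow_eq_one hexp B x y) hxy
  have h' : B x y ^ (a * a - 1) = 1 := by rw [zpow_sub, h, zpow_one, mul_inv_cancel]
  have hdvd : (q : ℤ) ∣ a * a - 1 := by
    rw [← hord]
    exact orderOf_dvd_iff_zpow_eq_one.mpr h'
  intro z
  rw [ha, ha, ← zpow_mul]
  obtain ⟨t, ht⟩ := hdvd
  rw [show a * a = q * t + 1 by omega, zpow_add, zpow_mul, zpow_natCast, hexp, one_zpow, one_mul, zpow_one]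

omit [Finite M] in
/-- The lines of an elementary group of order `q ^ 2`. -/
theorem card_lines [Finite M] (hexp : ∀ x : M, x ^ q = 1) (hM : Nat.card M = q ^ 2) :
    Nat.card {L : Subgroup M // Nat.card L = q} = q + 1 := by
  classical
  let f : {x : M // x ≠ 1} → {L : Subgroup M // Nat.card L = q} := fun x =>
    ⟨zpowers (x : M), by rw [Nat.card_zpowers]; exact orderOf_eq_prime (hexp _) x.2⟩
  have hfib : ∀ L, Nat.card {x // f x = L} = q - 1 := by
    intro L
    let e : {x // f x = L} ≃ {x : L.1 // x ≠ 1} :=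
      { toFun := fun x => ⟨⟨x.1.1, by
          have := congrArg Subtype.val x.2
          exact this ▸ mem_zpowers _⟩, fun h => x.1.2 (congrArg Subtype.val h)⟩
        invFun := fun y => ⟨⟨y.1.1, fun h => y.2 (Subtype.ext h)⟩,
          Subtype.ext (zpowers_eq_of_card L.2 y.1.2 fun h => y.2 (Subtype.ext h))⟩
        left_inv := fun x => rfl
        right_inv := fun y => rfl }
    let _ := Fintype.ofFinite L.1
    rw [Nat.card_congr e, Nat.card_eq_fintype_card, Fintype.card_subtype_compl, Fintype.card_subtype_eq,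
      ← Nat.card_eq_fintype_card, L.2]
  have h1 : Nat.card {x : M // x ≠ 1} = q ^ 2 - 1 := by
    let _ := Fintype.ofFinite M
    rw [Nat.card_eq_fintype_card, Fintype.card_subtype_compl, Fintype.card_subtype_eq,
      ← Nat.card_eq_fintype_card, hM]
  let _ := Fintype.ofFinite {L : Subgroup M // Nat.card L = q}
  rw [← Nat.card_congr (Equiv.sigmaFiberEquiv f), Nat.card_sigma, Finset.sum_congr rfl fun L _ => hfib L,
    Finset.sum_const, Finset.card_univ, ← Nat.card_eq_fintype_card, smul_eq_mul] at h1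
  have hsq : q ^ 2 - 1 = (q + 1) * (q - 1) := by
    have := Nat.sq_sub_sq q 1
    simpa using this
  rw [hsq] at h1
  exact Nat.eq_of_mul_eq_mul_right (by have := hq.out.two_le; omega) h1

/-- The case of order `3 ^ 4` and `2 ^ 4`. -/
theorem not_card_eightyone (hexp : ∀ x : M, x ^ 3 = 1) (B : M →* M →* C)
    (hnd : ∀ x, (∀ y, B y x = 1) → x = 1) (c : MulAut M) (hc : ∀ x y, B (c x) (c y) = B x y)
    (hneg : ∀ x, (c ^ 8) x = x⁻¹) (hM : Nat.card M = 81) : False := by
  have hsq : ∀ x : M, x * x = 1 → x = 1 := fun x hx => by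
    have := hexp x
    rwa [pow_three, hx, mul_one] at this
  have hcpow : ∀ j : ℕ, ∀ x y, B ((c ^ j) x) ((c ^ j) y) = B x y := by
    intro j
    induction j with
    | zero => intro x y; rfl
    | succ j ih => intro x y; rw [pow_succ', MulAut.mul_apply, MulAut.mul_apply, hc]; exact ih x y
  let P : M →* M := (c ^ 4).toMonoidHom * (c ^ 2).toMonoidHom * (MonoidHom.id M)⁻¹
  let P' : M →* M := (c ^ 4).toMonoidHom * (c ^ 2).toMonoidHom⁻¹ * (MonoidHom.id M)⁻¹
  have hP : ∀ x, P x = (c ^ 4) x * (c ^ 2) x * x⁻¹ := fun x => rfl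
  have hP' : ∀ x, P' x = (c ^ 4) x * ((c ^ 2) x)⁻¹ * x⁻¹ := fun x => rfl
  have hadd : ∀ (i j : ℕ) x, (c ^ i) ((c ^ j) x) = (c ^ (i + j)) x := fun i j x => by
    rw [pow_add, MulAut.mul_apply]
  have hcomp : ∀ x, P (P' x) = 1 := by
    intro x
    rw [hP, hP']
    simp only [map_mul, map_inv, hadd, mul_inv_rev, inv_inv]
    rw [show (c ^ (4 + 4)) x = x⁻¹ from hneg x]
    have e : (c ^ (4 + 2)) x = (c ^ (2 + 4)) x := rfl
    have e3 := hexp ((c ^ 4) x)
    rw [e, show (2 + 2 : ℕ) = 4 from rfl]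
    generalize (c ^ 4) x = a at *
    generalize (c ^ (2 + 4)) x = b
    generalize (c ^ 2) x = d
    have : a⁻¹ * a⁻¹ * a⁻¹ = 1 := by rw [← mul_inv, ← mul_inv, ← pow_three', e3, inv_one]
    calc _ = (a⁻¹ * a⁻¹ * a⁻¹) * (b⁻¹ * b) * (d⁻¹ * d) * (x⁻¹ * x) := by
          simp only [mul_comm, mul_left_comm, mul_assoc]
      _ = 1 := by rw [this, inv_mul_cancel, inv_mul_cancel, inv_mul_cancel, one_mul, one_mul, one_mul]
  have hker : ∀ S : Subgroup M, (∀ x ∈ S, c x ∈ S) → S = ⊥ ∨ S = ⊤ := by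
    intro S hS
    have hSmap : S.map c.toMonoidHom = S := by
      refine eq_of_le_of_card_ge ?_ (card_map_of_injective c.injective).ge
      rintro _ ⟨x, hx, rfl⟩
      exact hS x hx
    let cS : MulAut S := (S.equivMapOfInjective c.toMonoidHom c.injective).trans (MulEquiv.subgroupCongr hSmap)
    have hcS : ∀ (j : ℕ) (x : S), (((cS ^ j) x : S) : M) = (c ^ j) x := by
      intro j
      induction j with
      | zero => intro x; rfl
      | succ j ih =>
        intro x
        rw [pow_succ', MulAut.mul_apply, pow_succ', MulAut.mul_apply, ← ih]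
        rfl
    have h16 : 2 ^ 4 ∣ Nat.card S - 1 := by
      refine Coprime.ShultGrossArith.dvd_card_sub_one cS (MulEquiv.ext fun x => Subtype.ext ?_) fun x hx => ?_
      · rw [hcS, show (2 : ℕ) ^ 4 = 8 + 8 from rfl, ← hadd, hneg, hneg, inv_inv]
        rfl
      · refine Subtype.ext (hsq _ ?_)
        have h := congrArg Subtype.val hx
        rw [hcS, show (2 : ℕ) ^ (4 - 1) = 8 from rfl, hneg] at h
        nth_rewrite 1 [← h]
        exact inv_mul_cancel _
    have hd : Nat.card S ∣ 3 ^ 4 := by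
      rw [show (3 : ℕ) ^ 4 = Nat.card M from hM.symm]
      exact card_subgroup_dvd_card S
    obtain ⟨i, hi, hie⟩ := (Nat.dvd_prime_pow Nat.prime_three).mp hd
    rw [hie] at h16
    interval_cases i <;> norm_num at h16
    · exact Or.inl (card_eq_one.mp (by rw [hie]; rfl))
    · exact Or.inr (eq_top_of_card_eq _ (by rw [hie, hM]; rfl))
  have hcP : ∀ (j : ℕ) x, (c ^ j) (c x) = c ((c ^ j) x) := fun j x => by
    rw [← MulAut.mul_apply, ← MulAut.mul_apply, ← pow_succ, ← pow_succ']
  -- a vanishing combination contradicts the form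
  have hkey : ∀ y, (c ^ 4) y * (c ^ 2) y = y → (c ^ 4) y = y * (c ^ 2) y → y = 1 := by
    intro y h1 h2
    rw [h2, mul_assoc, mul_eq_left] at h1
    exact (c ^ 2).injective ((hsq _ h1).trans (map_one _).symm)
  obtain ⟨w, hw⟩ : ∃ w : M, w ≠ 1 := by
    have : Nontrivial M := Finite.one_lt_card_iff_nontrivial.mp (by omega)
    exact exists_ne 1
  have hPz : (∀ x, P x = 1) ∨ ∀ x, P' x = 1 := by
    rcases hker P'.ker (fun x hx => by
      rw [MonoidHom.mem_ker] at hx ⊢
      rw [hP', hcP, hcP, ← map_inv c, ← map_inv c, ← map_mul c, ← map_mul c, ← hP', hx, map_one]) with h | h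
    · rcases hker P.ker (fun x hx => by
        rw [MonoidHom.mem_ker] at hx ⊢
        rw [hP, hcP, hcP, ← map_inv, ← map_mul, ← map_mul, ← hP, hx, map_one]) with h' | h'
      · exfalso
        refine hw ?_
        have h1 : P' w ∈ P.ker := MonoidHom.mem_ker.mpr (hcomp w)
        rw [h', Subgroup.mem_bot] at h1
        have h2 : w ∈ P'.ker := MonoidHom.mem_ker.mpr h1
        rwa [h, Subgroup.mem_bot] at h2
      · exact Or.inl fun x => MonoidHom.mem_ker.mp (h' ▸ mem_top x)
    · exact Or.inr fun x => MonoidHom.mem_ker.mp (h ▸ mem_top x)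
  refine hw ?_
  have h42 : ∀ y, B ((c ^ 2) y) ((c ^ 4) w) = B y ((c ^ 2) w) := fun y => by
    rw [show (c ^ 4) w = (c ^ 2) ((c ^ 2) w) from (hadd 2 2 w).symm, hcpow]
  rcases hPz with h | h
  · have e1 : ∀ x, (c ^ 4) x * (c ^ 2) x = x := fun x => mul_inv_eq_one.mp (h x)
    refine hkey w (e1 w) (mul_inv_eq_one.mp (hnd _ fun y => ?_))
    rw [map_mul, map_inv, mul_inv_eq_one]
    conv_lhs => rw [← e1 y]
    rw [map_mul, MonoidHom.mul_apply, hcpow, h42, map_mul]
  · have e1 : ∀ x, (c ^ 4) x * ((c ^ 2) x)⁻¹ = x := fun x => mul_inv_eq_one.mp (h x)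
    refine hkey w (mul_inv_eq_one.mp (hnd _ fun y => ?_)) (mul_inv_eq_iff_eq_mul.mp (e1 w))
    rw [map_mul, map_inv, mul_inv_eq_one, map_mul]
    conv_lhs => arg 1; rw [← e1 y]
    rw [map_mul, map_inv, MonoidHom.mul_apply, MonoidHom.inv_apply, hcpow, h42, inv_mul_cancel_right]

/-- No odd group prime to `q` preserving the form is normalised by `c`. -/
theorem eq_bot {r k : ℕ} [hr : Fact r.Prime] (hq2 : q ≠ 2) (hr2 : r ≠ 2) (hrq : r ≠ q)
    (hexp : ∀ x : M, x ^ q = 1) (B : M →* M →* C) (halt : ∀ x, B x x = 1)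
    (hnd : ∀ x, (∀ y, B y x = 1) → x = 1) (c : MulAut M) (hc : ∀ x y, B (c x) (c y) = B x y)
    (hk : 1 ≤ k) (hneg : ∀ x, (c ^ 2 ^ (k - 1)) x = x⁻¹) (hdvd : 2 ^ k ∣ Nat.card M - 1)
    (hle : Nat.card M ≤ (2 ^ k - 1) * (2 ^ k - 1)) (A : Subgroup (MulAut M)) (hA : IsPGroup r A)
    (hAB : ∀ a ∈ A, ∀ x y, B (a x) (a y) = B x y) (hcA : c ∈ normalizer (A : Set (MulAut M))) : A = ⊥ := by
  classical
  have hQ : IsPGroup q M := fun x => ⟨1, by rw [pow_one]; exact hexp x⟩
  obtain ⟨e, he⟩ := IsPGroup.iff_card.mp hQ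
  have hsq : ∀ x : M, x * x = 1 → x = 1 := fun x hx => by
    refine orderOf_eq_one_iff.mp (Nat.Coprime.eq_one_of_dvd ?_ (orderOf_dvd_of_pow_eq_one (hexp x)))
    exact Nat.Coprime.coprime_dvd_left (orderOf_dvd_of_pow_eq_one (by rw [pow_two]; exact hx))
      ((Nat.coprime_primes Nat.prime_two hq.out).mpr hq2.symm)
  rcases Nat.lt_or_ge e 2 with he2 | he2
  · -- the group is cyclic, so the form is trivial
    have : Subsingleton M := by
      have hcyc : IsCyclic M := by
        rcases (show e = 0 ∨ e = 1 by omega) with rfl | rfl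
        · have : Subsingleton M := (Nat.card_eq_one_iff_unique.mp (by rw [he]; rfl)).1
          exact isCyclic_of_subsingleton
        · exact isCyclic_of_prime_card (p := q) (by rw [he, pow_one])
      obtain ⟨g, hg⟩ := hcyc.exists_generator
      refine subsingleton_of_forall_eq 1 fun x => hnd x fun y => ?_
      obtain ⟨i, rfl⟩ := hg x
      obtain ⟨j, rfl⟩ := hg y
      show B (g ^ j) (g ^ i) = 1
      rw [map_zpow B, MonoidHom.zpow_apply, map_zpow (B g), halt, one_zpow, one_zpow]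
    exact eq_bot_iff.mpr fun a _ => Subgroup.mem_bot.mpr (MulEquiv.ext fun x => Subsingleton.elim _ _)
  rcases GrossArith.shape hq.out hq2 he2 (he ▸ hdvd) (he ▸ hle) with ⟨rfl, hqk⟩ | ⟨rfl, rfl, rfl⟩
  swap
  · exact (not_card_eightyone hexp B hnd c hc hneg he).elim
  let _ : MulAction (MulAut M) {L : Subgroup M // Nat.card L = q} :=
    { smul := fun f L => ⟨L.1.map f.toMonoidHom, (card_map_of_injective f.injective).trans L.2⟩
      one_smul := fun L => Subtype.ext (by
        show L.1.map (1 : MulAut M).toMonoidHom = L.1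
        exact Subgroup.map_id _)
      mul_smul := fun f g L => Subtype.ext (by
        show L.1.map (f * g).toMonoidHom = (L.1.map g.toMonoidHom).map f.toMonoidHom
        rw [Subgroup.map_map]
        rfl) }
  obtain ⟨x0, y0, hxy⟩ : ∃ x y, B x y ≠ 1 := by
    have : Nontrivial M := Finite.one_lt_card_iff_nontrivial.mp
      (by rw [he]; exact Nat.one_lt_pow (by norm_num) hq.out.one_lt)
    obtain ⟨w, hw⟩ := exists_ne (1 : M)
    by_contra h
    push Not at h
    exact hw (hnd w fun y => h y w)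
  -- an automorphism preserving the form and fixing three lines is an involution or trivial
  have hthree : ∀ f : MulAut M, (∀ x y, B (f x) (f y) = B x y) → ∀ L₁ L₂ L₃ : {L : Subgroup M // Nat.card L = q},
      L₁ ≠ L₂ → L₁ ≠ L₃ → L₂ ≠ L₃ → f • L₁ = L₁ → f • L₂ = L₂ → f • L₃ = L₃ → f * f = 1 := by
    intro f hf L₁ L₂ L₃ h12 h13 h23 f1 f2 f3
    obtain ⟨a, ha⟩ := scalar_of_three he L₁.2 L₂.2 L₃.2 (fun h => h12 (Subtype.ext h))
      (fun h => h13 (Subtype.ext h)) (fun h => h23 (Subtype.ext h)) f (congrArg Subtype.val f1)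
      (congrArg Subtype.val f2) (congrArg Subtype.val f3)
    exact MulEquiv.ext fun z => sq_eq_one_of_scalar hexp B f hf ha hxy z
  have hAodd : ∀ a ∈ A, a * a = 1 → a = 1 := by
    intro a ha h
    obtain ⟨i, hi⟩ := hA ⟨a, ha⟩
    refine orderOf_eq_one_iff.mp (Nat.Coprime.eq_one_of_dvd ?_
      (orderOf_dvd_of_pow_eq_one (congrArg Subtype.val hi : a ^ r ^ i = 1)))
    exact Nat.Coprime.coprime_dvd_left (orderOf_dvd_of_pow_eq_one (by rw [pow_two]; exact h))
      (((Nat.coprime_primes Nat.prime_two hr.out).mpr hr2.symm).pow_right i)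
  have hclines : Nat.card {L : Subgroup M // Nat.card L = q} = q + 1 := card_lines hexp he
  let Φ : Set {L : Subgroup M // Nat.card L = q} := MulAction.fixedPoints A _
  have hΦ : ∀ L, L ∈ Φ ↔ ∀ a ∈ A, a • L = L := fun L =>
    ⟨fun h a ha => h ⟨a, ha⟩, fun h a => h a a.2⟩
  -- at most two lines are fixed by all of `A`
  by_cases hthr : ∃ L₁ L₂ L₃, L₁ ∈ Φ ∧ L₂ ∈ Φ ∧ L₃ ∈ Φ ∧ L₁ ≠ L₂ ∧ L₁ ≠ L₃ ∧ L₂ ≠ L₃
  · obtain ⟨L₁, L₂, L₃, h1, h2, h3, h12, h13, h23⟩ := hthr
    exact eq_bot_iff.mpr fun a ha => Subgroup.mem_bot.mpr (hAodd a ha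
      (hthree a (hAB a ha) L₁ L₂ L₃ h12 h13 h23 ((hΦ _).mp h1 a ha) ((hΦ _).mp h2 a ha) ((hΦ _).mp h3 a ha)))
  exfalso
  have hAlines := hA.card_modEq_card_fixedPoints {L : Subgroup M // Nat.card L = q}
  rw [hclines] at hAlines
  have hq3 : 3 ≤ q := by have := hq.out.two_le; omega
  rcases Nat.lt_or_ge k 3 with hk3 | hk3
  · -- `q = 3`: all four lines are fixed
    have hk2 : 2 ^ k ≤ 4 := le_trans (Nat.pow_le_pow_right (by norm_num) (by omega : k ≤ 2)) (by norm_num)
    obtain rfl : q = 3 := by omega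
    have hr5 : 5 ≤ r := by
      have := hr.out.two_le
      have h4 : r ≠ 4 := fun h => absurd (h ▸ hr.out) (by norm_num)
      omega
    let _ := Fintype.ofFinite {L : Subgroup M // Nat.card L = 3}
    have hall : ∀ L : {L : Subgroup M // Nat.card L = 3}, L ∈ Φ := by
      intro L
      obtain ⟨i, hi⟩ := hA.card_orbit L
      have hle4 : Nat.card (MulAction.orbit A L) ≤ 4 := by
        rw [← show Nat.card {L : Subgroup M // Nat.card L = 3} = 4 from hclines]
        exact Nat.card_le_card_of_injective Subtype.val Subtype.val_injective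
      have hi0 : i = 0 := by
        rcases Nat.eq_zero_or_pos i with h | h
        · exact h
        · have := Nat.le_self_pow h.ne' r
          omega
      rw [hi0, pow_zero, Nat.card_eq_one_iff_unique] at hi
      intro a
      exact congrArg Subtype.val (hi.1.elim ⟨a • L, MulAction.mem_orbit _ _⟩ ⟨L, MulAction.mem_orbit_self L⟩)
    rw [Nat.card_eq_fintype_card] at hclines
    obtain ⟨L₁, L₂, L₃, -, -, -, h12, h13, h23⟩ :=
      Finset.two_lt_card_iff.mp (show 2 < (Finset.univ : Finset {L : Subgroup M // Nat.card L = 3}).card by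
        rw [Finset.card_univ, hclines]; norm_num)
    exact hthr ⟨L₁, L₂, L₃, hall _, hall _, hall _, h12, h13, h23⟩
  · -- `c ^ 2` fixes no line
    have hlam : ∀ L : {L : Subgroup M // Nat.card L = q}, c • L ≠ L := by
      intro L hL
      have hmap : (L.1).map c.toMonoidHom = L.1 := congrArg Subtype.val hL
      let cL : MulAut L.1 :=
        (L.1.equivMapOfInjective c.toMonoidHom c.injective).trans (MulEquiv.subgroupCongr hmap)
      have hcL : ∀ (j : ℕ) (x : L.1), (((cL ^ j) x : L.1) : M) = (c ^ j) x := by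
        intro j
        induction j with
        | zero => intro x; rfl
        | succ j ih =>
          intro x
          rw [pow_succ', MulAut.mul_apply, pow_succ', MulAut.mul_apply, ← ih]
          rfl
      have h := Coprime.ShultGrossArith.dvd_card_sub_one cL (p := 2) (n := k)
        (MulEquiv.ext fun x => Subtype.ext (by
          rw [hcL, show k = k - 1 + 1 by omega, pow_succ, mul_two, pow_add, MulAut.mul_apply, hneg, hneg,
            inv_inv]
          rfl))
        (fun x hx => Subtype.ext (hsq _ (by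
          have h1 := congrArg Subtype.val hx
          rw [hcL, hneg] at h1
          nth_rewrite 1 [← h1]
          exact inv_mul_cancel _)))
      rw [L.2] at h
      have := Nat.le_of_dvd (by omega) h
      omega
    have hno : ∀ L : {L : Subgroup M // Nat.card L = q}, (c ^ 2) • L ≠ L := by
      intro L hL
      obtain ⟨a, ha⟩ := exists_power L.2 (c ^ 2) (congrArg Subtype.val hL)
      have hall : ∀ x, (c ^ 2) x = x ^ a := by
        intro x
        obtain ⟨v, hv, w, ⟨w', hw', rfl⟩, rfl⟩ :=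
          exists_mul_of_ne he L.2 (c • L).2 (fun h => hlam L (Subtype.ext h.symm)) x
        rw [map_mul, ha v hv, mul_zpow]
        congr 1
        show (c ^ 2) (c w') = c w' ^ a
        rw [← map_zpow c, ← ha w' hw', ← MulAut.mul_apply, ← MulAut.mul_apply, ← pow_succ, ← pow_succ']
      have h4 := sq_eq_one_of_scalar hexp B (c ^ 2) (fun x y => by
        rw [pow_two, MulAut.mul_apply, MulAut.mul_apply, hc, hc]) hall hxy
      refine hxy ?_
      have hx1 : x0 = 1 := by
        refine hsq _ ?_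
        have h8 : (c ^ 2 ^ (k - 1)) x0 = x0 := by
          have h4' : c ^ 4 = 1 := MulEquiv.ext fun z => by
            rw [show (4 : ℕ) = 2 + 2 from rfl, pow_add, MulAut.mul_apply]
            exact h4 z
          obtain ⟨t, ht⟩ : 4 ∣ 2 ^ (k - 1) := by simpa using Nat.pow_dvd_pow 2 (by omega : 2 ≤ k - 1)
          rw [ht, pow_mul, h4', one_pow, MulAut.one_apply]
        rw [hneg] at h8
        nth_rewrite 1 [← h8]
        exact inv_mul_cancel _
      rw [hx1, map_one, MonoidHom.one_apply]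
    -- so `q ≡ 3 mod 4` and `q + 1` is a power of two
    have hq4 : q % 4 = 3 := by
      by_contra h4
      obtain ⟨s, hs⟩ := ZMod.exists_sq_eq_neg_one_iff.mpr h4
      let J := c ^ 2 ^ (k - 2)
      have hJ2 : ∀ x, J (J x) = x⁻¹ := fun x => by
        rw [← MulAut.mul_apply, ← pow_add, ← two_mul, ← pow_succ', show k - 2 + 1 = k - 1 by omega]
        exact hneg x
      obtain ⟨t, rfl⟩ : ∃ t : ℕ, (t : ZMod q) = s := ⟨s.val, ZMod.natCast_zmod_val s⟩
      have ht : q ∣ t * t + 1 := by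
        rw [← ZMod.natCast_eq_zero_iff]
        push_cast
        rw [← hs]; ring
      have hex : ∃ L : {L : Subgroup M // Nat.card L = q}, J • L = L := by
        have key : ∀ v w : M, w = J v * v ^ t → J w = w ^ t := by
          rintro v _ rfl
          rw [map_mul, map_pow, hJ2, mul_pow, ← pow_mul]
          obtain ⟨u, hu⟩ := ht
          have : v ^ (t * t) = v⁻¹ := by
            refine eq_inv_of_mul_eq_one_left ?_
            rw [← pow_succ, hu, pow_mul, hexp, one_pow]
          rw [this, mul_comm]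
        have hmk : ∀ w : M, w ≠ 1 → J w ∈ zpowers w → ∃ L : {L : Subgroup M // Nat.card L = q}, J • L = L := by
          intro w hw hJw
          refine ⟨⟨zpowers w, by rw [Nat.card_zpowers]; exact orderOf_eq_prime (hexp _) hw⟩, Subtype.ext ?_⟩
          show (zpowers w).map J.toMonoidHom = zpowers w
          refine eq_of_le_of_card_ge ?_ (card_map_of_injective J.injective).ge
          rintro _ ⟨_, ⟨i, rfl⟩, rfl⟩
          show J (w ^ i) ∈ zpowers w
          rw [map_zpow]
          exact zpow_mem hJw i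
        by_cases hv : J x0 * x0 ^ t = 1
        · refine hmk x0 (fun h => hxy (by rw [h, map_one, MonoidHom.one_apply])) ?_
          rw [mul_eq_one_iff_eq_inv] at hv
          exact hv ▸ inv_mem (pow_mem (mem_zpowers _) _)
        · exact hmk _ hv (key x0 _ rfl ▸ pow_mem (mem_zpowers _) _)
      obtain ⟨L, hL⟩ := hex
      have hJc : ∀ L' : {L : Subgroup M // Nat.card L = q}, J • L' = L' → J • (c • L') = c • L' := fun L' h => by
        rw [← mul_smul, show J * c = c * J from (Commute.refl c).pow_left _, mul_smul, h]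
      have hne2 : c • (c • L) ≠ L := fun h => hno L (by rw [pow_two, mul_smul]; exact h)
      have hsq' := hthree J (fun x y => by
        show B ((c ^ 2 ^ (k - 2)) x) ((c ^ 2 ^ (k - 2)) y) = B x y
        generalize 2 ^ (k - 2) = j
        induction j with
        | zero => rfl
        | succ j ih => rw [pow_succ', MulAut.mul_apply, MulAut.mul_apply, hc]; exact ih)
        L (c • L) (c • c • L) (hlam L).symm hne2.symm (hlam (c • L)).symm hL (hJc L hL) (hJc _ (hJc L hL))
      have hone : x0 = 1 := hsq _ (by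
        have := congrArg (fun f : MulAut M => f x0) hsq'
        rw [MulAut.mul_apply, MulAut.one_apply, hJ2] at this
        nth_rewrite 1 [← this]
        exact inv_mul_cancel _)
      exact hxy (by rw [hone, map_one, MonoidHom.one_apply])
    have hdiv : 2 ^ k ∣ (q - 1) * (q + 1) := by
      have hsq2 := Nat.sq_sub_sq q 1
      rw [one_pow] at hsq2
      rw [mul_comm, ← hsq2, ← he]
      exact hdvd
    have hq1 : q + 1 = 2 ^ (k - 1) ∨ q + 1 = 2 ^ k := by
      obtain ⟨u, hu⟩ : ∃ u, q - 1 = 2 * u ∧ u % 2 = 1 := ⟨(q - 1) / 2, by omega⟩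
      have h2 : 2 ^ (k - 1) ∣ q + 1 := by
        rw [hu.1, show (2 : ℕ) ^ k = 2 * 2 ^ (k - 1) by rw [← pow_succ']; congr 1; omega, mul_assoc] at hdiv
        exact (Nat.Coprime.pow_left _ (Nat.coprime_two_left.mpr (Nat.odd_iff.mpr hu.2))).dvd_of_dvd_mul_left
          (Nat.dvd_of_mul_dvd_mul_left (by norm_num) hdiv)
      obtain ⟨t, ht⟩ := h2
      have h2k : (2 : ℕ) ^ k = 2 ^ (k - 1) * 2 := by rw [← pow_succ]; congr 1; omega
      have : t ≤ 2 := Nat.le_of_mul_le_mul_left (ht ▸ h2k ▸ (show q + 1 ≤ 2 ^ k by omega))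
        (Nat.two_pow_pos (k - 1))
      rcases (show t = 0 ∨ t = 1 ∨ t = 2 by omega) with rfl | rfl | rfl
      · simp at ht
      · exact Or.inl (by rw [ht, mul_one])
      · exact Or.inr (by rw [ht, h2k])
    have hndvd : ¬ r ∣ q + 1 := by
      intro h
      have : r ∣ 2 ^ k := by
        rcases hq1 with h' | h'
        · rw [h'] at h; exact h.trans (Nat.pow_dvd_pow 2 (Nat.sub_le _ _))
        · rw [h'] at h; exact h
      exact hr2 ((Nat.prime_dvd_prime_iff_eq hr.out Nat.prime_two).mp (hr.out.dvd_of_dvd_pow this))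
    obtain ⟨L, hL⟩ : Φ.Nonempty := by
      by_contra h
      rw [Set.not_nonempty_iff_eq_empty] at h
      change q + 1 ≡ Nat.card Φ [MOD r] at hAlines
      rw [h, Nat.card_eq_zero.mpr (Or.inl (Set.isEmpty_coe_sort.mpr rfl))] at hAlines
      exact hndvd (Nat.modEq_zero_iff_dvd.mp hAlines)
    have hstep : ∀ L ∈ Φ, c • L ∈ Φ := by
      intro L hL
      refine (hΦ _).mpr fun a ha => ?_
      have hmem : c⁻¹ * a * c ∈ A := (mem_normalizer_iff''.mp hcA a).mp ha
      rw [← mul_smul, show a * c = c * (c⁻¹ * a * c) by group, mul_smul, (hΦ L).mp hL _ hmem]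
    exact hthr ⟨L, c • L, c • c • L, hL, hstep _ hL, hstep _ (hstep _ hL), (hlam L).symm,
      fun h => hno L (by rw [pow_two, mul_smul]; exact h.symm), (hlam _).symm⟩

end Cfsg.Agent.Hall.GrossForm
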