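import Cfsg.Agent.Coprime.ShultGross
import Cfsg.Agent.Coprime.EndBound
import Cfsg.Agent.Coprime.Commutator

/-!
An element `T` of order dividing `2 ^ n` without fixed vectors, on a module for a finite group with
an automorphism `σ`: the abelian case and the counting bound in the class two case.
-/

namespace Cfsg.Agent.Hall.GrossLayer

open Subgroup
open Cfsg.Agent.Coprime Cfsg.Agent.Coprime.Weights Cfsg.Agent.Coprime.EndCount Cfsg.Agent.Coprime.EndBound
open Cfsg.Agent.Coprime.FpfPrime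
open scoped commutatorElement

variable {k V : Type*} [Field k] [AddCommGroup V] [Module k V]

/-- The abelian case: the involution of `σ` is invisible in the representation. -/
theorem abel_fix [IsAlgClosed k] {U : Type*} [CommGroup U] [Finite U] (hU : (Nat.card U : k) ≠ 0)
    (τ : U →* Module.End k V) (σ : MulAut U) (T : Module.End k V)
    (hcompat : ∀ u, T * τ u = τ (σ u) * T) {n : ℕ} (hσ : σ ^ 2 ^ n = 1)
    (hsum : ∑ j ∈ Finset.range (2 ^ n), T ^ j = 0) (v : U) : τ ((σ ^ 2 ^ (n - 1)) v) = τ v := by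
  classical
  have := finite_chars (k := k) (U := U) hU
  let _ := Fintype.ofFinite (U →* kˣ)
  rw [← mul_one (τ ((σ ^ 2 ^ (n - 1)) v)), ← mul_one (τ v), ← sum_proj hU τ, Finset.mul_sum, Finset.mul_sum]
  refine Finset.sum_congr rfl fun χ _ => ?_
  by_cases hz : proj τ χ = 0
  · rw [hz, mul_zero, mul_zero]
  obtain ⟨c, hc, hiff, -, -⟩ := ShultGross.orbit_stab (p := 2) hU τ σ T hcompat hσ hsum χ hz
  rw [act_mul_proj, act_mul_proj, (hiff _).mpr (Nat.pow_dvd_pow 2 (Nat.le_sub_one_of_lt hc)) v]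

/-- Restriction to the range of a commuting idempotent. -/
theorem exists_restrict (T e : Module.End k V) (hcomm : Commute T e) {p : ℕ} (hT : T ^ p = 1)
    (hsum : (∑ i ∈ Finset.range p, T ^ i) * e = 0) :
    ∃ T' : Module.End k (LinearMap.range e), (∀ v, ((T' v : LinearMap.range e) : V) = T v) ∧
      T' ^ p = 1 ∧ ∑ i ∈ Finset.range p, T' ^ i = 0 := by
  let T' : Module.End k (LinearMap.range e) :=
    T.restrict (p := LinearMap.range e) (q := LinearMap.range e) (by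
      rintro _ ⟨w, rfl⟩
      exact ⟨T w, (congrArg (fun f : Module.End k V => f w) hcomm.eq).symm⟩)
  have hT' : ∀ (i : ℕ) v, (((T' ^ i) v : LinearMap.range e) : V) = (T ^ i) v := by
    intro i
    induction i with
    | zero => intro v; rfl
    | succ i ih =>
      intro v
      rw [pow_succ', Module.End.mul_apply, pow_succ', Module.End.mul_apply, ← ih]
      rfl
  refine ⟨T', fun v => rfl, LinearMap.ext fun v => Subtype.ext (by rw [hT', hT]; rfl),
    LinearMap.ext fun ⟨_, w, rfl⟩ => Subtype.ext ?_⟩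
  simp only [LinearMap.sum_apply, Submodule.coe_sum, hT', LinearMap.zero_apply, Submodule.coe_zero]
  have := congrArg (fun f : Module.End k V => f w) hsum
  simpa only [Module.End.mul_apply, LinearMap.sum_apply, LinearMap.zero_apply] using this

/-- The elements with commutators in a central subgroup. -/
abbrev rad {Q : Type*} [Group Q] (K : Subgroup Q) : Subgroup Q := relCentralizer K ⊤

theorem mem_rad {Q : Type*} [Group Q] {K : Subgroup Q} (hK : K ≤ center Q) {a : Q} :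
    a ∈ rad K ↔ ∀ b, ⁅a, b⁆ ∈ K := by
  refine ⟨fun h b => h.2 b (mem_top b), fun h => ⟨mem_normalizer_iff.mpr fun u => ?_, fun b _ => h b⟩⟩
  constructor
  · intro hu
    rw [Subgroup.mem_center_iff.mp (hK hu) a, mul_inv_cancel_right]
    exact hu
  · intro hu
    have := Subgroup.mem_center_iff.mp (hK hu) a⁻¹
    rw [show a⁻¹ * (a * u * a⁻¹) = u * a⁻¹ by group] at this
    rwa [mul_right_cancel this]

theorem rad_normal {Q : Type*} [Group Q] {K : Subgroup Q} (hK : K ≤ center Q)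
    (hcen : ∀ a b : Q, ⁅a, b⁆ ∈ center Q) : (rad K).Normal := by
  refine ⟨fun a ha g => (mem_rad hK).mpr fun b => ?_⟩
  have h := (mem_rad hK).mp ha b
  have e : g * a * g⁻¹ = ⁅g, a⁆ * a := by rw [commutatorElement_def]; group
  have h1 : ⁅⁅g, a⁆ * a, b⁆ = ⁅a, b⁆ := by
    have hc := Subgroup.mem_center_iff.mp (hcen g a)
    rw [commutatorElement_mul_left_eq_conj_mul,
      commutatorElement_eq_one_iff_mul_comm.mpr (hc b).symm, mul_one,
      Subgroup.mem_center_iff.mp (hcen a b) ⁅g, a⁆, mul_inv_cancel_right]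
  rw [e, h1]
  exact h

variable [IsAlgClosed k] [FiniteDimensional k V]

/-- The counting bound for class two with a moved group. -/
theorem quad {Q : Type*} [Group Q] [Finite Q] {q : ℕ} [Fact q.Prime] (hQ : IsPGroup q Q) (hq2 : q ≠ 2)
    (hqk : (q : k) ≠ 0) (ρ : Q →* Module.End k V) (T : Module.End k V) {n : ℕ} (σ : MulAut Q)
    (hσ : σ ^ 2 ^ n = 1) (hfix : ∀ v, σ v = v → v = 1) (hT : T ^ 2 ^ n = 1)
    (hsum : ∑ j ∈ Finset.range (2 ^ n), T ^ j = 0) (hcompat : ∀ v, T * ρ v = ρ (σ v) * T)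
    (hcen : ∀ a b : Q, ⁅a, b⁆ ∈ center Q) (hgen : moved (σ ^ 2 ^ (n - 1)) = ⊤) {a0 b0 : Q}
    (hne : ρ ⁅a0, b0⁆ ≠ 1) :
    ∃ (K : Subgroup Q) (l : ℕ), K ≤ center Q ∧ ⁅a0, b0⁆ ∉ K ∧ 1 ≤ l ∧ l < n ∧
      (∀ u ∈ center Q, u⁻¹ * (σ ^ 2 ^ (n - l)) u ∈ K) ∧
      (∀ a, a⁻¹ * (σ ^ 2 ^ (n - 1)) a ∈ rad K → a ∈ rad K) ∧
      2 ^ l ∣ (rad K).index - 1 ∧ (rad K).index ≤ (2 ^ l - 1) * (2 ^ l - 1) := by
  classical
  have h2 : Fact (Nat.Prime 2) := ⟨Nat.prime_two⟩
  let _ : CommGroup (center Q) :=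
    { (inferInstance : Group (center Q)) with
      mul_comm := fun a b => Subtype.ext (Subgroup.mem_center_iff.mp b.2 a) }
  have hcardk : ∀ S : Subgroup Q, (Nat.card S : k) ≠ 0 := fun S => by
    obtain ⟨j, hj⟩ := IsPGroup.iff_card.mp (hQ.to_subgroup S)
    rw [hj, Nat.cast_pow]
    exact pow_ne_zero _ hqk
  let τ : center Q →* Module.End k V := ρ.comp (center Q).subtype
  obtain ⟨χ, hχ, hχ0⟩ := exists_proj_ne_zero_of_act_ne_one (hcardk _) (τ := τ)
    (u := ⟨⁅a0, b0⁆, hcen a0 b0⟩) hne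
  have hcmap : ∀ (φ : MulAut Q), ∀ u ∈ center Q, φ u ∈ center Q := fun φ u hu =>
    Subgroup.mem_center_iff.mpr fun g => by
      obtain ⟨g, rfl⟩ := φ.surjective g
      rw [← map_mul, ← map_mul, Subgroup.mem_center_iff.mp hu g]
  let σU : MulAut (center Q) :=
    { toFun := fun u => ⟨σ u, hcmap σ u u.2⟩
      invFun := fun u => ⟨σ.symm u, hcmap σ.symm u u.2⟩
      left_inv := fun u => Subtype.ext (σ.symm_apply_apply u)
      right_inv := fun u => Subtype.ext (σ.apply_symm_apply u)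
      map_mul' := fun a b => Subtype.ext (map_mul σ (a : Q) b) }
  have hσUj : ∀ (j : ℕ) (u : center Q), (((σU ^ j) u : center Q) : Q) = (σ ^ j) u := by
    intro j
    induction j with
    | zero => intro u; rfl
    | succ j ih =>
      intro u
      rw [pow_succ', MulAut.mul_apply, pow_succ', MulAut.mul_apply, ← ih]
      rfl
  have hσUp : σU ^ 2 ^ n = 1 := MulEquiv.ext fun u => Subtype.ext (by rw [hσUj, hσ]; rfl)
  obtain ⟨i, hin, hiff, hTi, hsum1⟩ := ShultGross.orbit_stab (hcardk _) τ σU T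
    (fun u => hcompat u) hσUp hsum χ hχ
  have hi0 : 0 < i := by
    rcases Nat.eq_zero_or_pos i with rfl | h
    swap
    · exact h
    exfalso
    refine hχ0 ?_
    set c0 : center Q := ⟨⁅a0, b0⁆, hcen a0 b0⟩
    have hall : ∀ j, χ ((σU ^ j) c0) = χ c0 := fun j => (hiff j).mpr (by rw [pow_zero]; exact one_dvd _) c0
    have hP : ∏ j ∈ Finset.range (2 ^ n), (σU ^ j) c0 = 1 := by
      refine Subtype.ext (hfix _ ?_)
      have h1 : σU (∏ j ∈ Finset.range (2 ^ n), (σU ^ j) c0) = ∏ j ∈ Finset.range (2 ^ n), (σU ^ j) c0 := by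
        rw [map_prod]
        simp only [← MulAut.mul_apply, ← pow_succ']
        have h2 := Finset.prod_range_succ' (fun j => (σU ^ j) c0) (2 ^ n)
        rw [Finset.prod_range_succ, hσUp, pow_zero] at h2
        exact (mul_right_cancel h2).symm
      exact congrArg Subtype.val h1
    have h2' := congrArg χ hP
    rw [map_prod, map_one, Finset.prod_congr rfl fun j _ => hall j, Finset.prod_const, Finset.card_range] at h2'
    obtain ⟨j, hj⟩ := IsPGroup.iff_card.mp (hQ.to_subgroup (center Q))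
    refine PQExcept.eq_one_of_coprime h2' (m := q ^ j) ?_
      (((Nat.coprime_primes Nat.prime_two (Fact.out : q.Prime)).mpr hq2.symm).pow n j)
    rw [← map_pow, ← hj, pow_card_eq_one', map_one]
  set e := proj τ χ with he
  obtain ⟨T1, hT1, hT1p, hT1s⟩ := exists_restrict (T ^ 2 ^ i) e hTi (p := 2 ^ (n - i))
    (by rw [← pow_mul, ← pow_add, Nat.add_sub_cancel' hin.le, hT]) hsum1
  have hst : ∀ g : Q, g ∈ stab ρ e := fun g =>
    mul_proj_of_conj (τ := τ) (σ := MulEquiv.refl (center Q)) (g := ρ g) (fun u => by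
      show ρ g * ρ (u : Q) = ρ (u : Q) * ρ g
      rw [← map_mul, ← map_mul, Subgroup.mem_center_iff.mp u.2 g]) χ
  let ι : Q →* stab ρ e := (MonoidHom.id Q).codRestrict _ hst
  let ρ1 : Q →* Module.End k (LinearMap.range e) := (sub ρ e).comp ι
  have : Nontrivial (LinearMap.range e) :=
    Submodule.nontrivial_iff_ne_bot.mpr (fun h => hχ (LinearMap.range_eq_bot.mp h))
  have hscal : ∀ u : center Q, ρ1 (u : Q) = ((χ u : kˣ) : k) • 1 := fun u =>
    (sub_eq_iff _ ((χ u : k) • 1) ((χ u : k) • 1) (fun v => rfl)).mpr (by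
      rw [smul_mul_assoc, one_mul]
      exact act_mul_proj τ χ u)
  set K := χ.ker.map (center Q).subtype with hKdef
  have hKc : K ≤ center Q := map_subtype_le _
  have hmemK : ∀ u : center Q, (u : Q) ∈ K ↔ χ u = 1 := fun u =>
    ⟨fun ⟨w, hw, hwu⟩ => (Subtype.ext hwu : w = u) ▸ hw, fun h => ⟨u, h, rfl⟩⟩
  have hK1 : ∀ u ∈ K, ρ1 u = 1 := fun u hu => by
    have := (hmemK ⟨u, hKc hu⟩).mp hu
    rw [show u = ((⟨u, hKc hu⟩ : center Q) : Q) from rfl, hscal, this, Units.val_one, one_smul]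
  have hσK : ∀ j, 2 ^ i ∣ j → ∀ u, u ∈ K → (σ ^ j) u ∈ K := fun j hj u hu => by
    have h1 := (hmemK ⟨u, hKc hu⟩).mp hu
    rw [← (hiff j).mpr hj ⟨u, hKc hu⟩] at h1
    have := (hmemK _).mpr h1
    rwa [hσUj] at this
  have hradσ : ∀ j, 2 ^ i ∣ j → ∀ a, a ∈ rad K → (σ ^ j) a ∈ rad K := fun j hj a ha =>
    (mem_rad hKc).mpr fun b => by
      obtain ⟨b, rfl⟩ := (σ ^ j).surjective b
      rw [← map_commutatorElement]
      exact hσK j hj _ ((mem_rad hKc).mp ha b)
  -- split further along the radical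
  let f : rad K →* (Module.End k (LinearMap.range e))ˣ := ρ1.toHomUnits.comp (rad K).subtype
  let _ : CommGroup f.range :=
    { (inferInstance : Group f.range) with
      mul_comm := by
        rintro ⟨_, a, rfl⟩ ⟨_, b, rfl⟩
        refine Subtype.ext ?_
        show f a * f b = f b * f a
        rw [← commutatorElement_eq_one_iff_mul_comm, ← map_commutatorElement]
        exact Units.ext (hK1 _ ((mem_rad hKc).mp a.2 (b : Q))) }
  have : Finite f.range := Finite.of_surjective _ f.rangeRestrict_surjective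
  have hU2 : (Nat.card f.range : k) ≠ 0 := by
    obtain ⟨j, hj⟩ := IsPGroup.iff_card.mp ((hQ.to_subgroup (rad K)).of_surjective _ f.rangeRestrict_surjective)
    rw [hj, Nat.cast_pow]
    exact pow_ne_zero _ hqk
  let Tu := Units.ofPowEqOne T1 (2 ^ (n - i)) hT1p (Nat.two_pow_pos _).ne'
  have hpowj : ∀ (j : ℕ) a, T ^ j * ρ a = ρ ((σ ^ j) a) * T ^ j := by
    intro j
    induction j with
    | zero => simp
    | succ j ih =>
      intro a
      rw [pow_succ', mul_assoc, ih, ← mul_assoc, hcompat, mul_assoc, pow_succ', MulAut.mul_apply]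
  have hcompat1 : ∀ a, T1 * ρ1 a = ρ1 ((σ ^ 2 ^ i) a) * T1 := fun a =>
    LinearMap.ext fun v => Subtype.ext (by
      rw [Module.End.mul_apply, Module.End.mul_apply, hT1]
      show (T ^ 2 ^ i) (ρ a v) = ρ ((σ ^ 2 ^ i) a) ((T1 v : LinearMap.range e) : V)
      rw [hT1]
      exact congrArg (fun g : Module.End k V => g (v : V)) (hpowj _ a))
  have hTnorm : Tu ∈ normalizer (f.range : Set (Module.End k (LinearMap.range e))ˣ) := by
    refine mem_normalizer_of_map_conj (eq_of_le_of_card_ge ?_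
      (card_map_of_injective (MulAut.conj Tu).injective).ge)
    rintro _ ⟨_, ⟨a, rfl⟩, rfl⟩
    refine ⟨⟨_, hradσ _ dvd_rfl _ a.2⟩, Units.ext ?_⟩
    show ρ1 ((σ ^ 2 ^ i) (a : Q)) = T1 * ρ1 (a : Q) * ((Tu⁻¹ : (Module.End k (LinearMap.range e))ˣ) : _)
    rw [hcompat1, mul_assoc]
    exact ((congrArg (ρ1 _ * ·) Tu.mul_inv).trans (mul_one _)).symm
  let σ2 := Subgroup.normalizerMonoidHom f.range ⟨Tu, hTnorm⟩
  have hσ2 : σ2 ^ 2 ^ (n - i) = 1 := by
    rw [← map_pow, show (⟨Tu, hTnorm⟩ : normalizer (f.range : Set _)) ^ 2 ^ (n - i) = 1 from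
      Subtype.ext (Units.ext hT1p), map_one]
  let τ2 : f.range →* Module.End k (LinearMap.range e) := (Units.coeHom _).comp f.range.subtype
  obtain ⟨ψ, hψ⟩ : ∃ ψ : f.range →* kˣ, proj τ2 ψ ≠ 0 := by
    by_contra h
    push Not at h
    have := finite_chars (k := k) (U := f.range) hU2
    let _ := Fintype.ofFinite (f.range →* kˣ)
    have h1 := sum_proj hU2 τ2
    simp only [h, Finset.sum_const_zero] at h1
    exact zero_ne_one h1
  obtain ⟨c, hcl, -, hT2, hsum2⟩ := ShultGross.orbit_stab hU2 τ2 σ2 T1 (fun u => by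
    show T1 * ((u : (Module.End k (LinearMap.range e))ˣ) : Module.End k (LinearMap.range e)) =
      ((Tu * u * Tu⁻¹ : (Module.End k (LinearMap.range e))ˣ) : Module.End k (LinearMap.range e)) * T1
    exact congrArg Units.val (inv_mul_cancel_right (Tu * (u : (Module.End k (LinearMap.range e))ˣ)) Tu).symm)
    hσ2 hT1s ψ hψ
  set e2 := proj τ2 ψ with he2
  have hst2 : ∀ g : Q, g ∈ stab ρ1 e2 := fun g =>
    mul_proj_of_conj (τ := τ2) (σ := MulEquiv.refl f.range) (g := ρ1 g) (fun u => by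
      obtain ⟨_, a, rfl⟩ := u
      show ρ1 g * ρ1 (a : Q) = ρ1 (a : Q) * ρ1 g
      rw [← map_mul, ← map_mul]
      have h1 : g * (a : Q) = ⁅g, (a : Q)⁆ * ((a : Q) * g) := by rw [commutatorElement_def]; group
      rw [h1, map_mul, hK1 _ (by rw [← commutatorElement_inv]; exact inv_mem ((mem_rad hKc).mp a.2 g)), one_mul])
      ψ
  let ρ2 : Q →* Module.End k (LinearMap.range e2) := (sub ρ1 e2).comp ((MonoidHom.id Q).codRestrict _ hst2)
  have : Nontrivial (LinearMap.range e2) :=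
    Submodule.nontrivial_iff_ne_bot.mpr (fun h => hψ (LinearMap.range_eq_bot.mp h))
  obtain ⟨T2, hT2a, hT2p, hT2s⟩ := exists_restrict (T1 ^ 2 ^ c) e2 hT2 (p := 2 ^ (n - i - c))
    (by rw [← pow_mul, ← pow_add, Nat.add_sub_cancel' hcl.le, hT1p]) hsum2
  have hscal2 : ∀ u : center Q, ρ2 (u : Q) = ((χ u : kˣ) : k) • 1 := fun u =>
    LinearMap.ext fun v => Subtype.ext (congrArg (fun g : Module.End k (LinearMap.range e) => g v) (hscal u))
  have S : Setting ρ2 (rad K) := by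
    refine ⟨fun a b => ⟨_, hscal2 ⟨⁅a, b⁆, hcen a b⟩⟩, fun a ha => ?_, fun a ha => (mem_rad hKc).mpr fun b => ?_⟩
    · refine ⟨((ψ ⟨f ⟨a, ha⟩, ⟨a, ha⟩, rfl⟩ : kˣ) : k), (sub_eq_iff _ ((ψ _ : k) • 1) ((ψ _ : k) • 1)
        (fun v => rfl)).mpr ?_⟩
      rw [smul_mul_assoc, one_mul]
      exact act_mul_proj τ2 ψ ⟨f ⟨a, ha⟩, ⟨a, ha⟩, rfl⟩
    · have h1 : ρ2.toHomUnits ⁅a, b⁆ = 1 := by
        rw [map_commutatorElement, commutatorElement_eq_one_iff_commute]
        exact Units.ext (ha b).eq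
      have h2 := congrArg Units.val h1
      rw [MonoidHom.coe_toHomUnits, show ρ2 ⁅a, b⁆ = _ from hscal2 ⟨⁅a, b⁆, hcen a b⟩, Units.val_one] at h2
      refine (hmemK ⟨⁅a, b⁆, hcen a b⟩).mpr (Units.ext ?_)
      obtain ⟨w, hw⟩ := exists_ne (0 : LinearMap.range e2)
      refine smul_left_injective k hw ?_
      show _ • w = ((1 : kˣ) : k) • w
      rw [Units.val_one, one_smul]
      exact congrArg (fun g : Module.End k (LinearMap.range e2) => g w) h2
  have : (rad K).Normal := rad_normal hKc hcen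
  have hidx : ((rad K).index : k) ≠ 0 := by
    obtain ⟨j, hj⟩ := IsPGroup.iff_card.mp hQ
    obtain ⟨j', -, hj'⟩ := (Nat.dvd_prime_pow (Fact.out : q.Prime)).mp (hj ▸ (rad K).index_dvd_card)
    rw [hj', Nat.cast_pow]
    exact pow_ne_zero _ hqk
  have hfpf : ∀ a, a⁻¹ * (σ ^ 2 ^ (n - 1)) a ∈ rad K → a ∈ rad K := by
    intro a ha
    refine (mem_rad hKc).mpr fun y => ?_
    let φ : Q →* kˣ :=
      { toFun := fun y => χ ⟨⁅a, y⁆, hcen a y⟩
        map_one' := by
          rw [← map_one χ]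
          exact congrArg χ (Subtype.ext (commutatorElement_one_right a))
        map_mul' := fun y z => by
          rw [← map_mul]
          refine congrArg χ (Subtype.ext ?_)
          show ⁅a, y * z⁆ = ⁅a, y⁆ * ⁅a, z⁆
          rw [show ⁅a, y * z⁆ = ⁅a, y⁆ * (y * ⁅a, z⁆ * y⁻¹) by simp only [commutatorElement_def]; group,
            Subgroup.mem_center_iff.mp (hcen a z) y, mul_inv_cancel_right] }
    suffices h : moved (σ ^ 2 ^ (n - 1)) ≤ φ.ker by
      exact (hmemK ⟨⁅a, y⁆, hcen a y⟩).mpr (MonoidHom.mem_ker.mp (h (hgen ▸ mem_top y)))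
    rw [moved, Subgroup.closure_le]
    rintro _ ⟨x, rfl⟩
    show φ (x⁻¹ * (σ ^ 2 ^ (n - 1)) x) = 1
    rw [map_mul, map_inv, inv_mul_eq_one]
    show χ ⟨⁅a, x⁆, _⟩ = χ ⟨⁅a, (σ ^ 2 ^ (n - 1)) x⁆, _⟩
    have hb : 2 ^ i ∣ 2 ^ (n - 1) := Nat.pow_dvd_pow 2 (Nat.le_sub_one_of_lt hin)
    rw [← (hiff _).mpr hb ⟨⁅a, x⁆, hcen a x⟩]
    set b := σ ^ 2 ^ (n - 1)
    have hm := (mem_rad hKc).mp ha (b x)
    have e1 : b ⁅a, x⁆ = ⁅a⁻¹ * b a, b x⁆ * ⁅a, b x⁆ := by
      rw [map_commutatorElement]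
      conv_lhs => rw [show b a = a * (a⁻¹ * b a) from (mul_inv_cancel_left _ _).symm]
      rw [commutatorElement_mul_left_eq_conj_mul, Subgroup.mem_center_iff.mp (hKc hm) a, mul_inv_cancel_right]
    have : (σU ^ 2 ^ (n - 1)) ⟨⁅a, x⁆, hcen a x⟩ =
        (⟨⁅a⁻¹ * b a, b x⁆, hKc hm⟩ : center Q) * ⟨⁅a, b x⁆, hcen a (b x)⟩ := Subtype.ext ((hσUj _ _).trans e1)
    rw [this, map_mul, (hmemK ⟨_, hKc hm⟩).mp hm, one_mul]
  have hl : 0 < n - i - c := Nat.sub_pos_of_lt hcl
  have hσj2 : (σ ^ (2 ^ i * 2 ^ c)) ^ 2 ^ (n - i - c - 1) = σ ^ 2 ^ (n - 1) := by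
    rw [← pow_mul, ← pow_add, ← pow_add, show i + c + (n - i - c - 1) = n - 1 by omega]
  have hcompat2 : ∀ a, T2 * ρ2 a = ρ2 ((σ ^ (2 ^ i * 2 ^ c)) a) * T2 := by
    have h1 : ∀ (j : ℕ) a, T1 ^ j * ρ1 a = ρ1 ((σ ^ (2 ^ i * j)) a) * T1 ^ j := by
      intro j
      induction j with
      | zero => simp
      | succ j ih =>
        intro a
        rw [pow_succ', mul_assoc, ih, ← mul_assoc, hcompat1, mul_assoc, ← MulAut.mul_apply, ← pow_add,
          Nat.mul_succ, add_comm]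
    exact fun a => LinearMap.ext fun v => Subtype.ext (by
      rw [Module.End.mul_apply, Module.End.mul_apply, hT2a]
      show (T1 ^ 2 ^ c) (ρ1 a v) = ρ1 _ ((T2 v : LinearMap.range e2) : LinearMap.range e)
      rw [hT2a]
      exact congrArg (fun g : Module.End k (LinearMap.range e) => g (v : LinearMap.range e)) (h1 _ a))
  have hnot : ⁅a0, b0⁆ ∉ K := fun h => hχ0 ((hmemK ⟨_, hcen a0 b0⟩).mp h)
  refine ⟨K, n - i - c, hKc, hnot, hl, by omega, fun u hu => ?_, hfpf, ?_⟩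
  · have h1 : χ ((σU ^ 2 ^ (n - (n - i - c))) ⟨u, hu⟩) = χ ⟨u, hu⟩ := by
      refine (hiff _).mpr ?_ _
      rw [show n - (n - i - c) = i + c by omega]
      exact Nat.pow_dvd_pow 2 (Nat.le_add_right _ _)
    have h2 : χ ((⟨u, hu⟩ : center Q)⁻¹ * (σU ^ 2 ^ (n - (n - i - c))) ⟨u, hu⟩) = 1 := by
      rw [map_mul, map_inv, h1, inv_mul_cancel]
    have := (hmemK _).mpr h2
    rwa [coe_mul, coe_inv, hσUj] at this
  · rcases EndCountPow.count' S hidx (q := 2) hl (σ ^ (2 ^ i * 2 ^ c)) T2 hT2p hT2s hcompat2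
      (fun a ha => hfpf a (hσj2 ▸ ha)) with h | h
    · exact absurd ((mem_rad hKc).mp (Subgroup.index_eq_one.mp h ▸ mem_top a0) b0) hnot
    · exact h

end Cfsg.Agent.Hall.GrossLayer
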