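import Cfsg.Agent.Hall.GrossForm
import Cfsg.Agent.Hall.GrossLayer
import Cfsg.Agent.Coprime.ShultGrossFitting

/-!
Two layers for an element `x` of order dividing `2 ^ n` without fixed points: on a `q`-group `O`
carrying faithful fixed-point-free modules, and on an `r`-group normalising subgroups of `O`.
-/

namespace Cfsg.Agent.Hall.GrossTwo

open Subgroup
open Cfsg.Agent.Coprime
open Cfsg.Agent.Coprime.EndBound (moved)
open Cfsg.Agent.Hall.GrossLayer (rad mem_rad rad_normal)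
open scoped commutatorElement

variable {Y : Type*} [Group Y]

/-- An element normalising `Q` normalises the image of a characteristic subgroup. -/
theorem mem_normalizer_char {Q : Subgroup Y} (C : Subgroup Q) [C.Characteristic] {y : Y}
    (hy : y ∈ normalizer (Q : Set Y)) : y ∈ normalizer ((C.map Q.subtype : Subgroup Y) : Set Y) := by
  refine mem_normalizer_of_map_conj ?_
  have h1 : (MulAut.conj y).toMonoidHom.comp Q.subtype =
      Q.subtype.comp (Subgroup.normalizerMonoidHom Q ⟨y, hy⟩).toMonoidHom := MonoidHom.ext fun x => rfl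
  rw [Subgroup.map_map, h1, ← Subgroup.map_map]
  congr 1
  exact (Subgroup.characteristic_iff_map_eq.mp inferInstance) _

/-- The properties of the lower layer. -/
structure Good (O : Subgroup Y) (x : Y) (n : ℕ) : Prop where
  abel : ∀ Q : Subgroup Y, Q ≤ O → x ∈ normalizer (Q : Set Y) → (∀ a ∈ Q, ∀ b ∈ Q, Commute a b) →
    ∀ v ∈ Q, Commute (x ^ 2 ^ (n - 1)) v
  quad : ∀ (Q : Subgroup Y), Q ≤ O → ∀ hx : x ∈ normalizer (Q : Set Y),
    (∀ a b : Q, ⁅a, b⁆ ∈ center Q) →
    moved (Subgroup.normalizerMonoidHom Q ⟨x, hx⟩ ^ 2 ^ (n - 1)) = ⊤ → ∀ a0 b0 : Q, ⁅a0, b0⁆ ≠ 1 →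
    ∃ (K : Subgroup Q) (l : ℕ), K ≤ center Q ∧ ⁅a0, b0⁆ ∉ K ∧ 1 ≤ l ∧ l < n ∧
      (∀ u ∈ center Q, u⁻¹ * (Subgroup.normalizerMonoidHom Q ⟨x, hx⟩ ^ 2 ^ (n - l)) u ∈ K) ∧
      (∀ a, a⁻¹ * (Subgroup.normalizerMonoidHom Q ⟨x, hx⟩ ^ 2 ^ (n - 1)) a ∈ rad K → a ∈ rad K) ∧
      2 ^ l ∣ (rad K).index - 1 ∧ (rad K).index ≤ (2 ^ l - 1) * (2 ^ l - 1)

theorem pow_apply {Q : Subgroup Y} {x : Y} (hx : x ∈ normalizer (Q : Set Y)) (j : ℕ) (v : Q) :
    (((Subgroup.normalizerMonoidHom Q ⟨x, hx⟩ ^ j) v : Q) : Y) = x ^ j * v * (x ^ j)⁻¹ := by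
  rw [← map_pow]
  rfl

variable [Finite Y] {q : ℕ} [Fact q.Prime] {n : ℕ}

omit [Finite Y] in
theorem coprime_zpowers {y : Y} (hy : y ^ 2 ^ n = 1) (hq2 : q ≠ 2) {R : Subgroup Y}
    (hR : IsPGroup q R) [Finite R] : (Nat.card (zpowers y)).Coprime (Nat.card R) := by
  obtain ⟨j, hj⟩ := IsPGroup.iff_card.mp hR
  rw [Nat.card_zpowers, hj]
  exact Nat.Coprime.coprime_dvd_left (orderOf_dvd_of_pow_eq_one hy)
    (((Nat.coprime_primes Nat.prime_two (Fact.out : q.Prime)).mpr hq2.symm).pow n j)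

/-- A group equal to its commutator with the involution is generated by displacements. -/
theorem moved_eq_top {Q : Subgroup Y} {x : Y} (hx : x ∈ normalizer (Q : Set Y)) (j : ℕ)
    (h : Q ≤ ⁅Q, zpowers (x ^ j)⁆) : moved (Subgroup.normalizerMonoidHom Q ⟨x, hx⟩ ^ j) = ⊤ := by
  refine eq_top_iff.mpr fun w _ => ?_
  obtain ⟨w', hw', he⟩ := ShultGross.commutator_le_moved Q (pow_mem hx j) (h w.2)
  rw [Subtype.ext he] at hw'
  rw [← map_pow]
  exact hw'

omit [Finite Y] in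
/-- In a minimal situation the Frattini subgroup is central. -/
theorem centralizer_frattini_aux {Q T Φ : Subgroup Y} (hΦQ : Q ≤ normalizer (Φ : Set Y))
    (hTΦ : T ≤ centralizer (Φ : Set Y)) (hQT : ⁅Q, T⁆ = Q) : Q ≤ centralizer (Φ : Set Y) := by
  have h1 : ⁅⁅T, Q⁆, Φ⁆ = ⊥ := by
    refine commutator_commutator_eq_bot_of_rotate ?_ ?_
    · rw [eq_bot_iff, ← (commutator_eq_bot_iff_le_centralizer.mpr (le_centralizer_iff.mp hTΦ))]
      exact commutator_mono (le_normalizer_iff_commutator_le_right.mp hΦQ) le_rfl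
    · rw [commutator_eq_bot_iff_le_centralizer.mpr (le_centralizer_iff.mp hTΦ), commutator_bot_left]
  rwa [commutator_comm T Q, hQT, commutator_eq_bot_iff_le_centralizer] at h1

/-- Commutators of a `q`-group lie in the image of its Frattini subgroup. -/
theorem commutator_le_map_frattini {Q : Subgroup Y} (hQ : IsPGroup q Q) :
    ⁅Q, Q⁆ ≤ (frattini Q).map Q.subtype := by
  rw [← map_subtype_commutator]
  exact map_mono (PGroups.commutator_le_frattini hQ)

/-- With no room for the counting bound, the involution centralizes the group. -/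
theorem commute_of_small (hq2 : q ≠ 2) (hn : 0 < n) (hn2 : n ≤ 2) (O : Subgroup Y) (hO : IsPGroup q O)
    (x : Y) (hxp : x ^ 2 ^ n = 1) (hgood : Good O x n) (Q : Subgroup Y) (hQO : Q ≤ O)
    (hx : x ∈ normalizer (Q : Set Y)) : zpowers (x ^ 2 ^ (n - 1)) ≤ centralizer (Q : Set Y) := by
  set y := x ^ 2 ^ (n - 1) with hy
  have hyp : y ^ 2 ^ n = 1 := by rw [hy, ← pow_mul, mul_comm, pow_mul, hxp, one_pow]
  suffices main : ∀ N, ∀ Q : Subgroup Y, Nat.card Q = N → Q ≤ O → x ∈ normalizer (Q : Set Y) →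
      zpowers y ≤ centralizer (Q : Set Y) from main _ Q rfl hQO hx
  intro N
  induction N using Nat.strong_induction_on with
  | _ N ih =>
  intro Q hN hQO hx
  have hQ := hO.to_le hQO
  have hyn : zpowers y ≤ normalizer (Q : Set Y) := zpowers_le.mpr (pow_mem hx _)
  have hcop := coprime_zpowers hyp hq2 hQ
  rcases eq_or_ne Q ⊥ with rfl | hQbot
  · exact fun a _ => mem_centralizer_iff.mpr fun v hv => by
      rw [SetLike.mem_coe, Subgroup.mem_bot] at hv; rw [hv, one_mul, mul_one]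
  have hlt : ∀ {H : Subgroup Y}, H ≤ Q → H ≠ Q → Nat.card H < N := by
    intro H hH hne
    refine hN ▸ lt_of_le_of_ne (Nat.le_of_dvd Nat.card_pos (card_dvd_of_le hH)) fun h => ?_
    exact hne (eq_of_le_of_card_ge hH h.ge)
  have hxy : x ∈ normalizer ((zpowers y : Subgroup Y) : Set Y) := by
    refine centralizer_le_normalizer _ (mem_centralizer_iff.mpr fun a ha => ?_)
    obtain ⟨i, rfl⟩ := mem_zpowers_iff.mp ha
    exact (((Commute.refl x).pow_left _).zpow_left i).eq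
  by_cases hQe : ⁅Q, zpowers y⁆ = Q
  swap
  · have hle := commutator_le_left_of_normalizer hyn
    exact le_centralizer_of_commutator_le_centralizer hyn hcop
      (le_centralizer_iff.mp (ih _ (hlt hle hQe) _ rfl (hle.trans hQO) (PQTower.mem_normalizer_comm hx hxy)))
  set Φ := (frattini Q).map Q.subtype with hΦ
  have hΦne : Φ ≠ Q := by
    intro h
    have : Nontrivial Q := Q.nontrivial_iff_ne_bot.mpr hQbot
    have h2 : frattini Q = ⊤ :=
      map_injective Q.subtype_injective (by rw [← MonoidHom.range_eq_map, Q.range_subtype]; exact h)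
    exact bot_ne_top (frattini_nongenerating (K := (⊥ : Subgroup Q)) (by rw [bot_sup_eq, h2]))
  have hΦy := ih _ (hlt (map_subtype_le _) hΦne) _ rfl ((map_subtype_le _).trans hQO)
    (PQTower.mem_normalizer_frattini hx)
  have hΦc : Q ≤ centralizer (Φ : Set Y) :=
    centralizer_frattini_aux (fun v hv => PQTower.mem_normalizer_frattini (le_normalizer hv)) hΦy hQe
  by_cases hab : ∀ a ∈ Q, ∀ b ∈ Q, Commute a b
  · rw [zpowers_le, mem_centralizer_iff]
    exact fun v hv => (hgood.abel Q hQO hx hab v hv).eq.symm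
  exfalso
  push Not at hab
  obtain ⟨a0, ha0, b0, hb0, hne⟩ := hab
  have hne' : ⁅(⟨a0, ha0⟩ : Q), (⟨b0, hb0⟩ : Q)⁆ ≠ 1 := fun h => hne
    (commutatorElement_eq_one_iff_commute.mp (congrArg Subtype.val h))
  have hcen : ∀ a b : Q, ⁅a, b⁆ ∈ center Q := fun a b => Subgroup.mem_center_iff.mpr fun g => Subtype.ext
    (mem_centralizer_iff.mp (hΦc g.2) _
      (commutator_le_map_frattini hQ (commutator_mem_commutator a.2 b.2))).symm
  obtain ⟨K, l, hK, hnot, hl, hln, -, -, -, hle⟩ :=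
    hgood.quad Q hQO hx hcen (moved_eq_top hx _ hQe.ge) _ _ hne'
  obtain rfl : l = 1 := by omega
  have h1 : (rad K).index = 1 := by
    have : 0 < (rad K).index := Nat.pos_of_ne_zero Subgroup.index_ne_zero_of_finite
    omega
  exact hnot ((mem_rad hK).mp (Subgroup.index_eq_one.mp h1 ▸ mem_top _) _)

omit [Finite Y] in
/-- An element acting trivially up to a central element commutes with every commutator. -/
theorem conj_comm_of_mem_centralizer {Q : Subgroup Y} {z a v : Y} (hv : v ∈ Q)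
    (haQ : a ∈ normalizer (Q : Set Y)) (hzQ : z ∈ normalizer (Q : Set Y))
    (hza : ⁅z, a⁆ ∈ centralizer (Q : Set Y)) :
    a * (z * v * z⁻¹) * a⁻¹ = z * (a * v * a⁻¹) * z⁻¹ ∧ z * ⁅v, a⁆ * z⁻¹ = ⁅z * v * z⁻¹, a⁆ := by
  have hzv : z * v * z⁻¹ ∈ Q := Coprime.conj_mem hzQ hv
  have key : z * (a * v * a⁻¹) * z⁻¹ = a * (z * v * z⁻¹) * a⁻¹ := by
    calc z * (a * v * a⁻¹) * z⁻¹ = ⁅z, a⁆ * (a * (z * v * z⁻¹) * a⁻¹) * ⁅z, a⁆⁻¹ := by
          simp only [commutatorElement_def]; group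
      _ = _ := by
          rw [← mem_centralizer_iff.mp hza _ (Coprime.conj_mem haQ hzv), mul_inv_cancel_right]
  refine ⟨key.symm, ?_⟩
  calc z * ⁅v, a⁆ * z⁻¹ = (z * v * z⁻¹) * (z * (a * v⁻¹ * a⁻¹) * z⁻¹) := by
        simp only [commutatorElement_def]; group
    _ = (z * v * z⁻¹) * (z * (a * v * a⁻¹) * z⁻¹)⁻¹ := by group
    _ = _ := by rw [key, commutatorElement_def]; group

variable {r : ℕ} [Fact r.Prime]

set_option maxHeartbeats 1600000 in
/-- The abelian image case of the upper layer. -/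
theorem le_centralizer_of_abelian (hq2 : q ≠ 2) (hrq : r ≠ q) (hn : 0 < n) {O : Subgroup Y}
    (hO : IsPGroup q O) {x : Y} (hxp : x ^ 2 ^ n = 1) (hfixO : ∀ v ∈ O, x * v = v * x → v = 1)
    {R Q : Subgroup Y} (hR : IsPGroup r R) (hQO : Q ≤ O) (hxR : x ∈ normalizer (R : Set Y))
    (hxQ : x ∈ normalizer (Q : Set Y)) (hRQ : R ≤ normalizer (Q : Set Y))
    (hRe : ⁅R, zpowers (x ^ 2 ^ (n - 1))⁆ = R) (hab : ⁅R, R⁆ ≤ centralizer (Q : Set Y)) :
    R ≤ centralizer (Q : Set Y) := by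
  classical
  set y := x ^ 2 ^ (n - 1) with hy
  by_cases hy1 : y = 1
  · rw [hy1, zpowers_one_eq_bot, commutator_bot_right] at hRe
    rw [← hRe]
    exact bot_le
  have h2 : Fact (Nat.Prime 2) := ⟨Nat.prime_two⟩
  have hord : orderOf x = 2 ^ n := by
    have := orderOf_eq_prime_pow (p := 2) hy1 (by rw [Nat.sub_add_cancel hn]; exact hxp)
    rwa [Nat.sub_add_cancel hn] at this
  have hQ := hO.to_le hQO
  have hqc : ∀ S : Subgroup Y, IsPGroup r S → (Nat.card S).Coprime (Nat.card Q) := fun S hS => by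
    obtain ⟨i, hi⟩ := IsPGroup.iff_card.mp hS
    obtain ⟨j, hj⟩ := IsPGroup.iff_card.mp hQ
    rw [hi, hj]
    exact ((Nat.coprime_primes (Fact.out : r.Prime) (Fact.out : q.Prime)).mpr hrq).pow i j
  let Yn : Subgroup Y := normalizer (Q : Set Y)
  set Φ := (frattini Q).map Q.subtype with hΦ
  have hΦQ : Φ ≤ Q := map_subtype_le _
  have : (Φ.subgroupOf Yn).Normal :=
    normal_subgroupOf_of_le_normalizer fun g hg => PQTower.mem_normalizer_frattini hg
  have : (Q.subgroupOf Yn).Normal := normal_subgroupOf_of_le_normalizer le_rfl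
  set μ := QuotientGroup.mk' (Φ.subgroupOf Yn) with hμ
  set N := (Q.subgroupOf Yn).map μ with hN
  have : N.Normal := ‹(Q.subgroupOf Yn).Normal›.map _ (QuotientGroup.mk'_surjective _)
  have hμeq : ∀ g : Yn, μ g = 1 ↔ (g : Y) ∈ Φ := fun g => by
    rw [hμ, QuotientGroup.mk'_apply, QuotientGroup.eq_one_iff, mem_subgroupOf]
  have hexp : ∀ v ∈ N, v ^ q = 1 := by
    rintro _ ⟨g, hg, rfl⟩
    rw [← map_pow, hμeq]
    exact mem_map_of_mem _ (PGroups.pow_mem_frattini hQ ⟨g, hg⟩)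
  have : IsMulCommutative N := by
    refine ⟨⟨?_⟩⟩
    rintro ⟨_, g, hg, rfl⟩ ⟨_, g', hg', rfl⟩
    refine Subtype.ext ?_
    show μ g * μ g' = μ g' * μ g
    rw [← commutatorElement_eq_one_iff_mul_comm, ← map_commutatorElement, hμeq]
    exact commutator_le_map_frattini hQ (commutator_mem_commutator hg hg')
  let ρ := (LinRep.rep N q).comp μ
  let A : Subgroup Yn := zpowers (⟨x, hxQ⟩ : Yn)
  let _ := Fintype.ofFinite A
  have hordA : orderOf (⟨x, hxQ⟩ : Yn) = 2 ^ n := by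
    rw [← Subgroup.orderOf_coe]; exact hord
  have hsumA : ∑ a : A, ρ (a : Yn) = 0 := by
    show ∑ a : A, LinRep.rep N q ((μ.comp A.subtype) a) = 0
    refine LinRep.sum_rep_eq_zero N q (μ.comp A.subtype) ?_
    rintro _ ⟨g, hg, rfl⟩ hv
    have hfix : ∀ a ∈ zpowers x, a * (g : Y) * a⁻¹ * (g : Y)⁻¹ ∈ Φ := by
      intro a ha
      have haQ : a ∈ Yn := zpowers_le.mpr hxQ ha
      have h := hv ⟨⟨a, haQ⟩, by
        obtain ⟨i, rfl⟩ := ha
        exact ⟨i, Subtype.ext (SubgroupClass.coe_zpow _ _)⟩⟩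
      change μ ⟨a, haQ⟩ * μ g = μ g * μ ⟨a, haQ⟩ at h
      exact (hμeq (⟨a, haQ⟩ * g * ⟨a, haQ⟩⁻¹ * g⁻¹)).mp (by
        rw [map_mul, map_mul, map_mul, map_inv, map_inv, h, mul_inv_cancel_right, mul_inv_cancel])
    obtain ⟨c, hc, hcΦ⟩ := exists_centralizer_mem_of_comm_mem (A := zpowers x) (K := Q)
      (zpowers_le.mpr hxQ) (coprime_zpowers hxp hq2 hQ) (Or.inl (isSolvable_zpowers x)) hΦQ
      (fun v hv => PQTower.mem_normalizer_frattini (le_normalizer hv))
      (zpowers_le.mpr (PQTower.mem_normalizer_frattini hxQ)) (k := (g : Y)) hg hfix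
    rw [hfixO c (hQO hc.1) (mem_centralizer_iff.mp hc.2 x (mem_zpowers x)), mul_one] at hcΦ
    exact (hμeq g).mpr (inv_mem_iff.mp hcΦ)
  have hsum : ∑ i ∈ Finset.range (2 ^ n), ρ ⟨x, hxQ⟩ ^ i = 0 := by
    refine Eq.trans ?_ hsumA
    refine Eq.trans ?_ (ShultGross.sum_range_orderOf (⟨x, hxQ⟩ : Yn) fun a : A => ρ (a : Yn))
    refine Finset.sum_congr (congrArg Finset.range hordA.symm) fun i _ => ?_
    rw [← map_pow, SubmonoidClass.coe_pow]
  -- the image of `R`
  let f : R →* (Module.End (LinRep.Coeff q) (LinRep.Sp N q))ˣ :=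
    ρ.toHomUnits.comp (Subgroup.inclusion hRQ)
  have hf : ∀ z : R, ((f z : (Module.End (LinRep.Coeff q) (LinRep.Sp N q))ˣ) : Module.End _ _) =
      ρ ⟨z, hRQ z.2⟩ := fun z => rfl
  have hcenρ : ∀ g : Yn, (g : Y) ∈ centralizer (Q : Set Y) → ρ g = 1 := by
    intro g hg
    refine (LinRep.rep_eq_one_iff N q hexp _).mpr (mem_centralizer_iff.mpr ?_)
    rintro _ ⟨v, hv, rfl⟩
    rw [← map_mul, ← map_mul]
    exact congrArg μ (Subtype.ext (mem_centralizer_iff.mp hg v hv))
  let _ : CommGroup f.range :=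
    { (inferInstance : Group f.range) with
      mul_comm := by
        rintro ⟨_, a, rfl⟩ ⟨_, b, rfl⟩
        refine Subtype.ext ?_
        show f a * f b = f b * f a
        rw [← commutatorElement_eq_one_iff_mul_comm, ← map_commutatorElement]
        exact Units.ext (hcenρ _ (hab (commutator_mem_commutator a.2 b.2))) }
  have : Finite f.range := Finite.of_surjective _ f.rangeRestrict_surjective
  have hU : (Nat.card f.range : LinRep.Coeff q) ≠ 0 := by
    obtain ⟨j, hj⟩ := IsPGroup.iff_card.mp (hR.of_surjective _ f.rangeRestrict_surjective)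
    rw [hj, Nat.cast_pow]
    exact pow_ne_zero _ fun h => hrq
      ((Nat.prime_dvd_prime_iff_eq (Fact.out : q.Prime) (Fact.out : r.Prime)).mp
        ((CharP.cast_eq_zero_iff (LinRep.Coeff q) q r).mp h)).symm
  let Tu := ρ.toHomUnits ⟨x, hxQ⟩
  let σR := Subgroup.normalizerMonoidHom R ⟨x, hxR⟩
  have hconj : ∀ z : R, f (σR z) = Tu * f z * Tu⁻¹ := fun z => by
    show ρ.toHomUnits _ = ρ.toHomUnits _ * ρ.toHomUnits _ * (ρ.toHomUnits _)⁻¹
    rw [← map_inv, ← map_mul, ← map_mul]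
    rfl
  have hTnorm : Tu ∈ normalizer (f.range : Set (Module.End (LinRep.Coeff q) (LinRep.Sp N q))ˣ) := by
    refine mem_normalizer_of_map_conj (eq_of_le_of_card_ge ?_
      (card_map_of_injective (MulAut.conj Tu).injective).ge)
    rintro _ ⟨_, ⟨a, rfl⟩, rfl⟩
    exact ⟨σR a, hconj a⟩
  let σ2 := Subgroup.normalizerMonoidHom f.range ⟨Tu, hTnorm⟩
  have hσ2 : σ2 ^ 2 ^ n = 1 := by
    rw [← map_pow, show (⟨Tu, hTnorm⟩ : normalizer (f.range : Set _)) ^ 2 ^ n = 1 from Subtype.ext (by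
      show Tu ^ 2 ^ n = 1
      rw [← map_pow, show (⟨x, hxQ⟩ : Yn) ^ 2 ^ n = 1 from Subtype.ext hxp, map_one]), map_one]
  let τ2 : f.range →* Module.End (LinRep.Coeff q) (LinRep.Sp N q) := (Units.coeHom _).comp f.range.subtype
  have hkey : ∀ z : R, f ((σR ^ 2 ^ (n - 1)) z) = f z := by
    intro z
    have h1 := GrossLayer.abel_fix hU τ2 σ2 (ρ ⟨x, hxQ⟩) (fun u => by
      show ρ ⟨x, hxQ⟩ * ((u : (Module.End (LinRep.Coeff q) (LinRep.Sp N q))ˣ) : Module.End _ _) =
        ((Tu * u * Tu⁻¹ : (Module.End (LinRep.Coeff q) (LinRep.Sp N q))ˣ) : Module.End _ _) * ρ ⟨x, hxQ⟩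
      exact congrArg Units.val
        (inv_mul_cancel_right (Tu * (u : (Module.End (LinRep.Coeff q) (LinRep.Sp N q))ˣ)) Tu).symm)
      hσ2 hsum ⟨f z, z, rfl⟩
    have h2 : ∀ j : ℕ, (σ2 ^ j) ⟨f z, z, rfl⟩ = ⟨f ((σR ^ j) z), _, rfl⟩ := by
      intro j
      induction j with
      | zero => rfl
      | succ j ih =>
        rw [pow_succ', MulAut.mul_apply, ih]
        refine Subtype.ext ?_
        show Tu * f ((σR ^ j) z) * Tu⁻¹ = f ((σR ^ (j + 1)) z)
        rw [← hconj, pow_succ', MulAut.mul_apply]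
    rw [h2] at h1
    exact Units.ext h1
  have hker : ⁅R, zpowers y⁆ ≤ f.ker.map R.subtype := by
    refine (ShultGross.commutator_le_moved R (pow_mem hxR _)).trans (map_mono ?_)
    rw [moved, Subgroup.closure_le]
    rintro _ ⟨z, rfl⟩
    show f (z⁻¹ * (Subgroup.normalizerMonoidHom R ⟨y, _⟩) z) = 1
    have e : Subgroup.normalizerMonoidHom R ⟨y, pow_mem hxR _⟩ = σR ^ 2 ^ (n - 1) := by
      rw [← map_pow]
      rfl
    rw [e, map_mul, map_inv, hkey, inv_mul_cancel]
  rw [hRe] at hker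
  refine le_centralizer_of_frattini hRQ ?_ fun a ha v hv => ?_
  · have h := hqc R hR
    exact h.coprime_dvd_right (card_subgroup_dvd_card _)
  · obtain ⟨z, hz, rfl⟩ := hker ha
    have h1 : LinRep.rep N q (μ ⟨z, hRQ z.2⟩) = 1 := congrArg Units.val (MonoidHom.mem_ker.mp hz)
    rw [LinRep.rep_eq_one_iff N q hexp, mem_centralizer_iff] at h1
    have h2 := h1 (μ ⟨v, le_normalizer hv⟩) (mem_map_of_mem μ (show (⟨v, le_normalizer hv⟩ : Yn) ∈ _ from hv))
    exact (hμeq (⟨z, hRQ z.2⟩ * ⟨v, le_normalizer hv⟩ * (⟨z, hRQ z.2⟩ : Yn)⁻¹ * (⟨v, le_normalizer hv⟩ : Yn)⁻¹)).mp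
      (by rw [map_mul, map_mul, map_mul, map_inv, map_inv, ← h2, mul_inv_cancel_right, mul_inv_cancel])

set_option maxHeartbeats 1600000 in
/-- The upper layer. -/
theorem commutator_le_centralizer (hq2 : q ≠ 2) (hr2 : r ≠ 2) (hrq : r ≠ q) (hn : 0 < n)
    (O : Subgroup Y) (hO : IsPGroup q O) (x : Y) (hxp : x ^ 2 ^ n = 1) (hgood : Good O x n)
    (hfixO : ∀ v ∈ O, x * v = v * x → v = 1) (R Q : Subgroup Y) (hR : IsPGroup r R) (hQO : Q ≤ O)
    (hxR : x ∈ normalizer (R : Set Y)) (hxQ : x ∈ normalizer (Q : Set Y))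
    (hRQ : R ≤ normalizer (Q : Set Y)) :
    ⁅R, zpowers (x ^ 2 ^ (n - 1))⁆ ≤ centralizer (Q : Set Y) := by
  classical
  set y := x ^ 2 ^ (n - 1) with hy
  have hyp : y ^ 2 ^ n = 1 := by rw [hy, ← pow_mul, mul_comm, pow_mul, hxp, one_pow]
  suffices main : ∀ N, ∀ R Q : Subgroup Y, Nat.card R + Nat.card Q = N → IsPGroup r R → Q ≤ O →
      x ∈ normalizer (R : Set Y) → x ∈ normalizer (Q : Set Y) → R ≤ normalizer (Q : Set Y) →
      ⁅R, zpowers y⁆ ≤ centralizer (Q : Set Y) from main _ R Q rfl hR hQO hxR hxQ hRQ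
  intro N
  induction N using Nat.strong_induction_on with
  | _ N ih =>
  intro R Q hN hR hQO hxR hxQ hRQ
  have hQ := hO.to_le hQO
  have hynR : zpowers y ≤ normalizer (R : Set Y) := zpowers_le.mpr (pow_mem hxR _)
  have hynQ : zpowers y ≤ normalizer (Q : Set Y) := zpowers_le.mpr (pow_mem hxQ _)
  have hxy : x ∈ normalizer ((zpowers y : Subgroup Y) : Set Y) := by
    refine centralizer_le_normalizer _ (mem_centralizer_iff.mpr fun a ha => ?_)
    obtain ⟨i, rfl⟩ := mem_zpowers_iff.mp ha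
    exact (((Commute.refl x).pow_left _).zpow_left i).eq
  have hqc : (Nat.card R).Coprime (Nat.card Q) := by
    obtain ⟨i, hi⟩ := IsPGroup.iff_card.mp hR
    obtain ⟨j, hj⟩ := IsPGroup.iff_card.mp hQ
    rw [hi, hj]
    exact ((Nat.coprime_primes (Fact.out : r.Prime) (Fact.out : q.Prime)).mpr hrq).pow i j
  have hlt : ∀ {S H : Subgroup Y}, H ≤ S → H ≠ S → Nat.card H < Nat.card S := by
    intro S H hH hne
    refine lt_of_le_of_ne (Nat.le_of_dvd Nat.card_pos (card_dvd_of_le hH)) fun h => ?_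
    exact hne (eq_of_le_of_card_ge hH h.ge)
  have ihR : ∀ R₀ : Subgroup Y, R₀ ≤ R → R₀ ≠ R → x ∈ normalizer (R₀ : Set Y) →
      ⁅R₀, zpowers y⁆ ≤ centralizer (Q : Set Y) := fun R₀ hle hne hx₀ =>
    ih _ (by have := hlt hle hne; omega) R₀ Q rfl (hR.to_le hle) hQO hx₀ hxQ (hle.trans hRQ)
  by_cases hRe : ⁅R, zpowers y⁆ = R
  swap
  · rw [← commutator_commutator_eq hynR (coprime_zpowers hyp hr2 hR) (Or.inl (isSolvable_zpowers y))]
    exact ihR _ (commutator_le_left_of_normalizer hynR) hRe (PQTower.mem_normalizer_comm hxR hxy)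
  rw [hRe]
  rcases eq_or_ne R ⊥ with rfl | hRbot
  · exact bot_le
  rcases eq_or_ne Q ⊥ with rfl | hQbot
  · exact fun a _ => mem_centralizer_iff.mpr fun v hv => by
      rw [SetLike.mem_coe, Subgroup.mem_bot] at hv; rw [hv, one_mul, mul_one]
  have ihQ : ∀ Q₀ : Subgroup Y, Q₀ ≤ Q → Q₀ ≠ Q → x ∈ normalizer (Q₀ : Set Y) →
      R ≤ normalizer (Q₀ : Set Y) → R ≤ centralizer (Q₀ : Set Y) := fun Q₀ hle hne hx₀ hR₀ =>
    hRe.ge.trans (ih _ (by have := hlt hle hne; omega) R Q₀ rfl hR (hle.trans hQO) hxR hx₀ hR₀)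
  -- `Q = [Q, R]`
  have hQRle : ⁅Q, R⁆ ≤ Q := commutator_le_left_of_normalizer hRQ
  by_cases hQR : ⁅Q, R⁆ = Q
  swap
  · refine le_centralizer_of_commutator_le_centralizer hRQ hqc (le_centralizer_iff.mp ?_)
    exact ihQ _ hQRle hQR (PQTower.mem_normalizer_comm hxQ hxR)
      (fun g hg => PQTower.mem_normalizer_comm (hRQ hg) (le_normalizer hg))
  -- the Frattini subgroup of `Q` is central
  set Φ := (frattini Q).map Q.subtype with hΦ
  have hΦQ : Φ ≤ Q := map_subtype_le _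
  have hΦne : Φ ≠ Q := by
    intro h
    have : Nontrivial Q := Q.nontrivial_iff_ne_bot.mpr hQbot
    have h2 : frattini Q = ⊤ :=
      map_injective Q.subtype_injective (by rw [← MonoidHom.range_eq_map, Q.range_subtype]; exact h)
    exact bot_ne_top (frattini_nongenerating (K := (⊥ : Subgroup Q)) (by rw [bot_sup_eq, h2]))
  have hΦc : Q ≤ centralizer (Φ : Set Y) :=
    centralizer_frattini_aux (fun v hv => PQTower.mem_normalizer_frattini (le_normalizer hv))
      (ihQ _ hΦQ hΦne (PQTower.mem_normalizer_frattini hxQ)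
        (fun g hg => PQTower.mem_normalizer_frattini (hRQ hg))) hQR
  have hΦy : ∀ v ∈ Φ, Commute y v := hgood.abel Φ (hΦQ.trans hQO) (PQTower.mem_normalizer_frattini hxQ)
    fun a ha b hb => mem_centralizer_iff.mp (hΦc (hΦQ hb)) a ha
  by_cases hab : ∀ a ∈ Q, ∀ b ∈ Q, Commute a b
  · have hyQ : ∀ v ∈ Q, Commute y v := hgood.abel Q hQO hxQ hab
    have hyc : zpowers y ≤ centralizer (Q : Set Y) :=
      zpowers_le.mpr (mem_centralizer_iff.mpr fun v hv => (hyQ v hv).eq.symm)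
    have h1 : ⁅⁅R, zpowers y⁆, Q⁆ = ⊥ := by
      refine commutator_commutator_eq_bot_of_rotate ?_ ?_
      · rw [commutator_eq_bot_iff_le_centralizer.mpr hyc, commutator_bot_left]
      · rw [eq_bot_iff, ← (commutator_eq_bot_iff_le_centralizer.mpr (le_centralizer_iff.mp hyc))]
        exact commutator_mono hQRle le_rfl
    rwa [hRe, commutator_eq_bot_iff_le_centralizer] at h1
  -- the centre of `Q`
  set Zq := (center Q).map Q.subtype with hZq
  have hZQ : Zq ≤ Q := map_subtype_le _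
  have hZne : Zq ≠ Q := fun h => hab fun a ha b hb => by
    obtain ⟨a', ha', rfl⟩ := h.ge ha
    exact congrArg Subtype.val (Subgroup.mem_center_iff.mp ha' ⟨b, hb⟩).symm
  have hZnorm : ∀ g, g ∈ normalizer (Q : Set Y) → g ∈ normalizer (Zq : Set Y) := fun g hg =>
    mem_normalizer_char _ hg
  have hRZ : R ≤ centralizer (Zq : Set Y) :=
    ihQ _ hZQ hZne (hZnorm x hxQ) (fun g hg => hZnorm g (hRQ hg))
  -- the Frattini subgroup of `R` and the derived group
  set C := R ⊓ centralizer (Q : Set Y) with hC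
  have hCnorm : ∀ g, g ∈ normalizer (R : Set Y) → g ∈ normalizer (Q : Set Y) →
      g ∈ normalizer (C : Set Y) := fun g hgR hgQ => by
    refine mem_normalizer_iff.mpr fun a => ?_
    have hcq : ∀ h ∈ normalizer (Q : Set Y), ∀ b ∈ centralizer (Q : Set Y),
        h * b * h⁻¹ ∈ centralizer (Q : Set Y) := fun h hh b hb => by
      refine mem_centralizer_iff.mpr fun v hv => ?_
      have hv' : h⁻¹ * v * h ∈ Q := Coprime.conj_mem' hh hv
      calc v * (h * b * h⁻¹) = h * ((h⁻¹ * v * h) * b) * h⁻¹ := by group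
        _ = h * (b * (h⁻¹ * v * h)) * h⁻¹ := by rw [mem_centralizer_iff.mp hb _ hv']
        _ = _ := by group
    constructor
    · exact fun ha => ⟨Coprime.conj_mem hgR ha.1, hcq g hgQ a ha.2⟩
    · intro ha
      have h1 := hcq g⁻¹ (inv_mem hgQ) _ ha.2
      rw [show g⁻¹ * (g * a * g⁻¹) * g⁻¹⁻¹ = a by group] at h1
      exact ⟨(mem_normalizer_iff.mp hgR a).mpr ha.1, h1⟩
  set ΦR := (frattini R).map R.subtype with hΦR
  have hΦRle : ΦR ≤ R := map_subtype_le _
  have hΦRne : ΦR ≠ R := by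
    intro h
    have : Nontrivial R := R.nontrivial_iff_ne_bot.mpr hRbot
    have h2 : frattini R = ⊤ :=
      map_injective R.subtype_injective (by rw [← MonoidHom.range_eq_map, R.range_subtype]; exact h)
    exact bot_ne_top (frattini_nongenerating (K := (⊥ : Subgroup R)) (by rw [bot_sup_eq, h2]))
  have hΦRy : ⁅ΦR, zpowers y⁆ ≤ C := le_inf
    ((commutator_mono hΦRle le_rfl).trans (commutator_le_left_of_normalizer hynR))
    (ihR _ hΦRle hΦRne (PQTower.mem_normalizer_frattini hxR))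
  have hRC : R ≤ normalizer (C : Set Y) := fun g hg => hCnorm g (le_normalizer hg) (hRQ hg)
  have hyC : zpowers y ≤ normalizer (C : Set Y) := fun g hg => hCnorm g (hynR hg) (hynQ hg)
  have hRΦ : ⁅⁅R, zpowers y⁆, ΦR⁆ ≤ C := by
    refine commutator_rotate_le hRC hyC (hΦRle.trans hRC) ?_ ?_
    · rw [commutator_comm (zpowers y) ΦR]
      exact (commutator_mono hΦRy le_rfl).trans (le_normalizer_iff_commutator_le_left.mp hRC)
    · refine (commutator_mono ?_ le_rfl).trans hΦRy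
      exact le_normalizer_iff_commutator_le_left.mp fun g hg => PQTower.mem_normalizer_frattini (le_normalizer hg)
  rw [hRe] at hRΦ
  set R' := (⁅R, R⁆ : Subgroup Y) with hR'
  have hR'Φ : R' ≤ ΦR := commutator_le_map_frattini hR
  have hR'R : R' ≤ R := hR'Φ.trans hΦRle
  have hxR' : x ∈ normalizer (R' : Set Y) := PQTower.mem_normalizer_comm hxR hxR
  by_cases hR'C : R' ≤ C
  · exact le_centralizer_of_abelian hq2 hrq hn hO hxp hfixO hR hQO hxR hxQ hRQ hRe
      (hR'C.trans inf_le_right)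
  exfalso
  -- `Q = [Q, R']`
  have hQR'le : ⁅Q, R'⁆ ≤ Q := commutator_le_left_of_normalizer (hR'R.trans hRQ)
  have hQR' : ⁅Q, R'⁆ = Q := by
    by_contra hne
    refine hR'C (le_inf hR'R ?_)
    refine le_centralizer_of_commutator_le_centralizer (hR'R.trans hRQ)
      (hqc.coprime_dvd_left (card_dvd_of_le hR'R)) (le_centralizer_iff.mp (hR'R.trans ?_))
    exact ihQ _ hQR'le hne (PQTower.mem_normalizer_comm hxQ hxR')
      (fun g hg => PQTower.mem_normalizer_comm (hRQ hg)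
        (PQTower.mem_normalizer_comm (le_normalizer hg) (le_normalizer hg)))
  set Qm := (⁅Q, zpowers y⁆ : Subgroup Y) with hQm
  set Cq := Q ⊓ centralizer ((zpowers y : Subgroup Y) : Set Y) with hCq
  have hQmQ : Qm ≤ Q := commutator_le_left_of_normalizer hynQ
  have hsup : Qm ⊔ Cq = Q :=
    commutator_sup_centralizer hynQ (coprime_zpowers hyp hq2 hQ) (Or.inl (isSolvable_zpowers y))
  have hQmCq : ⁅Qm, Cq⁆ = ⊥ := by
    have hyΦ : ⁅Φ, zpowers y⁆ = ⊥ := commutator_eq_bot_iff_le_centralizer.mpr fun v hv =>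
      mem_centralizer_iff.mpr fun a ha => by
        obtain ⟨i, rfl⟩ := mem_zpowers_iff.mp ha
        exact ((hΦy v hv).zpow_left i).eq
    refine commutator_commutator_eq_bot_of_rotate ?_ ?_
    · rw [show ⁅zpowers y, Cq⁆ = ⊥ from
        commutator_eq_bot_iff_le_centralizer.mpr (le_centralizer_iff.mp inf_le_right), commutator_bot_left]
    · rw [eq_bot_iff, ← hyΦ]
      exact commutator_mono ((commutator_mono inf_le_left le_rfl).trans (commutator_le_map_frattini hQ)) le_rfl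
  have hQmx : x ∈ normalizer (Qm : Set Y) := PQTower.mem_normalizer_comm hxQ hxy
  have hQmy : ⁅Qm, zpowers y⁆ = Qm :=
    commutator_commutator_eq hynQ (coprime_zpowers hyp hq2 hQ) (Or.inl (isSolvable_zpowers y))
  have hcomQ : ∀ a ∈ Qm, ∀ b ∈ Cq, Commute a b := fun a ha b hb =>
    commutatorElement_eq_one_iff_commute.mp (Subgroup.mem_bot.mp (hQmCq ▸ commutator_mem_commutator ha hb))
  have hcQm : ∀ d ∈ Qm, (∀ w ∈ Qm, Commute d w) → d ∈ Zq := by
    intro d hd hw
    refine ⟨⟨d, hQmQ hd⟩, Subgroup.mem_center_iff.mpr fun g => Subtype.ext ?_, rfl⟩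
    show (g : Y) * d = d * g
    have hle : Q ≤ centralizer ({d} : Set Y) := by
      rw [← hsup]
      refine sup_le (fun w hw' => mem_centralizer_iff.mpr ?_) (fun w hw' => mem_centralizer_iff.mpr ?_)
      · rintro _ rfl; exact (hw w hw').eq
      · rintro _ rfl; exact (hcomQ _ hd w hw').eq
    exact (mem_centralizer_iff.mp (hle g.2) d rfl).symm
  -- the elements of the derived group commute with the involution on `Q`
  have hza : ∀ z ∈ R', ∀ a ∈ zpowers y, ⁅z, a⁆ ∈ centralizer (Q : Set Y) := fun z hz a ha =>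
    (hΦRy (commutator_mem_commutator (hR'Φ hz) ha)).2
  have hzQm : ∀ z ∈ R', z ∈ normalizer (Qm : Set Y) := by
    intro z hz
    have hzQ := hRQ (hR'R hz)
    refine mem_normalizer_of_map_conj (eq_of_le_of_card_ge ?_
      (card_map_of_injective (MulAut.conj z).injective).ge)
    rw [map_le_iff_le_comap, hQm, commutator_le]
    intro v hv a ha
    show z * ⁅v, a⁆ * z⁻¹ ∈ Qm
    rw [(conj_comm_of_mem_centralizer hv (hynQ ha) hzQ (hza z hz a ha)).2]
    exact commutator_mem_commutator (Coprime.conj_mem hzQ hv) ha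
  obtain ⟨z, hz, w, hw, hd⟩ : ∃ z ∈ R', ∃ w ∈ Qm, ⁅z, w⁆ ∉ Zq := by
    by_contra hnot
    push Not at hnot
    have hQnS : Q ≤ normalizer ((Zq ⊔ Cq : Subgroup Y) : Set Y) := by
      rw [← hsup]
      refine sup_le ?_ ((le_sup_right).trans le_normalizer)
      refine fun a ha => centralizer_le_normalizer _ (mem_centralizer_iff.mpr fun b hb => ?_)
      have hle : (Zq ⊔ Cq : Subgroup Y) ≤ centralizer ({a} : Set Y) := by
        refine sup_le ?_ (fun c hc => mem_centralizer_iff.mpr ?_)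
        · rintro _ ⟨u, hu, rfl⟩
          refine mem_centralizer_iff.mpr ?_
          rintro _ rfl
          exact congrArg Subtype.val (Subgroup.mem_center_iff.mp hu ⟨_, hQmQ ha⟩)
        · rintro _ rfl; exact (hcomQ _ ha c hc).eq
      exact (mem_centralizer_iff.mp (hle hb) a rfl).symm
    have hQS : Q ≤ relCentralizer (Zq ⊔ Cq) R' := by
      refine hsup.ge.trans (sup_le (fun g hg => ⟨hQnS (hQmQ hg), fun h hh => ?_⟩)
        (fun g hg => ⟨hQnS hg.1, fun h hh => ?_⟩))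
      · rw [← commutatorElement_inv]
        exact inv_mem (mem_sup_left (hnot h hh g hg))
      · refine mem_sup_right (mul_mem ?_ ?_ : g * (h * g⁻¹ * h⁻¹) ∈ Cq) |> fun h' => by
          simpa [commutatorElement_def, mul_assoc] using h'
        · exact hg
        · have hgi := inv_mem hg
          refine ⟨Coprime.conj_mem (hRQ (hR'R hh)) hgi.1, mem_centralizer_iff.mpr fun a ha => ?_⟩
          have h1 := (conj_comm_of_mem_centralizer hgi.1 (hynQ ha) (hRQ (hR'R hh)) (hza h hh a ha)).1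
          rw [mem_centralizer_iff.mp hgi.2 a ha, mul_inv_cancel_right] at h1
          exact mul_inv_eq_iff_eq_mul.mp h1
    have hQle : Q ≤ Zq ⊔ Cq := hQR'.ge.trans (commutator_le_of_le_relCentralizer hQS)
    have hQy : Qm ≤ Zq := by
      refine commutator_le_of_le_relCentralizer (hQle.trans (sup_le ?_ ?_))
      · exact fun g hg => ⟨le_normalizer hg, fun a ha => by
          rw [commutatorElement_def, mul_assoc, mul_assoc]
          refine mul_mem hg ?_
          rw [← mul_assoc]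
          exact Coprime.conj_mem (hZnorm a (hynQ ha)) (inv_mem hg)⟩
      · exact fun g hg => ⟨hZnorm g (le_normalizer hg.1), fun a ha => by
          rw [commutatorElement_eq_one_iff_mul_comm.mpr (mem_centralizer_iff.mp hg.2 a ha).symm]
          exact one_mem _⟩
    have h3 : ⁅⁅R, zpowers y⁆, Q⁆ ≤ Zq := by
      refine commutator_rotate_le (fun g hg => hZnorm g (hRQ hg)) (fun g hg => hZnorm g (hynQ hg))
        (fun g hg => hZnorm g (le_normalizer hg)) ?_ ((commutator_mono hQRle le_rfl).trans hQy)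
      rw [commutator_comm (zpowers y) Q]
      refine (commutator_mono hQy le_rfl).trans ?_
      rw [commutator_eq_bot_iff_le_centralizer.mpr (le_centralizer_iff.mp hRZ)]
      exact bot_le
    rw [hRe, commutator_comm, hQR] at h3
    exact hZne (le_antisymm hZQ h3)
  have hdQm : ⁅z, w⁆ ∈ Qm := by
    rw [commutatorElement_def]
    exact mul_mem (Coprime.conj_mem (hzQm z hz) hw) (inv_mem hw)
  obtain ⟨w', hw', hne⟩ : ∃ w' ∈ Qm, ¬ Commute ⁅z, w⁆ w' := by
    by_contra h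
    push Not at h
    exact hd (hcQm _ hdQm h)
  -- the form on `Qm`
  have hcen : ∀ a b : Qm, ⁅a, b⁆ ∈ center Qm := fun a b => Subgroup.mem_center_iff.mpr fun g => Subtype.ext
    (mem_centralizer_iff.mp (hΦc (hQmQ g.2)) _
      (commutator_le_map_frattini hQ (commutator_mem_commutator (hQmQ a.2) (hQmQ b.2)))).symm
  obtain ⟨K, l, hK, hnot, hl, hln, hKσ, hfpf, hdvd, hle⟩ := hgood.quad Qm (hQmQ.trans hQO) hQmx hcen
    (moved_eq_top hQmx _ hQmy.ge) ⟨_, hdQm⟩ ⟨w', hw'⟩
    (fun h => hne (commutatorElement_eq_one_iff_commute.mp (congrArg Subtype.val h)))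
  set σ := Subgroup.normalizerMonoidHom Qm ⟨x, hQmx⟩ with hσ
  have : (rad K).Normal := rad_normal hK hcen
  let _ : CommGroup (Qm ⧸ rad K) :=
    { (inferInstance : Group (Qm ⧸ rad K)) with
      mul_comm := fun a b => by
        obtain ⟨a, rfl⟩ := QuotientGroup.mk_surjective a
        obtain ⟨b, rfl⟩ := QuotientGroup.mk_surjective b
        rw [← QuotientGroup.mk_mul, ← QuotientGroup.mk_mul, QuotientGroup.eq]
        refine (mem_rad hK).mpr fun g => ?_
        rw [show (a * b)⁻¹ * (b * a) = ⁅b⁻¹, a⁻¹⁆ by rw [commutatorElement_def]; group,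
          commutatorElement_eq_one_iff_mul_comm.mpr (Subgroup.mem_center_iff.mp (hcen _ _) g).symm]
        exact one_mem _ }
  let _ : CommGroup (center Qm) :=
    { (inferInstance : Group (center Qm)) with
      mul_comm := fun a b => Subtype.ext (Subgroup.mem_center_iff.mp b.2 a) }
  let Kc := K.subgroupOf (center Qm)
  have : Kc.Normal := inferInstance
  let mkc : ∀ u : Qm, u ∈ center Qm → center Qm ⧸ Kc := fun u hu => QuotientGroup.mk ⟨u, hu⟩
  let P : Qm → (Qm →* center Qm ⧸ Kc) := fun a =>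
    { toFun := fun b => mkc ⁅a, b⁆ (hcen a b)
      map_one' := (QuotientGroup.eq_one_iff _).mpr (by
        show ⁅a, (1 : Qm)⁆ ∈ K
        rw [commutatorElement_one_right]; exact one_mem _)
      map_mul' := fun b c => by
        show (QuotientGroup.mk _ : center Qm ⧸ Kc) = QuotientGroup.mk _ * QuotientGroup.mk _
        rw [← QuotientGroup.mk_mul]
        refine congrArg QuotientGroup.mk (Subtype.ext ?_)
        show ⁅a, b * c⁆ = ⁅a, b⁆ * ⁅a, c⁆
        rw [show ⁅a, b * c⁆ = ⁅a, b⁆ * (b * ⁅a, c⁆ * b⁻¹) by simp only [commutatorElement_def]; group,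
          Subgroup.mem_center_iff.mp (hcen a c) b, mul_inv_cancel_right] }
  let P2 : Qm →* (Qm ⧸ rad K →* center Qm ⧸ Kc) :=
    { toFun := fun a => QuotientGroup.lift (rad K) (P a) fun b hb => MonoidHom.mem_ker.mpr
        ((QuotientGroup.eq_one_iff _).mpr (show ⁅a, b⁆ ∈ K by
          rw [← commutatorElement_inv]; exact inv_mem ((mem_rad hK).mp hb a)))
      map_one' := MonoidHom.ext fun b => by
        obtain ⟨b, rfl⟩ := QuotientGroup.mk_surjective b
        exact (QuotientGroup.eq_one_iff _).mpr (show ⁅(1 : Qm), b⁆ ∈ K by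
          rw [commutatorElement_one_left]; exact one_mem _)
      map_mul' := fun a c => MonoidHom.ext fun b => by
        obtain ⟨b, rfl⟩ := QuotientGroup.mk_surjective b
        show (QuotientGroup.mk _ : center Qm ⧸ Kc) = QuotientGroup.mk _ * QuotientGroup.mk _
        rw [← QuotientGroup.mk_mul]
        refine congrArg QuotientGroup.mk (Subtype.ext ?_)
        show ⁅a * c, b⁆ = ⁅a, b⁆ * ⁅c, b⁆
        rw [commutatorElement_mul_left_eq_conj_mul, Subgroup.mem_center_iff.mp (hcen c b) a,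
          mul_inv_cancel_right, Subgroup.mem_center_iff.mp (hcen a b) ⁅c, b⁆] }
  let B : (Qm ⧸ rad K) →* (Qm ⧸ rad K) →* center Qm ⧸ Kc :=
    QuotientGroup.lift (rad K) P2 fun a ha => MonoidHom.mem_ker.mpr (MonoidHom.ext fun b => by
      obtain ⟨b, rfl⟩ := QuotientGroup.mk_surjective b
      exact (QuotientGroup.eq_one_iff _).mpr (show ⁅a, b⁆ ∈ K from (mem_rad hK).mp ha b))
  have hB : ∀ a b : Qm, B a b = mkc ⁅a, b⁆ (hcen a b) := fun a b => rfl
  -- automorphisms of `Qm` preserving the classes of central elements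
  have hBpres : ∀ φ : MulAut Qm, (∀ u ∈ center Qm, u⁻¹ * φ u ∈ K) →
      ∀ a b, mkc ⁅φ a, φ b⁆ (hcen _ _) = mkc ⁅a, b⁆ (hcen _ _) := by
    intro φ hφ a b
    refine (QuotientGroup.eq.mpr ?_).symm
    show (⁅a, b⁆⁻¹ : Qm) * ⁅φ a, φ b⁆ ∈ K
    rw [← map_commutatorElement]
    exact hφ _ (hcen a b)
  have hradmap : ∀ φ : MulAut Qm, (∀ u ∈ center Qm, u⁻¹ * φ u ∈ K) →
      (rad K).map φ.toMonoidHom = rad K := by
    intro φ hφ
    refine eq_of_le_of_card_ge ?_ (card_map_of_injective φ.injective).ge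
    rintro _ ⟨a, ha, rfl⟩
    refine (mem_rad hK).mpr fun b => ?_
    obtain ⟨b, rfl⟩ := φ.surjective b
    show ⁅φ a, φ b⁆ ∈ K
    have := mul_mem ((mem_rad hK).mp ha b) (hφ _ (hcen a b))
    rwa [mul_inv_cancel_left, map_commutatorElement] at this
  let c : MulAut (Qm ⧸ rad K) := QuotientGroup.congr (rad K) (rad K) (σ ^ 2 ^ (n - l)) (hradmap _ hKσ)
  have hc : ∀ a : Qm, c a = ((σ ^ 2 ^ (n - l)) a : Qm) := fun a => rfl
  have hcpow : ∀ (j : ℕ) (a : Qm), (c ^ j) a = (((σ ^ 2 ^ (n - l)) ^ j) a : Qm) := by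
    intro j
    induction j with
    | zero => intro a; rfl
    | succ j ih => intro a; rw [pow_succ', MulAut.mul_apply, ih, pow_succ', MulAut.mul_apply]; rfl
  have hexp : ∀ m : Qm ⧸ rad K, m ^ q = 1 := by
    intro m
    obtain ⟨a, rfl⟩ := QuotientGroup.mk_surjective m
    rw [← QuotientGroup.mk_pow, QuotientGroup.eq_one_iff]
    refine (mem_rad hK).mpr fun g => ?_
    have h1 : (((a ^ q : Qm)) : Y) ∈ Φ := by
      rw [SubmonoidClass.coe_pow]
      exact mem_map_of_mem Q.subtype (PGroups.pow_mem_frattini hQ ⟨a, hQmQ a.2⟩)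
    rw [show ⁅a ^ q, g⁆ = 1 from Subtype.ext
      (commutatorElement_eq_one_iff_mul_comm.mpr (mem_centralizer_iff.mp (hΦc (hQmQ g.2)) _ h1))]
    exact one_mem _
  have hodd : ∀ m : Qm ⧸ rad K, m * m = 1 → m = 1 := fun m hm => by
    refine orderOf_eq_one_iff.mp (Nat.Coprime.eq_one_of_dvd ?_ (orderOf_dvd_of_pow_eq_one (hexp m)))
    exact Nat.Coprime.coprime_dvd_left (orderOf_dvd_of_pow_eq_one (by rw [pow_two]; exact hm))
      ((Nat.coprime_primes Nat.prime_two (Fact.out : q.Prime)).mpr hq2.symm)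
  have hneg : ∀ m, (c ^ 2 ^ (l - 1)) m = m⁻¹ := by
    intro m
    obtain ⟨a, rfl⟩ := QuotientGroup.mk_surjective m
    rw [hcpow, ← pow_mul, ← pow_add, show n - l + (l - 1) = n - 1 by omega]
    set b := σ ^ 2 ^ (n - 1) with hb
    have hbb : b (b a) = a := by
      rw [hb, ← MulAut.mul_apply, ← pow_add, ← two_mul, ← pow_succ', Nat.sub_add_cancel hn]
      refine Subtype.ext ?_
      rw [hσ, pow_apply, hxp, one_mul, inv_one, mul_one]
    have hm : a * b a ∈ rad K := by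
      refine hfpf _ ?_
      rw [← QuotientGroup.eq]
      show ((a * b a : Qm) : Qm ⧸ rad K) = ((b (a * b a) : Qm) : Qm ⧸ rad K)
      rw [map_mul, hbb, QuotientGroup.mk_mul, QuotientGroup.mk_mul, mul_comm]
    refine eq_inv_of_mul_eq_one_right ?_
    rw [← QuotientGroup.mk_mul]
    exact (QuotientGroup.eq_one_iff _).mpr hm
  have hcenZ : ∀ u ∈ center Qm, ∀ g ∈ R, g * (u : Y) * g⁻¹ = u := by
    intro u hu g hg
    have hu' : (u : Y) ∈ Zq := hcQm u u.2 fun w hw =>
      (congrArg Subtype.val (Subgroup.mem_center_iff.mp hu ⟨w, hw⟩)).symm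
    rw [← mem_centralizer_iff.mp (hRZ hg) _ hu', mul_inv_cancel_right]
  let ψ : R' →* MulAut Qm := (Subgroup.normalizerMonoidHom Qm).comp (Subgroup.inclusion hzQm)
  have hψK : ∀ (g : R'), ∀ u ∈ center Qm, u⁻¹ * ψ g u ∈ K := by
    intro g u hu
    rw [show ψ g u = u from Subtype.ext (hcenZ u hu g (hR'R g.2)), inv_mul_cancel]
    exact one_mem _
  let Ψ : R' →* MulAut (Qm ⧸ rad K) :=
    { toFun := fun g => QuotientGroup.congr (rad K) (rad K) (ψ g) (hradmap _ (hψK g))
      map_one' := MulEquiv.ext fun m => by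
        obtain ⟨a, rfl⟩ := QuotientGroup.mk_surjective m
        show ((ψ 1 a : Qm) : Qm ⧸ rad K) = _
        rw [map_one]
        rfl
      map_mul' := fun g h => MulEquiv.ext fun m => by
        obtain ⟨a, rfl⟩ := QuotientGroup.mk_surjective m
        show ((ψ (g * h) a : Qm) : Qm ⧸ rad K) = ((ψ g (ψ h a) : Qm) : Qm ⧸ rad K)
        rw [map_mul, MulAut.mul_apply] }
  have hbot : Ψ.range = ⊥ := by
    refine GrossForm.eq_bot (q := q) hq2 hr2 hrq hexp B ?_ ?_ c ?_ hl hneg hdvd hle Ψ.range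
      ((hR.to_le hR'R).of_surjective _ Ψ.rangeRestrict_surjective) ?_ ?_
    · intro m
      obtain ⟨a, rfl⟩ := QuotientGroup.mk_surjective m
      rw [hB]
      exact (QuotientGroup.eq_one_iff _).mpr (show ⁅a, a⁆ ∈ K by
        rw [commutatorElement_eq_one_iff_mul_comm.mpr rfl]; exact one_mem _)
    · intro m hm
      obtain ⟨a, rfl⟩ := QuotientGroup.mk_surjective m
      refine (QuotientGroup.eq_one_iff _).mpr ((mem_rad hK).mpr fun b => ?_)
      have h0 := hm b
      rw [hB] at h0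
      have h1 : ⁅b, a⁆ ∈ K := (QuotientGroup.eq_one_iff (⟨⁅b, a⁆, hcen b a⟩ : center Qm)).mp h0
      rw [← commutatorElement_inv]
      exact inv_mem h1
    · intro m m'
      obtain ⟨a, rfl⟩ := QuotientGroup.mk_surjective m
      obtain ⟨b, rfl⟩ := QuotientGroup.mk_surjective m'
      rw [hc, hc, hB, hB]
      exact hBpres _ hKσ a b
    · rintro _ ⟨g, rfl⟩ m m'
      obtain ⟨a, rfl⟩ := QuotientGroup.mk_surjective m
      obtain ⟨b, rfl⟩ := QuotientGroup.mk_surjective m'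
      show B (ψ g a : Qm) (ψ g b : Qm) = B a b
      rw [hB, hB]
      exact hBpres _ (hψK g) a b
    · refine mem_normalizer_of_map_conj (eq_of_le_of_card_ge ?_
        (card_map_of_injective (MulAut.conj c).injective).ge)
      rintro _ ⟨_, ⟨g, rfl⟩, rfl⟩
      refine ⟨⟨x ^ 2 ^ (n - l) * g * (x ^ 2 ^ (n - l))⁻¹, Coprime.conj_mem (pow_mem hxR' _) g.2⟩, ?_⟩
      rw [MulEquiv.coe_toMonoidHom, MulAut.conj_apply, eq_mul_inv_iff_mul_eq]
      refine MulEquiv.ext fun m => ?_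
      obtain ⟨a, rfl⟩ := QuotientGroup.mk_surjective m
      show ((ψ _ ((σ ^ 2 ^ (n - l)) a) : Qm) : Qm ⧸ rad K) =
        (((σ ^ 2 ^ (n - l)) (ψ g a) : Qm) : Qm ⧸ rad K)
      refine congrArg QuotientGroup.mk (Subtype.ext ?_)
      rw [hσ, pow_apply]
      show x ^ 2 ^ (n - l) * (g : Y) * (x ^ 2 ^ (n - l))⁻¹ *
          (((Subgroup.normalizerMonoidHom Qm ⟨x, hQmx⟩ ^ 2 ^ (n - l)) a : Qm) : Y) *
          (x ^ 2 ^ (n - l) * (g : Y) * (x ^ 2 ^ (n - l))⁻¹)⁻¹ =
        x ^ 2 ^ (n - l) * ((g : Y) * a * (g : Y)⁻¹) * (x ^ 2 ^ (n - l))⁻¹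
      rw [pow_apply]
      group
  have h1 : Ψ ⟨z, hz⟩ = 1 := Subgroup.mem_bot.mp (hbot ▸ ⟨_, rfl⟩)
  have h2 : ((ψ ⟨z, hz⟩ ⟨w, hw⟩ : Qm) : Qm ⧸ rad K) = ((⟨w, hw⟩ : Qm) : Qm ⧸ rad K) :=
    congrArg (fun f : MulAut (Qm ⧸ rad K) => f ((⟨w, hw⟩ : Qm) : Qm ⧸ rad K)) h1
  have h3 : ψ ⟨z, hz⟩ ⟨w, hw⟩ * (⟨w, hw⟩ : Qm)⁻¹ ∈ rad K := by
    rw [← QuotientGroup.eq_one_iff, QuotientGroup.mk_mul, QuotientGroup.mk_inv, h2, mul_inv_cancel]
  refine hnot ?_
  convert (mem_rad hK).mp h3 ⟨w', hw'⟩ using 2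
  exact Subtype.ext (commutatorElement_def z w)

end Cfsg.Agent.Hall.GrossTwo
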