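import Cfsg.Agent.Hall.WielandtFull
import Cfsg.Agent.Hall.CarterSystems
import Cfsg.Agent.Hall.Existence
import Cfsg.Agent.Hall.CardForms

/-!
The number of Hall subgroups of given order in a finite solvable group.
-/

set_option autoImplicit false

open scoped Pointwise

namespace Cfsg.Agent.Hall

universe u

/-- `f` is a prime power, divides a chief factor and is `1` modulo a prime of `m`. -/
def GoodFactor (G : Type u) [Group G] (m f : ℕ) : Prop :=
  (∃ q e : ℕ, q.Prime ∧ f = q ^ e) ∧
    (∃ K L : Subgroup G, K.Normal ∧ L.Normal ∧ K < L ∧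
      (∀ M : Subgroup G, M.Normal → K ≤ M → M ≤ L → M = K ∨ M = L) ∧ f ∣ K.relIndex L) ∧
    ∃ q : ℕ, q.Prime ∧ q ∣ m ∧ f ≡ 1 [MOD q]

variable {G : Type u} [Group G]

theorem le_normalizer_inf_centralizer {N A B : Subgroup G} [N.Normal]
    (h : B ≤ Subgroup.normalizer (A : Set G)) :
    B ≤ Subgroup.normalizer ((N ⊓ Subgroup.centralizer (A : Set G) : Subgroup G) : Set G) := by
  refine le_normalizer_of_conj fun b hb => ?_
  rw [Subgroup.smul_inf, conj_smul_of_normal]
  congr 1
  ext z
  rw [mem_conj_smul, Subgroup.mem_centralizer_iff, Subgroup.mem_centralizer_iff]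
  constructor
  · intro hz a ha
    have ha' := (Subgroup.mem_normalizer_iff''.mp (h hb) a).mp ha
    have e : ∀ u v : G, b * ((b⁻¹ * u * b) * (b⁻¹ * v * b)) * b⁻¹ = u * v := fun u v => by group
    rw [← e a z, hz _ ha', e]
  · intro hz a ha
    have h' := hz _ ((Subgroup.mem_normalizer_iff.mp (h hb) a).mp ha)
    calc a * (b⁻¹ * z * b) = b⁻¹ * ((b * a * b⁻¹) * z) * b := by group
      _ = b⁻¹ * (z * (b * a * b⁻¹)) * b := by rw [h']
      _ = b⁻¹ * z * b * a := by group

/-- A coprime solvable group acting on a normal `p`-subgroup. -/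
theorem centralizer_factors [Finite G] {p : ℕ} (hp : p.Prime) (N : Subgroup G) [N.Normal]
    {e : ℕ} (he : Nat.card N = p ^ e) (k : ℕ) :
    ∀ A : Subgroup G, Nat.card A ≤ k → Group.IsSolvable A → ¬ p ∣ Nat.card A →
      ∃ l : List ℕ, l.prod = (N ⊓ Subgroup.centralizer (A : Set G)).relIndex N ∧
        ∀ f ∈ l, ∃ a q : ℕ, f = p ^ a ∧ p ^ a ∣ p ^ e ∧ q.Prime ∧ q ∣ Nat.card A ∧
          f ≡ 1 [MOD q] := by
  induction k with
  | zero => intro A h; exact absurd h (not_le.mpr Nat.card_pos)
  | succ k ih =>
    intro A hA hsol hpA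
    rcases eq_or_ne A ⊥ with rfl | hne
    · refine ⟨[], ?_, fun f hf => absurd hf List.not_mem_nil⟩
      rw [List.prod_nil, eq_comm, Subgroup.relIndex_eq_one]
      exact le_inf le_rfl fun x _ => Subgroup.mem_centralizer_iff.mpr fun a ha => by
        rw [Subgroup.mem_bot.mp ha, one_mul, mul_one]
    have := A.nontrivial_iff_ne_bot.mpr hne
    obtain ⟨M₀, q, hM₀n, hq, hidx, hM₀⟩ := exists_normal_prime_index (G := A)
    set B := M₀.map A.subtype with hB
    have hBA : B ≤ A := Subgroup.map_subtype_le _
    have hcard : Nat.card B * q = Nat.card A := by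
      rw [hB, Subgroup.card_map_of_injective A.subtype_injective, ← hidx, M₀.card_mul_index]
    have hqA : q ∣ Nat.card A := ⟨Nat.card B, by rw [← hcard, mul_comm]⟩
    have hqp : q ≠ p := fun h => hpA (h ▸ hqA)
    have hBlt : Nat.card B ≤ k := by
      have := hq.two_le
      have := Nat.card_pos (α := B)
      nlinarith
    obtain ⟨l, hl, hl'⟩ := ih B hBlt
      (Group.isSolvable_of_isSolvable_injective (f := Subgroup.inclusion hBA)
        (Subgroup.inclusion_injective hBA))
      (fun h => hpA (h.trans (Subgroup.card_dvd_of_le hBA)))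
    set CB := N ⊓ Subgroup.centralizer (B : Set G) with hCB
    set CA := N ⊓ Subgroup.centralizer (A : Set G) with hCA
    have hle : CA ≤ CB :=
      inf_le_inf_left N (Subgroup.centralizer_le (SetLike.coe_subset_coe.mpr hBA))
    obtain ⟨a, ha, haeq⟩ := (Nat.dvd_prime_pow hp).mp
      (he ▸ (CA.relIndex_dvd_card CB).trans (Subgroup.card_dvd_of_le (inf_le_left : CB ≤ N)))
    refine ⟨CA.relIndex CB :: l, ?_, ?_⟩
    · rw [List.prod_cons, hl, Subgroup.relIndex_mul_relIndex _ _ _ hle inf_le_left]
    intro f hf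
    rcases List.mem_cons.mp hf with rfl | hf
    swap
    · obtain ⟨b, r, h1, h2, h3, h4, h5⟩ := hl' f hf
      exact ⟨b, r, h1, h2, h3, h4.trans (Subgroup.card_dvd_of_le hBA), h5⟩
    refine ⟨a, q, haeq, pow_dvd_pow p ha, hq, hqA, ?_⟩
    -- the fixed points of the group of order `q`
    have hBn : A ≤ Subgroup.normalizer (B : Set G) := fun x hx => by
      have h2 : (⟨x, hx⟩ : A) ∈ Subgroup.normalizer (M₀ : Set A) :=
        (Subgroup.normalizer_eq_top_iff.mpr hM₀n).symm ▸ Subgroup.mem_top _
      exact Subgroup.le_normalizer_map A.subtype ⟨_, h2, rfl⟩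
    have hACB : A ≤ Subgroup.normalizer (CB : Set G) := le_normalizer_inf_centralizer hBn
    obtain ⟨x, hxA, hxB⟩ : ∃ x ∈ A, x ∉ B := SetLike.exists_of_lt (hBA.lt_of_ne fun h => by
      have := hq.two_le
      have := Nat.card_pos (α := A)
      rw [h] at hcard
      nlinarith)
    set y : A := ⟨x, hxA⟩ with hy
    have hgen : M₀ ⊔ Subgroup.zpowers y = ⊤ := by
      have hlt : M₀ < M₀ ⊔ Subgroup.zpowers y := left_lt_sup.mpr fun h =>
        hxB ⟨y, h (Subgroup.mem_zpowers y), rfl⟩
      have hi := Subgroup.relIndex_mul_index hlt.le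
      rw [hidx] at hi
      rcases (Nat.dvd_prime hq).mp ⟨_, hi.symm⟩ with h | h
      · exact absurd (Subgroup.relIndex_eq_one.mp h) hlt.not_ge
      · rw [h] at hi
        exact Subgroup.index_eq_one.mp (by nlinarith [hq.two_le])
    have hsupA : B ⊔ Subgroup.zpowers x = A := by
      have h := congrArg (Subgroup.map A.subtype) hgen
      rwa [Subgroup.map_sup, MonoidHom.map_zpowers, ← MonoidHom.range_eq_map,
        Subgroup.range_subtype] at h
    have hxN : x ∈ Subgroup.normalizer (CB : Set G) := hACB hxA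
    -- conjugation by `x` on `CB`
    let σ : Equiv.Perm CB :=
      { toFun := fun c => ⟨x * c * x⁻¹, (Subgroup.mem_normalizer_iff.mp hxN c).mp c.2⟩
        invFun := fun c => ⟨x⁻¹ * c * x, (Subgroup.mem_normalizer_iff''.mp hxN c).mp c.2⟩
        left_inv := fun c => Subtype.ext (by simp [mul_assoc])
        right_inv := fun c => Subtype.ext (by simp [mul_assoc]) }
    have hσ : ∀ (i : ℕ) (c : CB), ((σ ^ i) c : G) = x ^ i * c * (x ^ i)⁻¹ := by
      intro i
      induction i with
      | zero => intro c; simp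
      | succ i ih =>
        intro c
        rw [pow_succ', Equiv.Perm.mul_apply]
        change x * ((σ ^ i) c : G) * x⁻¹ = _
        rw [ih, pow_succ']
        group
    have hσq : σ ^ q = 1 := by
      refine Equiv.ext fun c => Subtype.ext ?_
      rw [hσ, Equiv.Perm.one_apply]
      have hxq : x ^ q ∈ B := ⟨y ^ q, hidx ▸ Subgroup.pow_index_mem M₀ y, by simp [hy]⟩
      rw [(Subgroup.mem_centralizer_iff.mp c.2.2) _ hxq, mul_inv_cancel_right]
    have : Fact q.Prime := ⟨hq⟩
    have hP : IsPGroup q (Subgroup.zpowers σ) := fun g => ⟨1, Subtype.ext (by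
      obtain ⟨i, hi⟩ := Subgroup.mem_zpowers_iff.mp g.2
      rw [pow_one, SubmonoidClass.coe_pow, ← hi, Subgroup.coe_one, ← zpow_natCast, ← zpow_mul,
        mul_comm, zpow_mul, zpow_natCast, hσq, one_zpow])⟩
    have hcong := hP.card_modEq_card_fixedPoints CB
    have hfix : Nat.card (MulAction.fixedPoints (Subgroup.zpowers σ) CB) = Nat.card CA := by
      have hmem : ∀ c : CB, c ∈ MulAction.fixedPoints (Subgroup.zpowers σ) CB ↔ (c : G) ∈ CA := by
        intro c
        constructor
        · intro hc
          have h1 : σ c = c := hc ⟨σ, Subgroup.mem_zpowers σ⟩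
          have h2 : x * (c : G) * x⁻¹ = c := congrArg Subtype.val h1
          refine Subgroup.mem_inf.mpr ⟨c.2.1, ?_⟩
          have h3 : A ≤ Subgroup.centralizer ({(c : G)} : Set G) := by
            rw [← hsupA, sup_le_iff, Subgroup.zpowers_le]
            exact ⟨fun b hb => Subgroup.mem_centralizer_singleton_iff.mpr
              (Subgroup.mem_centralizer_iff.mp c.2.2 b hb),
              Subgroup.mem_centralizer_singleton_iff.mpr (mul_inv_eq_iff_eq_mul.mp h2)⟩
          exact Subgroup.mem_centralizer_iff.mpr fun z hz =>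
            Subgroup.mem_centralizer_singleton_iff.mp (h3 hz)
        · rintro ⟨-, hc⟩ ⟨g, hg⟩
          obtain ⟨i, rfl⟩ := Subgroup.mem_zpowers_iff.mp hg
          have h1 : Function.IsFixedPt σ c := Subtype.ext (by
            change x * (c : G) * x⁻¹ = c
            rw [(Subgroup.mem_centralizer_iff.mp hc) x hxA, mul_inv_cancel_right])
          exact h1.perm_zpow i
      exact Nat.card_congr
        ⟨fun c => ⟨c.1, (hmem c.1).mp c.2⟩, fun c => ⟨⟨c, hle c.2⟩, (hmem _).mpr c.2⟩,
          fun c => rfl, fun c => rfl⟩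
    rw [hfix] at hcong
    have hmul := Subgroup.relIndex_mul_relIndex ⊥ CA CB bot_le hle
    rw [Subgroup.relIndex_bot_left, Subgroup.relIndex_bot_left] at hmul
    have hcop : (Nat.card CA).Coprime q := by
      refine Nat.Coprime.coprime_dvd_left (Subgroup.card_dvd_of_le inf_le_left) ?_
      rw [he]
      exact ((Nat.coprime_primes hp hq).mpr (Ne.symm hqp)).pow_left e
    rw [← hmul] at hcong
    exact Nat.ModEq.cancel_left_of_coprime (c := Nat.card CA) (Nat.coprime_comm.mp hcop)
      (by rw [mul_one]; exact hcong)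

/-- The subgroups of order `m` form one conjugacy class. -/
theorem card_subgroups_eq_index [Finite G] [Group.IsSolvable G] {m n : ℕ}
    (hG : Nat.card G = m * n) (hmn : m.Coprime n) {H : Subgroup G} (hH : Nat.card H = m) :
    Nat.card {K : Subgroup G // Nat.card K = m} =
      (Subgroup.normalizer (H : Set G)).index := by
  let f : G ⧸ Subgroup.normalizer (H : Set G) → {K : Subgroup G // Nat.card K = m} :=
    Quotient.lift (fun g => ⟨MulAut.conj g • H, by rw [card_conj_smul, hH]⟩) fun a b hab => by
      refine Subtype.ext ?_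
      have h : a⁻¹ * b ∈ Subgroup.normalizer (H : Set G) := QuotientGroup.leftRel_apply.mp hab
      change MulAut.conj a • H = MulAut.conj b • H
      rw [show b = a * (a⁻¹ * b) from by group, conj_mul_smul a (a⁻¹ * b),
        conj_smul_of_le_normalizer le_rfl h]
  rw [Subgroup.index_eq_card]
  refine (Nat.card_eq_of_bijective f ⟨fun x y => ?_, fun K => ?_⟩).symm
  · induction x using Quotient.ind with
    | _ a =>
      induction y using Quotient.ind with
      | _ b =>
        intro hab
        have h : MulAut.conj a • H = MulAut.conj b • H := congrArg Subtype.val hab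
        refine Quotient.sound (QuotientGroup.leftRel_apply.mpr ?_)
        refine Subgroup.mem_normalizer_iff''.mpr fun z => ?_
        have h2 : MulAut.conj (a⁻¹ * b) • H = H := by
          rw [conj_mul_smul, ← h, conj_inv_smul_conj_smul]
        conv_lhs => rw [← h2]
        rw [mem_conj_smul]
  · obtain ⟨g, hg⟩ := subgroup_card_conj hG hmn hH K.2
    exact ⟨Quotient.mk _ g, Subtype.ext hg⟩

theorem hall_count_aux (k : ℕ) :
    ∀ (G : Type u) [Group G] [Finite G] [Group.IsSolvable G], Nat.card G ≤ k →
      ∀ m n : ℕ, Nat.card G = m * n → m.Coprime n →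
        ∃ l : List ℕ, Nat.card {H : Subgroup G // Nat.card H = m} = l.prod ∧
          ∀ f ∈ l, GoodFactor G m f := by
  induction k with
  | zero => intro G _ _ _ h; exact absurd h (not_le.mpr Nat.card_pos)
  | succ k ih =>
    intro G _ _ _ hk m n hG hmn
    obtain ⟨H, hH⟩ := exists_subgroup_card hG hmn
    rw [card_subgroups_eq_index hG hmn hH]
    rcases subsingleton_or_nontrivial G with h | h
    · refine ⟨[], ?_, fun f hf => absurd hf List.not_mem_nil⟩
      rw [List.prod_nil, Subgroup.index_eq_one]
      exact eq_top_iff.mpr fun x _ => Subsingleton.elim 1 x ▸ one_mem _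
    obtain ⟨N, p, hNn, hN, hp, hNp, -, hmin⟩ := exists_minimal_normal_pgroup (G := G)
    have : Fact p.Prime := ⟨hp⟩
    obtain ⟨e, he⟩ := IsPGroup.iff_card.mp hNp
    have hlt := card_quotient_lt N hN
    set f := QuotientGroup.mk' N with hf
    have hsurj : Function.Surjective f := QuotientGroup.mk'_surjective N
    -- the image of `H`
    have hHhall := isPiHall_of_card hG hmn hH
    have hHb := IsPiHall.map hsurj hHhall
    have hm' : Nat.card (H.map f) ∣ m := hH ▸ Subgroup.card_map_dvd H f
    have hcop' : (Nat.card (H.map f)).Coprime (H.map f).index := IsPiHall.coprime hHb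
    obtain ⟨l₁, hl₁, hl₁'⟩ := ih (G ⧸ N) (by omega) (Nat.card (H.map f)) (H.map f).index
      (H.map f).card_mul_index.symm hcop'
    rw [card_subgroups_eq_index (H.map f).card_mul_index.symm hcop' rfl,
      ← Subgroup.index_comap_of_surjective _ hsurj,
      Subgroup.comap_normalizer_eq_of_surjective _ hsurj, hf, comap_map_mk'] at hl₁
    set T := Subgroup.normalizer ((N ⊔ H : Subgroup G) : Set G) with hT
    set NH := Subgroup.normalizer (H : Set G) with hNH
    have hle : NH ≤ T := le_normalizer_of_conj fun x hx => by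
      rw [Subgroup.smul_sup, conj_smul_of_normal, conj_smul_of_le_normalizer le_rfl hx]
    have hpull : ∀ g ∈ l₁, GoodFactor G m g := by
      intro g hg
      obtain ⟨h1, ⟨K, L, hK, hL, hKL, hbet, hd⟩, q, hq, hqd, hqm⟩ := hl₁' g hg
      refine ⟨h1, ⟨K.comap f, L.comap f, hK.comap f, hL.comap f, ?_, fun M hM hKM hML => ?_, ?_⟩,
        q, hq, hqd.trans hm', hqm⟩
      · exact (Subgroup.comap_lt_comap_of_surjective hsurj).mpr hKL
      · have hker : f.ker ≤ M := le_trans (Subgroup.ker_le_comap f K) hKM
        have e1 : (M.map f).comap f = M := Subgroup.comap_map_eq_self hker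
        rcases hbet (M.map f) (hM.map f hsurj)
          (by rw [← Subgroup.map_comap_eq_self_of_surjective hsurj K]; exact Subgroup.map_mono hKM)
          (by rw [← Subgroup.map_comap_eq_self_of_surjective hsurj L]; exact Subgroup.map_mono hML)
          with h | h
        · exact Or.inl (by rw [← e1, h])
        · exact Or.inr (by rw [← e1, h])
      · rw [Subgroup.relIndex_comap, Subgroup.map_comap_eq_self_of_surjective hsurj]
        exact hd
    rw [← Subgroup.relIndex_mul_index hle, hl₁]
    by_cases hpm : p ∣ m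
    · have hNH' : N ≤ H := IsPiHall.normal_le hHhall (by
        rw [he]
        exact isPiNumber_pow_of_prime_mem hp
          (Finset.mem_coe.mpr (Nat.mem_primeFactors.mpr ⟨hp, hpm, hH ▸ Nat.card_pos.ne'⟩)) e)
      refine ⟨l₁, ?_, hpull⟩
      rw [show NH = T from by rw [hT, sup_eq_right.mpr hNH'], Subgroup.relIndex_self, one_mul]
    obtain ⟨l₂, hl₂, hl₂'⟩ := centralizer_factors hp N he _ H le_rfl
      (inferInstance : Group.IsSolvable H) (hH.symm ▸ hpm)
    refine ⟨l₂ ++ l₁, ?_, fun g hg => ?_⟩
    swap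
    · rcases List.mem_append.mp hg with hg | hg
      · obtain ⟨a, q, h1, h2, h3, h4, h5⟩ := hl₂' g hg
        refine ⟨⟨p, a, hp, h1⟩, ⟨⊥, N, inferInstance, hNn, bot_lt_iff_ne_bot.mpr hN,
          fun M hM _ hle' => hmin M hM hle', ?_⟩, q, h3, hH ▸ h4, h5⟩
        rw [Subgroup.relIndex_bot_left, he, h1]
        exact h2
      · exact hpull g hg
    rw [List.prod_append, hl₂]
    congr 1
    -- Frattini: `T = N NH`
    have hcopNH : (Nat.card N).Coprime (Nat.card H) := by
      rw [he, hH]
      exact (hp.coprime_iff_not_dvd.mpr hpm).pow_left e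
    have hTsup : T = N ⊔ NH := by
      refine le_antisymm (fun g hg => ?_) (sup_le ?_ hle)
      · have h1 : N ⊔ MulAut.conj g • H = N ⊔ H := by
          conv_rhs => rw [← conj_smul_of_le_normalizer le_rfl hg]
          rw [Subgroup.smul_sup, conj_smul_of_normal g N]
        obtain ⟨a, ha, hag⟩ := conj_complement_internal (A := N) (H := H)
          (K := MulAut.conj g • H) (Subgroup.normalizer_eq_top (H := N) ▸ le_top) h1.symm
          (card_conj_smul g H) hcopNH (Or.inl inferInstance)
        have h2 : a⁻¹ * g ∈ NH := by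
          refine Subgroup.mem_normalizer_iff''.mpr fun z => ?_
          have e : MulAut.conj (a⁻¹ * g) • H = H := by
            rw [conj_mul_smul, ← hag, conj_inv_smul_conj_smul]
          conv_lhs => rw [← e]
          rw [mem_conj_smul]
        rw [show g = a * (a⁻¹ * g) from by group]
        exact Subgroup.mul_mem_sup ha h2
      · exact (le_sup_left : N ≤ N ⊔ H).trans Subgroup.le_normalizer
    have hrel : NH.relIndex (N ⊔ NH) = NH.relIndex N := by
      exact relIndex_sup_normal N NH
    rw [hTsup, hrel, ← Subgroup.inf_relIndex_right, inf_comm]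
    congr 1
    refine le_antisymm (le_inf inf_le_left fun x hx => ?_)
      (inf_le_inf_left N (Subgroup.centralizer_le_normalizer _))
    rw [Subgroup.mem_centralizer_iff]
    intro z hz
    have h1 : x * z * x⁻¹ * z⁻¹ ∈ N ⊓ H := by
      refine Subgroup.mem_inf.mpr ⟨?_, ?_⟩
      · have := N.mul_mem hx.1 (hNn.conj_mem x⁻¹ (N.inv_mem hx.1) z)
        simpa [mul_assoc] using this
      · exact H.mul_mem ((Subgroup.mem_normalizer_iff.mp hx.2 z).mp hz) (H.inv_mem hz)
    rw [inf_bot_of_coprime hcopNH, Subgroup.mem_bot, mul_inv_eq_one, mul_inv_eq_iff_eq_mul] at h1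
    exact h1.symm

/-- Hall: the number of subgroups of order `m`. -/
theorem hall_count {G : Type*} [Group G] [Finite G] [Group.IsSolvable G] (m n : ℕ)
    (hG : Nat.card G = m * n) (hmn : Nat.Coprime m n) :
    ∃ (k : ℕ) (f : Fin k → ℕ), Nat.card {H : Subgroup G // Nat.card H = m} = ∏ i, f i ∧
      ∀ i, GoodFactor G m (f i) := by
  obtain ⟨l, hl, hl'⟩ := hall_count_aux _ G le_rfl m n hG hmn
  refine ⟨l.length, fun i => l[i], ?_, fun i => hl' _ (List.getElem_mem i.2)⟩
  rw [hl, ← List.prod_ofFn]
  congr 1
  exact List.ofFn_getElem.symm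

end Cfsg.Agent.Hall
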