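import Cfsg.Agent.Hall.CardForms

/-!
`p`-complements as Hall `{q | q ≠ p}`-subgroups.
-/

set_option autoImplicit false

open scoped Pointwise

namespace Cfsg.Agent.Hall

variable {G : Type*} [Group G]

theorem isPiNumber_ne_iff {p n : ℕ} (hp : p.Prime) :
    IsPiNumber {q | q ≠ p} n ↔ n.Coprime p := by
  rw [Nat.coprime_comm, hp.coprime_iff_not_dvd]
  exact ⟨fun h hpn => h p hp hpn rfl, fun h q hq hqn hqp => h (hqp ▸ hqn)⟩

theorem isPiNumber_ne_compl_iff {p n : ℕ} (hp : p.Prime) (hn : n ≠ 0) :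
    IsPiNumber {q | q ≠ p}ᶜ n ↔ ∃ k : ℕ, n = p ^ k := by
  refine ⟨fun h => eq_pow_of_isPiNumber_singleton hn fun q hq hqn => ?_, ?_⟩
  · by_contra hne
    exact h q hq hqn hne
  · rintro ⟨k, rfl⟩
    exact isPiNumber_pow_of_prime_mem hp (fun h => h rfl) k

/-- `H` is a `p`-complement iff it is a Hall `{q | q ≠ p}`-subgroup. -/
theorem isPiHall_ne_iff [Finite G] {p : ℕ} (hp : p.Prime) {H : Subgroup G} :
    Cfsg.IsPiHall {q | q ≠ p} H ↔ (Nat.card H).Coprime p ∧ ∃ k : ℕ, H.index = p ^ k := by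
  rw [isPiHall_iff, isPiNumber_ne_iff hp,
    isPiNumber_ne_compl_iff hp Subgroup.index_ne_zero_of_finite]

theorem isPiHall_ne_of_index_eq [Finite G] {p : ℕ} (hp : p.Prime) {H : Subgroup G}
    (h : H.index = p ^ (Nat.card G).factorization p) : Cfsg.IsPiHall {q | q ≠ p} H := by
  refine (isPiHall_ne_iff hp).mpr ⟨?_, _, h⟩
  have hc := H.card_mul_index
  rw [h] at hc
  rw [Nat.coprime_comm, hp.coprime_iff_not_dvd]
  intro hd
  obtain ⟨t, ht⟩ := hd
  have h1 : p ^ ((Nat.card G).factorization p + 1) ∣ Nat.card G := by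
    exact ⟨t, calc Nat.card G = p * t * p ^ (Nat.card G).factorization p := by rw [← ht, hc]
      _ = p ^ ((Nat.card G).factorization p + 1) * t := by rw [pow_succ]; ring⟩
  exact Nat.pow_succ_factorization_not_dvd Nat.card_pos.ne' hp h1

end Cfsg.Agent.Hall
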