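import Cfsg.Agent.Hall.WielandtFull
import Cfsg.Agent.Hall.Existence
import Cfsg.Agent.Hall.FocalIterate
import Cfsg.Agent.Hall.PComplement
import Cfsg.Agent.S0132

/-!
A Hall π-subgroup with a nilpotent σ-factor, τ = π∖σ: `D_τ` implies `D_π`.
-/

set_option autoImplicit false

open scoped Pointwise

namespace Cfsg.Agent.Hall

variable {G : Type*} [Group G] [Finite G] {σ τ π : Set ℕ} {H Hs Ht : Subgroup G}

theorem inf_eq_bot_of_disjoint (hd : Disjoint σ τ) {A B : Subgroup G}
    (hA : IsPiNumber σ (Nat.card A)) (hB : IsPiNumber τ (Nat.card B)) : A ⊓ B = ⊥ :=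
  inf_bot_of_coprime (Nat.coprime_of_dvd fun p hp ha hb =>
    Set.disjoint_left.mp hd (hA p hp ha) (hB p hp hb))

/-- Both factors are Hall subgroups. -/
theorem isPiHall_factors (hπ : π = σ ∪ τ) (hd : Disjoint σ τ) (hH : Cfsg.IsPiHall π H)
    (hs : IsPiNumber σ (Nat.card Hs)) (ht : IsPiNumber τ (Nat.card Ht))
    (hjoin : Hs ⊔ Ht = H) (hcomm : ∀ a ∈ Hs, ∀ b ∈ Ht, a * b = b * a) :
    Cfsg.IsPiHall σ Hs ∧ Cfsg.IsPiHall τ Ht := by
  have hcard : Nat.card H = Nat.card Hs * Nat.card Ht := by
    have hn : Hs ≤ Subgroup.normalizer (Ht : Set G) := fun a ha =>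
      Subgroup.centralizer_le_normalizer _
        (Subgroup.mem_centralizer_iff.mpr fun b hb => (hcomm a ha b hb).symm)
    have hnt : H ≤ Subgroup.normalizer (Ht : Set G) := hjoin ▸ sup_le hn Subgroup.le_normalizer
    have hle : Ht ≤ H := hjoin ▸ le_sup_right
    have hsle : Hs ≤ H := hjoin ▸ le_sup_left
    have : (Ht.subgroupOf H).Normal := (Subgroup.normal_subgroupOf_iff_le_normalizer hle).mpr hnt
    have h1 := card_sup_mul_card_inf (Ht.subgroupOf H) (Hs.subgroupOf H)
    rw [← Subgroup.subgroupOf_sup hle hsle, sup_comm, hjoin, Subgroup.subgroupOf_self,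
      Subgroup.card_top, card_subgroupOf_of_le hle, card_subgroupOf_of_le hsle] at h1
    have h2 : Ht.subgroupOf H ⊓ Hs.subgroupOf H = ⊥ := inf_bot_of_coprime (by
      rw [card_subgroupOf_of_le hle, card_subgroupOf_of_le hsle]
      exact Nat.coprime_of_dvd fun p hp ha hb =>
        Set.disjoint_left.mp hd (hs p hp hb) (ht p hp ha))
    rw [h2, Subgroup.card_bot, mul_one, mul_comm] at h1
    exact h1
  have hidx : ∀ (ρ : Set ℕ) (A B : Subgroup G), ρ ⊆ π → IsPiNumber ρ (Nat.card A) →
      IsPiNumber ρᶜ (Nat.card B) → Nat.card H = Nat.card A * Nat.card B →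
      Cfsg.IsPiHall ρ A := by
    intro ρ A B hρ hA hB hc
    refine IsPiHall.mk hA ?_
    have h1 := A.card_mul_index
    rw [← H.card_mul_index, hc, mul_assoc] at h1
    rw [Nat.eq_of_mul_eq_mul_left Nat.card_pos h1]
    exact hB.mul ((IsPiHall.isPiNumber_index hH).mono (Set.compl_subset_compl.mpr hρ))
  exact ⟨hidx σ Hs Ht (hπ ▸ Set.subset_union_left) hs
      (ht.mono fun p hp hp' => Set.disjoint_left.mp hd hp' hp) hcard,
    hidx τ Ht Hs (hπ ▸ Set.subset_union_right) ht
      (hs.mono fun p hp hp' => Set.disjoint_left.mp hd hp hp') (by rw [hcard, mul_comm])⟩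

/-- A conjugated element of `Hs` commutes with the coprime-order elements of the conjugate of `H`. -/
theorem commute_of_mem_conj (hd : Disjoint σ τ) (hs : IsPiNumber σ (Nat.card Hs))
    (ht : IsPiNumber τ (Nat.card Ht)) (hsn : Group.IsNilpotent Hs)
    (hjoin : Hs ⊔ Ht = H) (hcomm : ∀ a ∈ Hs, ∀ b ∈ Ht, a * b = b * a) {y x : G}
    (hy : y ∈ Hs) (hx : x ∈ H) (hcop : (orderOf y).Coprime (orderOf x)) : y * x = x * y := by
  have hn : Hs ≤ Subgroup.normalizer (Ht : Set G) := fun a ha =>
    Subgroup.centralizer_le_normalizer _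
      (Subgroup.mem_centralizer_iff.mpr fun b hb => (hcomm a ha b hb).symm)
  have hx' : x ∈ ((Hs ⊔ Ht : Subgroup G) : Set G) := by rw [hjoin]; exact hx
  rw [Subgroup.coe_mul_of_left_le_normalizer_right Hs Ht hn] at hx'
  obtain ⟨s, hs', t, ht', rfl⟩ := hx'
  have hc : Commute s t := hcomm s hs' t ht'
  have hpow := pow_orderOf_eq_one (s * t)
  rw [hc.mul_pow] at hpow
  have hmem : s ^ orderOf (s * t) ∈ Hs ⊓ Ht :=
    Subgroup.mem_inf.mpr ⟨Subgroup.pow_mem _ hs' _, by
      rw [eq_inv_of_mul_eq_one_left hpow]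
      exact Subgroup.inv_mem _ (Subgroup.pow_mem _ ht' _)⟩
  rw [inf_eq_bot_of_disjoint hd hs ht, Subgroup.mem_bot] at hmem
  have := hsn
  have h1 : Commute y s := congrArg Subtype.val (H31.commute_of_coprime_orderOf
    (x := (⟨y, hy⟩ : Hs)) (y := ⟨s, hs'⟩) (by
      rw [Subgroup.orderOf_mk, Subgroup.orderOf_mk]
      exact hcop.coprime_dvd_right (orderOf_dvd_of_pow_eq_one hmem)))
  exact h1.mul_right (hcomm y hy t ht')

/-- Every π-subgroup has a normal `p`-complement for the primes of σ. -/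
theorem hasNormalPComplement_of_factor (hπ : π = σ ∪ τ) (hd : Disjoint σ τ)
    (hH : Cfsg.IsPiHall π H) (hs : IsPiNumber σ (Nat.card Hs))
    (ht : IsPiNumber τ (Nat.card Ht)) (hsn : Group.IsNilpotent Hs)
    (hjoin : Hs ⊔ Ht = H) (hcomm : ∀ a ∈ Hs, ∀ b ∈ Ht, a * b = b * a)
    {p : ℕ} [Fact p.Prime] (hp : p ∈ σ) (n : ℕ) :
    ∀ K : Subgroup G, IsPiNumber π (Nat.card K) → Nat.card K ≤ n →
      Cfsg.HasNormalPComplement p K := by
  induction n with
  | zero => intro K _ h; exact absurd h (not_le.mpr Nat.card_pos)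
  | succ n ih =>
    intro K hK hn
    by_contra hno
    have hsub : ∀ L : Subgroup K, L ≠ ⊤ → Cfsg.HasNormalPComplement p L := by
      intro L hL
      have hc : Nat.card L < Nat.card K :=
        lt_of_le_of_ne L.card_le_card_group fun he => hL (L.eq_top_of_card_eq he)
      exact Fusion.hasNormalPComplement_of_injective (ih (L.map K.subtype)
        (isPiNumber_card_mono (Subgroup.map_subtype_le L) hK)
        (by rw [Subgroup.card_map_of_injective K.subtype_injective]; omega))
        (L.equivMapOfInjective _ K.subtype_injective).toMonoidHom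
        (L.equivMapOfInjective _ K.subtype_injective).injective
    obtain ⟨-, -, hnorm⟩ := S0132.result hno hsub
    obtain ⟨P⟩ := (inferInstance : Nonempty (Sylow p K))
    have hPn := hnorm P
    obtain ⟨C, hC⟩ := Subgroup.exists_right_complement'_of_coprime P.card_coprime_index
    refine hno ⟨P, C, ?_, hC.symm⟩
    -- `P` lies in a conjugate of `Hs`, and `C` centralises it
    set P' := (P : Subgroup K).map K.subtype with hP'
    have hP'p : IsPGroup p P' := P.2.map _
    have hHs := (isPiHall_factors hπ hd hH hs ht hjoin hcomm).1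
    obtain ⟨a, ha⟩ := le_conj_of_nilpotent (K := P') hsn (IsPiHall.coprime hHs) hP'p.isNilpotent
      (fun q hq hqd => by
        obtain ⟨k, hk⟩ := IsPGroup.iff_card.mp hP'p
        have hqp : q = p :=
          (Nat.prime_dvd_prime_iff_eq hq Fact.out).mp (hq.dvd_of_dvd_pow (hk ▸ hqd))
        have h1 := hqd.trans P'.card_subgroup_dvd_card
        rw [← Hs.card_mul_index, hq.dvd_mul] at h1
        exact h1.resolve_right fun h2 => IsPiHall.isPiNumber_index hHs q hq h2 (hqp ▸ hp))
    set T := Subgroup.normalizer (P' : Set G)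
    set Z := Subgroup.centralizer (P' : Set G)
    have hZT : Z ≤ T := Subgroup.centralizer_le_normalizer _
    have hidx : ∀ q : ℕ, q.Prime → q ∈ π → q ≠ p → ¬ q ∣ Z.index := by
      intro q hq hqπ hqp hdvd
      have : Fact q.Prime := ⟨hq⟩
      obtain ⟨S⟩ := (inferInstance : Nonempty (Sylow q (MulAut.conj a • H : Subgroup G)))
      have hle : (S : Subgroup _).map (MulAut.conj a • H : Subgroup G).subtype ≤ Z := by
        rintro _ ⟨x, hx, rfl⟩
        refine Subgroup.mem_centralizer_iff.mpr fun y hy => ?_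
        have hy' := mem_conj_smul.mp (ha hy)
        have hx' := mem_conj_smul.mp x.2
        have h := commute_of_mem_conj hd hs ht hsn hjoin hcomm hy' hx' (by
          obtain ⟨i, hi⟩ := IsPGroup.iff_orderOf.mp hP'p ⟨y, hy⟩
          obtain ⟨j, hj⟩ := IsPGroup.iff_orderOf.mp S.2 ⟨x, hx⟩
          rw [Subgroup.orderOf_mk] at hi
          rw [Subgroup.orderOf_mk, ← Subgroup.orderOf_coe] at hj
          have e : ∀ z : G, orderOf (a⁻¹ * z * a) = orderOf z := fun z => by
            rw [← MulEquiv.orderOf_eq (MulAut.conj a⁻¹) z]; simp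
          rw [e, e, hi, hj]
          exact Nat.Coprime.pow _ _ ((Nat.coprime_primes Fact.out hq).mpr (Ne.symm hqp)))
        have e2 : ∀ u v : G, a * ((a⁻¹ * u * a) * (a⁻¹ * v * a)) * a⁻¹ = u * v := fun u v => by
          group
        change y * (x : G) = x * y
        rw [← e2 y x, h, e2]
      have h1 := hdvd.trans (Subgroup.index_dvd_of_le hle)
      rw [Subgroup.index_map_subtype, hq.dvd_mul, index_conj_smul] at h1
      exact h1.elim S.not_dvd_index fun h2 => IsPiHall.isPiNumber_index hH q hq h2 hqπ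
    have hZn : (Z.subgroupOf T).Normal :=
      Subgroup.normal_subgroupOf_centralizer_normalizer _
    have hCP : ∀ c ∈ C, ∀ u ∈ (P : Subgroup K), u * c = c * u := by
      intro c hc u hu
      have hcT : (c : G) ∈ T := by
        have h1 : (c : K) ∈ Subgroup.normalizer ((P : Subgroup K) : Set K) :=
          (Subgroup.normalizer_eq_top_iff.mpr hPn).symm ▸ Subgroup.mem_top _
        exact Subgroup.le_normalizer_map K.subtype ⟨_, h1, rfl⟩
      have hmem := mem_of_coprime_index (Z.subgroupOf T) (x := ⟨(c : G), hcT⟩) (by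
        rw [Subgroup.orderOf_mk, Subgroup.orderOf_coe]
        refine Nat.coprime_of_dvd fun q hq hqc hqi => ?_
        have h1 : q ∣ Nat.card K := hqc.trans (orderOf_dvd_natCard _)
        refine hidx q hq (hK q hq h1) (fun e => ?_) (hqi.trans (Subgroup.relIndex_dvd_index_of_le hZT))
        refine P.not_dvd_index ?_
        rw [hC.symm.index_eq_card, ← e]
        exact hqc.trans (C.orderOf_dvd_natCard hc))
      exact Subtype.ext (Subgroup.mem_centralizer_iff.mp (Subgroup.mem_subgroupOf.mp hmem) _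
        (Subgroup.mem_map_of_mem K.subtype hu))
    rw [← Subgroup.normalizer_eq_top_iff, eq_top_iff, ← hC.sup_eq_top]
    refine sup_le (fun u hu => Subgroup.centralizer_le_normalizer _ ?_) Subgroup.le_normalizer
    exact Subgroup.mem_centralizer_iff.mpr fun c hc => (hCP c hc u hu).symm

/-- The join of the `p`-complements: a normal Hall τ-subgroup of every π-subgroup. -/
theorem exists_normal_tau_hall (hπ : π = σ ∪ τ) (hd : Disjoint σ τ)
    (K : Subgroup G) (hK : IsPiNumber π (Nat.card K))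
    (h : ∀ p : ℕ, p.Prime → p ∈ σ → Cfsg.HasNormalPComplement p K) :
    ∃ N : Subgroup K, N.Normal ∧ Cfsg.IsPiHall τ N := by
  choose P M hM hC using h
  let N : Subgroup K := ⨅ (p : ℕ) (hp : p.Prime) (hs : p ∈ σ),
    M p hp hs
  have hNn : N.Normal := by
    refine ⟨fun x hx g => ?_⟩
    simp only [N, Subgroup.mem_iInf] at hx ⊢
    exact fun p hp hs => (hM p hp hs).conj_mem x (hx p hp hs) g
  refine ⟨N, hNn, IsPiHall.mk (fun q hq hqd => ?_) (fun q hq hqd hqτ => ?_)⟩
  · have h1 : q ∈ π := hK q hq (hqd.trans N.card_subgroup_dvd_card)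
    rw [hπ] at h1
    refine h1.resolve_left fun hqσ => ?_
    have hle : N ≤ M q hq hqσ := iInf_le_of_le q (iInf_le_of_le hq (iInf_le _ hqσ))
    have : Fact q.Prime := ⟨hq⟩
    have h2 := hqd.trans (Subgroup.card_dvd_of_le hle)
    rw [← (hC q hq hqσ).index_eq_card] at h2
    exact (P q hq hqσ).not_dvd_index h2
  · have : Fact q.Prime := ⟨hq⟩
    obtain ⟨S⟩ := (inferInstance : Nonempty (Sylow q K))
    refine S.not_dvd_index (hqd.trans (Subgroup.index_dvd_of_le ?_))
    intro x hx
    simp only [N, Subgroup.mem_iInf]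
    intro p hp hs
    have := hM p hp hs
    have : Fact p.Prime := ⟨hp⟩
    refine mem_of_coprime_index (M p hp hs) ?_
    obtain ⟨j, hj⟩ := IsPGroup.iff_orderOf.mp S.2 ⟨x, hx⟩
    obtain ⟨i, hi⟩ := IsPGroup.iff_card.mp (P p hp hs).2
    rw [Subgroup.orderOf_mk] at hj
    rw [hj, (hC p hp hs).symm.index_eq_card, hi]
    exact Nat.Coprime.pow _ _ ((Nat.coprime_primes hq hp).mpr fun e =>
      Set.disjoint_left.mp hd (e ▸ hs) hqτ)

theorem hallDom_of_nilpotent_factor (hπ : π = σ ∪ τ) (hd : Disjoint σ τ)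
    (hH : Cfsg.IsPiHall π H) (hs : IsPiNumber σ (Nat.card Hs))
    (ht : IsPiNumber τ (Nat.card Ht)) (hsn : Group.IsNilpotent Hs)
    (hjoin : Hs ⊔ Ht = H) (hcomm : ∀ a ∈ Hs, ∀ b ∈ Ht, a * b = b * a)
    (hD : Cfsg.IsDPiGroup τ G) : HallDom π G := by
  obtain ⟨hHs, hHt⟩ := isPiHall_factors hπ hd hH hs ht hjoin hcomm
  have hcont : ∀ K : Subgroup G, IsPiNumber π (Nat.card K) → ∃ g : G, K ≤ MulAut.conj g • H := by
    intro K hK
    obtain ⟨N, hN, hNh⟩ := exists_normal_tau_hall hπ hd K hK (fun p hp hpσ => by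
      have : Fact p.Prime := ⟨hp⟩
      exact hasNormalPComplement_of_factor hπ hd hH hs ht hsn hjoin hcomm hpσ _ K hK le_rfl)
    obtain ⟨C, hC⟩ := Subgroup.exists_right_complement'_of_coprime (IsPiHall.coprime hNh)
    set N' := N.map K.subtype with hN'
    have hN'τ : IsPiNumber τ (Nat.card N') := by
      rw [hN', Subgroup.card_map_of_injective K.subtype_injective]
      exact IsPiHall.isPiNumber_card hNh
    obtain ⟨U, hNU, hU⟩ := Finite.exists_le_maximal (p := Cfsg.IsPiSubgroup τ) (a := N') hN'τ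
    have hHtmax : Maximal (Cfsg.IsPiSubgroup τ) Ht :=
      ⟨ht, fun L hL hle => (IsPiHall.eq_of_le hHt hle hL).ge⟩
    obtain ⟨a, rfl⟩ := hD Ht U hHtmax hU
    rw [map_conj_eq_smul] at hNU
    set T := Subgroup.normalizer (N' : Set G)
    have hsT : MulAut.conj a • Hs ≤ T := fun x hx => Subgroup.centralizer_le_normalizer _
      (Subgroup.mem_centralizer_iff.mpr fun y hy => by
        have h := hcomm _ (mem_conj_smul.mp hx) _ (mem_conj_smul.mp (hNU hy))
        have e2 : ∀ u v : G, a * ((a⁻¹ * u * a) * (a⁻¹ * v * a)) * a⁻¹ = u * v := fun u v => by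
          group
        rw [← e2 y x, ← h, e2])
    have hCT : C.map K.subtype ≤ T := by
      refine (Subgroup.map_subtype_le C).trans fun k hk => ?_
      have h1 : (⟨k, hk⟩ : K) ∈ Subgroup.normalizer (N : Set K) :=
        (Subgroup.normalizer_eq_top_iff.mpr hN).symm ▸ Subgroup.mem_top _
      exact Subgroup.le_normalizer_map K.subtype ⟨_, h1, rfl⟩
    obtain ⟨t, ht'⟩ := le_conj_of_nilpotent_hall (G := T)
      (H := (MulAut.conj a • Hs).subgroupOf T) (K := (C.map K.subtype).subgroupOf T)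
      (Group.nilpotent_of_mulEquiv (_h := isNilpotent_conj_smul a hsn)
        (Subgroup.subgroupOfEquivOfLe hsT).symm)
      (by
        rw [card_subgroupOf_of_le hsT]
        exact (IsPiHall.coprime (IsPiHall.conj a hHs)).coprime_dvd_right
          (Subgroup.relIndex_dvd_index_of_le hsT))
      (fun q hq hqd => by
        rw [card_subgroupOf_of_le hCT, Subgroup.card_map_of_injective K.subtype_injective] at hqd
        rw [card_subgroupOf_of_le hsT, card_conj_smul]
        have hqK := hqd.trans C.card_subgroup_dvd_card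
        have hqσ : q ∈ σ := by
          have h1 := hK q hq hqK
          rw [hπ] at h1
          refine h1.resolve_right fun hqτ => IsPiHall.isPiNumber_index hNh q hq ?_ hqτ
          rwa [hC.symm.index_eq_card]
        have h1 := hqK.trans K.card_subgroup_dvd_card
        rw [← Hs.card_mul_index, hq.dvd_mul] at h1
        exact h1.resolve_right fun h2 => IsPiHall.isPiNumber_index hHs q hq h2 hqσ)
    refine ⟨(t : G) * a, ?_⟩
    have hKsup : N' ⊔ C.map K.subtype = K := by
      rw [hN', ← Subgroup.map_sup, hC.sup_eq_top, ← MonoidHom.range_eq_map, Subgroup.range_subtype]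
    rw [← hKsup, conj_mul_smul]
    refine sup_le ?_ ?_
    · rw [← conj_smul_of_le_normalizer le_rfl t.2]
      exact conj_smul_mono _ (hNU.trans (conj_smul_mono a (hjoin ▸ le_sup_right)))
    · have h := Subgroup.map_mono (f := T.subtype) ht'
      rw [map_conj_smul, Subgroup.map_subgroupOf_eq_of_le hCT,
        Subgroup.map_subgroupOf_eq_of_le hsT] at h
      exact h.trans (conj_smul_mono _ (conj_smul_mono a (hjoin ▸ le_sup_left)))
  refine ⟨⟨H, hH⟩, fun H' U hH' hU => ?_⟩
  obtain ⟨b, hb⟩ := hcont H' (IsPiHall.isPiNumber_card hH')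
  obtain ⟨g, hg⟩ := hcont U hU
  have he := IsPiHall.eq_of_le hH' hb (IsPiHall.isPiNumber_card (IsPiHall.conj b hH))
  refine ⟨g * b⁻¹, ?_⟩
  rw [he, conj_mul_smul, conj_inv_smul_conj_smul]
  exact hg

end Cfsg.Agent.Hall
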