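import Cfsg.Agent.Hall.Existence
import Cfsg.Agent.Hall.CardForms

/-!
Solutions of `x ^ n = 1` in finite solvable groups.
-/

set_option autoImplicit false

open scoped Pointwise

namespace Cfsg.Agent.Hall

universe u

/-- The solutions of `x ^ n = 1`. -/
def powSol (G : Type u) [Monoid G] (n : ℕ) : Set G := {x | x ^ n = 1}

theorem powSol_main (k : ℕ) :
    ∀ (G : Type u) [Group G] [Finite G] [Group.IsSolvable G], Nat.card G ≤ k →
      ∀ n : ℕ, n ∣ Nat.card G → n ≤ (powSol G n).ncard ∧
        ((powSol G n).ncard = n → ∃ H : Subgroup G, (H : Set G) = powSol G n) := by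
  induction k with
  | zero => intro G _ _ _ h; exact absurd h (not_le.mpr Nat.card_pos)
  | succ k ih =>
    intro G _ _ _ hk n hn
    rcases subsingleton_or_nontrivial G with h | h
    · have hn1 : n = 1 := by rw [Nat.card_unique] at hn; exact Nat.dvd_one.mp hn
      subst hn1
      have hS : powSol G 1 = Set.univ := Set.eq_univ_of_forall fun x => Subsingleton.elim _ _
      rw [hS, Set.ncard_univ, Nat.card_unique]
      exact ⟨le_rfl, fun _ => ⟨⊤, rfl⟩⟩
    obtain ⟨N, hNn, hN, -, hmin⟩ := exists_minimal_normal_le (⊤ : Subgroup G) top_ne_bot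
    obtain ⟨-, p, hp, hNp, hNexp⟩ := minimal_normal_of_solvable hN hmin
    have : Fact p.Prime := ⟨hp⟩
    obtain ⟨e, he⟩ := IsPGroup.iff_card.mp hNp
    have hlt := card_quotient_lt N hN
    set f := QuotientGroup.mk' N with hf
    have hsurj : Function.Surjective f := QuotientGroup.mk'_surjective N
    have hcardG : Nat.card G = Nat.card (G ⧸ N) * p ^ e := by
      rw [← he]; exact Subgroup.card_eq_card_quotient_mul_card_subgroup N
    have hIH := ih (G ⧸ N) (by omega)
    -- size of a preimage
    have hpre : ∀ T : Set (G ⧸ N), (f ⁻¹' T).ncard = T.ncard * p ^ e := by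
      intro T
      rw [← he, ← Nat.card_coe_set_eq, ← Nat.card_coe_set_eq, mul_comm, ← Nat.card_prod]
      exact Nat.card_congr (QuotientGroup.preimageMkEquivSubgroupProdSet N T)
    -- exponent `p` on `N`
    have hexp : ∀ x ∈ N, x ^ p ^ e = 1 := fun x hx => by
      rw [← orderOf_dvd_iff_pow_eq_one, ← he]; exact N.orderOf_dvd_natCard hx
    obtain ⟨c, m, hpm, hnm⟩ : ∃ c m : ℕ, ¬ p ∣ m ∧ n = p ^ c * m :=
      ⟨_, _, Nat.not_dvd_ordCompl hp (Nat.pos_of_dvd_of_pos hn Nat.card_pos).ne',
        (Nat.ordProj_mul_ordCompl_eq_self n p).symm⟩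
    have hmq : m ∣ Nat.card (G ⧸ N) :=
      ((hp.coprime_iff_not_dvd.mpr hpm).symm.pow_right e).dvd_of_dvd_mul_right
        (hcardG ▸ (Dvd.intro_left _ hnm.symm).trans hn)
    rcases Nat.eq_zero_or_pos c with hc | hc
    · -- `p` does not divide `n`
      rw [hc, pow_zero, one_mul] at hnm
      subst hnm
      have himg : powSol (G ⧸ N) n ⊆ f '' powSol G n := by
        intro y hy
        obtain ⟨g, rfl⟩ := hsurj y
        have hd : orderOf (f g) ∣ n := orderOf_dvd_of_pow_eq_one hy
        obtain ⟨s, hs⟩ : ∃ s, p ^ e * s ≡ 1 [MOD n] := by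
          obtain ⟨z, hz1, hz2⟩ := Nat.chineseRemainder ((hp.coprime_iff_not_dvd.mpr hpm).pow_left e) 0 1
          obtain ⟨s, rfl⟩ := Nat.modEq_zero_iff_dvd.mp hz1
          exact ⟨s, hz2⟩
        refine ⟨(g ^ p ^ e) ^ s, ?_, ?_⟩
        · change ((g ^ p ^ e) ^ s) ^ n = 1
          have h1 : g ^ n ∈ N := (QuotientGroup.eq_one_iff _).mp (by
            rw [← QuotientGroup.mk'_apply, map_pow]; exact hy)
          rw [← pow_mul, ← pow_mul, show p ^ e * (s * n) = n * (p ^ e * s) from by ring, pow_mul,
            pow_mul, hexp _ h1, one_pow]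
        · rw [← pow_mul, map_pow]
          conv_rhs => rw [← pow_one (f g)]
          exact pow_eq_pow_iff_modEq.mpr (hs.of_dvd hd)
      obtain ⟨h1, h2⟩ := hIH n hmq
      have h3 := (Set.ncard_le_ncard himg (Set.toFinite _)).trans
        (Set.ncard_image_le (f := f) (Set.toFinite (powSol G n)))
      refine ⟨h1.trans h3, fun hcnt => ?_⟩
      obtain ⟨Hb, hHb⟩ := h2 (le_antisymm (h3.trans hcnt.le) h1)
      have hHbc : Nat.card Hb = n := by
        rw [← SetLike.coe_sort_coe, Nat.card_coe_set_eq, hHb]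
        exact le_antisymm (h3.trans hcnt.le) h1
      set L := Hb.comap f with hL
      have hNL : N ≤ L := fun x hx => by
        rw [hL, Subgroup.mem_comap, hf, QuotientGroup.mk'_apply, (QuotientGroup.eq_one_iff x).mpr hx]
        exact one_mem _
      have hLc : n * p ^ e = Nat.card L := by
        rw [← card_map_mk'_mul N L hNL, ← he, Subgroup.map_comap_eq_self_of_surjective hsurj, hHbc]
      have hcop : (Nat.card (N.subgroupOf L)).Coprime (N.subgroupOf L).index := by
        have h := (N.subgroupOf L).card_mul_index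
        rw [card_subgroupOf_of_le hNL, ← hLc, he, mul_comm n] at h
        rw [card_subgroupOf_of_le hNL, Nat.eq_of_mul_eq_mul_left (pow_pos hp.pos e) h, he]
        exact (hp.coprime_iff_not_dvd.mpr hpm).pow_left e
      obtain ⟨K, hK⟩ := Subgroup.exists_right_complement'_of_coprime hcop
      have hKc : Nat.card K = n := by
        have h := hK.card_mul_card
        rw [card_subgroupOf_of_le hNL, ← hLc, he, mul_comm n] at h
        exact Nat.eq_of_mul_eq_mul_left (pow_pos hp.pos e) h
      refine ⟨K.map L.subtype, Set.eq_of_subset_of_ncard_le ?_ ?_ (Set.toFinite _)⟩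
      · rintro _ ⟨x, hx, rfl⟩
        change (x : G) ^ n = 1
        have h := K.orderOf_dvd_natCard hx
        rw [hKc, orderOf_dvd_iff_pow_eq_one] at h
        simpa using congrArg Subtype.val h
      · rw [hcnt, ← Nat.card_coe_set_eq, SetLike.coe_sort_coe,
          Subgroup.card_map_of_injective L.subtype_injective, hKc]
    · -- `p` divides `n`
      have hcase : ∀ d : ℕ, d ∣ Nat.card (G ⧸ N) → d * p ∣ n →
          f ⁻¹' powSol (G ⧸ N) d ⊆ powSol G n := by
        intro d _ hdn x hx
        change x ^ n = 1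
        obtain ⟨t, ht⟩ := hdn
        have h1 : x ^ d ∈ N := (QuotientGroup.eq_one_iff _).mp (by
          rw [← QuotientGroup.mk'_apply, map_pow]; exact hx)
        have h2 : (x ^ d) ^ p = 1 := hNexp _ h1
        rw [ht, pow_mul, pow_mul, h2, one_pow]
      by_cases hec : e ≤ c
      · obtain ⟨j, rfl⟩ : ∃ j, c = e + j := ⟨c - e, by omega⟩
        have hn' : p ^ j * m ∣ Nat.card (G ⧸ N) := by
          refine Nat.dvd_of_mul_dvd_mul_right (pow_pos hp.pos e) ?_
          rw [← hcardG]
          calc p ^ j * m * p ^ e = n := by rw [hnm, pow_add]; ring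
            _ ∣ Nat.card G := hn
        have he0 : e ≠ 0 := fun h0 => hN (Subgroup.card_eq_one.mp (by rw [he, h0, pow_zero]))
        have hdn : p ^ j * m * p ∣ n := by
          rw [hnm, pow_add]
          refine ⟨p ^ (e - 1), ?_⟩
          obtain ⟨e', rfl⟩ : ∃ e', e = e' + 1 := ⟨e - 1, by omega⟩
          rw [Nat.add_sub_cancel, pow_succ]; ring
        have hsub := hcase _ hn' hdn
        obtain ⟨h1, h2⟩ := hIH _ hn'
        have h3 := Set.ncard_le_ncard hsub (Set.toFinite _)
        rw [hpre] at h3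
        have hn2 : n = p ^ j * m * p ^ e := by rw [hnm, pow_add]; ring
        have h4 : n ≤ (powSol (G ⧸ N) (p ^ j * m)).ncard * p ^ e := by
          rw [hn2]; exact Nat.mul_le_mul_right _ h1
        refine ⟨h4.trans h3, fun hcnt => ?_⟩
        have h5 : (powSol (G ⧸ N) (p ^ j * m)).ncard = p ^ j * m :=
          Nat.eq_of_mul_eq_mul_right (pow_pos hp.pos e) (le_antisymm (hn2 ▸ hcnt ▸ h3) (hn2 ▸ h4))
        obtain ⟨Hb, hHb⟩ := h2 h5
        refine ⟨Hb.comap f, ?_⟩
        rw [Subgroup.coe_comap, hHb]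
        exact Set.eq_of_subset_of_ncard_le hsub (by rw [hpre, h5, hcnt, ← hn2]) (Set.toFinite _)
      · -- `p`-part of `n` smaller than `N`
        have hdn : m * p ∣ n := by
          rw [hnm, mul_comm m p]
          exact Nat.mul_dvd_mul_right (dvd_pow_self p (by omega)) m
        have h3 := Set.ncard_le_ncard (hcase m hmq hdn) (Set.toFinite _)
        rw [hpre] at h3
        have hlt' : n < m * p ^ e := by
          rw [hnm, mul_comm m]
          exact Nat.mul_lt_mul_of_pos_right (Nat.pow_lt_pow_right hp.one_lt (by omega))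
            (Nat.pos_of_ne_zero fun h0 => hpm (h0 ▸ dvd_zero p))
        have h4 : m * p ^ e ≤ (powSol (G ⧸ N) m).ncard * p ^ e :=
          Nat.mul_le_mul_right _ (hIH m hmq).1
        exact ⟨by omega, fun hcnt => by omega⟩

/-- Exactly `n` solutions of `x ^ n = 1` form a normal subgroup. -/
theorem exists_normal_powSol {G : Type*} [Group G] [Finite G] [Group.IsSolvable G] (n : ℕ)
    (hn : n ∣ Nat.card G) (hcount : Nat.card {x : G // x ^ n = 1} = n) :
    ∃ H : Subgroup G, H.Normal ∧ (H : Set G) = {x : G | x ^ n = 1} := by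
  obtain ⟨H, hH⟩ := (powSol_main _ G le_rfl n hn).2 (by
    rw [← Nat.card_coe_set_eq]; exact hcount)
  refine ⟨H, ⟨fun x hx g => ?_⟩, hH⟩
  have hx' : x ^ n = 1 := by
    have : x ∈ (H : Set G) := hx
    rw [hH] at this
    exact this
  change g * x * g⁻¹ ∈ (H : Set G)
  rw [hH]
  change (g * x * g⁻¹) ^ n = 1
  rw [conj_pow, hx', mul_one, mul_inv_cancel]

end Cfsg.Agent.Hall
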