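import Cfsg.Agent.Hall.Basic
import Cfsg.Agent.H30.CoreFree
import Cfsg.Agent.H61.CharP
import Cfsg.Agent.H58.AmalgamCharP

/-!
A core-free maximal subgroup and a nontrivial `p`-core.
-/

set_option autoImplicit false

open scoped Pointwise

namespace Cfsg.Agent.Hall

variable {G : Type*} [Group G] [Finite G]

theorem pCore_corefree_structure (p : ℕ) [Fact p.Prime] (hL : Cfsg.pCore p G ≠ ⊥) {M : Subgroup G}
    (hM : IsCoatom M) (hcore : M.normalCore = ⊥) :
    Cfsg.IsElementaryAbelian p (Cfsg.pCore p G) ∧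
      Subgroup.IsComplement' (Cfsg.pCore p G) M ∧
      (∀ K : Subgroup G, K.Normal → K ≤ Cfsg.pCore p G → K = ⊥ ∨ K = Cfsg.pCore p G) ∧
      Subgroup.centralizer ((Cfsg.pCore p G : Subgroup G) : Set G) = Cfsg.pCore p G ∧
      ∀ (q : ℕ) [Fact q.Prime], Cfsg.pCore q ↥M ≠ ⊥ →
        Nat.card (Cfsg.pCore p G) % q = 1 % q ∧ q ≠ p := by
  set L := Cfsg.pCore p G with hLdef
  have hLn : L.Normal := H58.pCore_normal
  have hLp : IsPGroup p L := H61.isPGroup_pCore
  set C := Subgroup.centralizer (L : Set G) with hC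
  -- the centre of `L`
  have : Nontrivial L := L.nontrivial_iff_ne_bot.mpr hL
  set Z := (Subgroup.center L).map L.subtype with hZ
  have hZL : Z ≤ L := Subgroup.map_subtype_le _
  have hZne : Z ≠ ⊥ := fun h => by
    have h1 := hLp.center_nontrivial
    rw [hZ, Subgroup.map_eq_bot_iff_of_injective _ L.subtype_injective] at h
    exact (Subgroup.nontrivial_iff_ne_bot _).mp h1 h
  have hZn : Z.Normal := inferInstance
  have hZC : Z ≤ C := by
    rintro _ ⟨z, hz, rfl⟩
    exact Subgroup.mem_centralizer_iff.mpr fun x hx =>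
      congrArg Subtype.val (Subgroup.mem_center_iff.mp hz ⟨x, hx⟩)
  have hLCZ : L ≤ Subgroup.centralizer (Z : Set G) := fun x hx =>
    Subgroup.mem_centralizer_iff.mpr fun z hz => ((Subgroup.mem_centralizer_iff.mp (hZC hz)) x hx).symm
  have e1 : L = Subgroup.centralizer (Z : Set G) :=
    (H30.centralizer_minimal hM hcore hZne hLn hLCZ).resolve_left hL
  have e2 : Z = L := by
    rw [e1]
    exact (H30.centralizer_minimal hM hcore hZne hZn (hZL.trans hLCZ)).resolve_left hZne
  have hLC : C = L := by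
    rw [hC]
    conv_rhs => rw [e1, e2]
  have hinf : L ⊓ M = ⊥ := by
    have := H30.centralizer_inf_eq_bot hM hcore hL
    rwa [← hC, hLC] at this
  have hmin : ∀ K : Subgroup G, K.Normal → K ≤ L → K = ⊥ ∨ K = L := fun K hK hle => by
    have := H30.centralizer_minimal hM hcore hL hK (hle.trans hLC.ge)
    rwa [← hC, hLC] at this
  have hab : ∀ x ∈ L, ∀ y ∈ L, x * y = y * x := fun x hx y hy =>
    Subgroup.mem_centralizer_iff.mp (hLC.ge hy : y ∈ C) x hx
  have htop : L ⊔ M = ⊤ := H30.sup_eq_top_of_corefree hM hcore hL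
  refine ⟨⟨⟨⟨fun a b => Subtype.ext (hab a a.2 b b.2)⟩⟩, ?_⟩,
    H30.isComplement'_of_inf_bot hinf htop, hmin, hLC, fun q _ hq => ?_⟩
  · -- exponent `p`
    let K : Subgroup G :=
      { carrier := {x | x ∈ L ∧ x ^ p = 1}
        one_mem' := ⟨one_mem _, one_pow p⟩
        mul_mem' := fun {a b} ha hb => ⟨mul_mem ha.1 hb.1, by
          rw [(show Commute a b from hab a ha.1 b hb.1).mul_pow, ha.2, hb.2, one_mul]⟩
        inv_mem' := fun {a} ha => ⟨inv_mem ha.1, by rw [inv_pow, ha.2, inv_one]⟩ }
    have hKn : K.Normal := ⟨fun x hx g => ⟨hLn.conj_mem x hx.1 g, by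
      rw [conj_pow, hx.2, mul_one, mul_inv_cancel]⟩⟩
    have hKne : K ≠ ⊥ := fun h => by
      obtain ⟨k, hk⟩ := IsPGroup.iff_card.mp hLp
      have hk0 : k ≠ 0 := fun h0 => hL (Subgroup.card_eq_one.mp (by rw [hk, h0, pow_zero]))
      obtain ⟨x, hx⟩ := exists_prime_orderOf_dvd_card' (G := L) p (hk ▸ dvd_pow_self p hk0)
      have hmem : (x : G) ∈ K := ⟨x.2, by
        rw [← SubmonoidClass.coe_pow, ← hx, pow_orderOf_eq_one]; rfl⟩
      rw [h, Subgroup.mem_bot] at hmem
      rw [← Subgroup.orderOf_coe, hmem, orderOf_one] at hx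
      exact (Fact.out : p.Prime).ne_one hx.symm
    have hKL : K = L := (hmin K hKn fun x hx => hx.1).resolve_left hKne
    exact fun a ha => ((hKL.symm ▸ ha : a ∈ K)).2
  · set Q := (Cfsg.pCore q M).map M.subtype with hQdef
    have hQM : Q ≤ M := Subgroup.map_subtype_le _
    have hQq : IsPGroup q Q := (H61.isPGroup_pCore).map _
    have hQne : Q ≠ ⊥ := fun h => hq
      ((Subgroup.map_eq_bot_iff_of_injective _ M.subtype_injective).mp h)
    have hMQ : M ≤ Subgroup.normalizer (Q : Set G) := fun m hm => by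
      have hn : (Cfsg.pCore q M).Normal := H58.pCore_normal
      have h2 : (⟨m, hm⟩ : M) ∈ Subgroup.normalizer ((Cfsg.pCore q M : Subgroup M) : Set M) :=
        (Subgroup.normalizer_eq_top_iff.mpr hn).symm ▸ Subgroup.mem_top _
      exact Subgroup.le_normalizer_map M.subtype ⟨_, h2, rfl⟩
    have hqp : q ≠ p := by
      rintro rfl
      have hn : (L ⊔ Q).Normal := by
        rw [← Subgroup.normalizer_eq_top_iff, eq_top_iff, ← htop]
        refine sup_le (le_sup_left.trans Subgroup.le_normalizer) (le_normalizer_of_conj fun m hm => ?_)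
        rw [Subgroup.smul_sup, conj_smul_of_normal, conj_smul_of_le_normalizer hMQ hm]
      have h1 : L ⊔ Q ≤ L := H61.le_pCore hn (hLp.to_sup_of_normal_left hQq)
      exact hQne (le_bot_iff.mp (hinf ▸ le_inf (le_sup_right.trans h1) hQM))
    refine ⟨?_, hqp⟩
    -- `Q` acts on `L` without fixed points
    let : MulAction Q L := MulAction.compHom L ((MulAut.conjNormal (H := L)).comp Q.subtype)
    have hfix : ∀ x : L, x ∈ MulAction.fixedPoints Q L → x = 1 := by
      intro x hx
      have hxQ : (x : G) ∈ L ⊓ Subgroup.centralizer (Q : Set G) := by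
        refine ⟨x.2, Subgroup.mem_centralizer_iff.mpr fun a ha => ?_⟩
        have h1 : (MulAut.conjNormal (a : G) x : L) = x := hx ⟨a, ha⟩
        have h2 := congrArg Subtype.val h1
        rw [MulAut.conjNormal_apply] at h2
        exact mul_inv_eq_iff_eq_mul.mp h2
      have hFn : (L ⊓ Subgroup.centralizer (Q : Set G)).Normal := by
        rw [← Subgroup.normalizer_eq_top_iff, eq_top_iff, ← htop]
        refine sup_le (fun y hy => Subgroup.centralizer_le_normalizer _
          (Subgroup.mem_centralizer_iff.mpr fun z hz => hab z hz.1 y hy))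
          (le_normalizer_of_conj fun m hm => ?_)
        rw [Subgroup.smul_inf, conj_smul_of_normal]
        congr 1
        ext z
        rw [mem_conj_smul, Subgroup.mem_centralizer_iff, Subgroup.mem_centralizer_iff]
        have hmn := Subgroup.mem_normalizer_iff''.mp (hMQ hm)
        constructor
        · intro h a ha
          have e : ∀ u v : G, m * ((m⁻¹ * u * m) * (m⁻¹ * v * m)) * m⁻¹ = u * v := fun u v => by
            group
          rw [← e a z, h _ ((hmn a).mp ha), e]
        · intro h a ha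
          have ha' : m * a * m⁻¹ ∈ Q := by
            have := (Subgroup.mem_normalizer_iff.mp (hMQ hm) a).mp ha
            exact this
          have h' := h _ ha'
          calc a * (m⁻¹ * z * m) = m⁻¹ * ((m * a * m⁻¹) * z) * m := by group
            _ = m⁻¹ * (z * (m * a * m⁻¹)) * m := by rw [h']
            _ = m⁻¹ * z * m * a := by group
      rcases hmin _ hFn inf_le_left with h | h
      · rw [h, Subgroup.mem_bot] at hxQ
        exact Subtype.ext hxQ
      · refine absurd ?_ hQne
        rw [← le_bot_iff, ← hinf, ← hLC]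
        refine le_inf (fun a ha => Subgroup.mem_centralizer_iff.mpr fun y hy => ?_) hQM
        exact ((Subgroup.mem_centralizer_iff.mp ((h.ge hy).2)) a ha).symm
    have hcard := hQq.card_modEq_card_fixedPoints L
    have h1 : MulAction.fixedPoints Q L = {(1 : L)} := Set.eq_singleton_iff_unique_mem.mpr
      ⟨fun a => map_one (MulAut.conjNormal (a : G)), hfix⟩
    rw [h1, Nat.card_coe_set_eq, Set.ncard_singleton] at hcard
    exact hcard

end Cfsg.Agent.Hall
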